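import Cfsg.Agent.H452.FprSLTwo
import Cfsg.Agent.H394.SqPsl2
import Cfsg.Agent.S0262
import Cfsg.Agent.S0811
import Cfsg.Agent.S5892
import Cfsg.Agent.S5893

/-!
# Fixed point ratios: `PSL₂(q)`, cross characteristic
-/

set_option autoImplicit false
open Subgroup MulAction Matrix

namespace Cfsg.Agent.H452.FprPsl2

open Cfsg.Agent.H409 Cfsg.Agent.H452.FprCyc Cfsg.Agent.H452.FprTorus Cfsg.Agent.H452.FprRank

/-- In a dihedral group the elements of odd prime order generate normal subgroups. -/
theorem dihedral_zpowers_normal {k p : ℕ} (hp : p.Prime) (hp2 : p ≠ 2) {y : DihedralGroup k}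
    (hy : orderOf y = p) (g : DihedralGroup k) : g * y * g⁻¹ ∈ zpowers y := by
  rcases y with i | i
  · rcases g with j | j
    · refine ⟨1, ?_⟩
      simp [DihedralGroup.r_mul_r, add_comm, add_assoc]
    · refine ⟨-1, ?_⟩
      simp [DihedralGroup.sr_mul_r, DihedralGroup.sr_mul_sr]
  · exfalso
    rw [DihedralGroup.orderOf_sr] at hy
    exact hp2 hy.symm

/-- If a maximal subgroup of a simple group is dihedral of order `2k` and `p ∣ k` is odd, it is
the normaliser of a subgroup of order `p`. -/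
theorem exists_of_dihedral {S : Type*} [Group S] [Finite S] [IsSimpleGroup S] {p : ℕ}
    [Fact p.Prime] (hp2 : p ≠ 2) {k : ℕ} (hk : k ≠ 0) (hpk : p ∣ k) {M : Subgroup S}
    (hM : IsCoatom M) (e : M ≃* DihedralGroup k) (hcard : Nat.card S ≠ p) :
    ∃ x : S, orderOf x = p ∧ Nat.card (normalizer ((zpowers x : Subgroup S) : Set S)) = 2 * k := by
  have hp : p.Prime := Fact.out
  have hDk : Nat.card (DihedralGroup k) = 2 * k := DihedralGroup.nat_card
  have hfin : Finite (DihedralGroup k) := by
    have : 0 < Nat.card (DihedralGroup k) := by rw [hDk]; omega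
    exact Nat.finite_of_card_ne_zero this.ne'
  obtain ⟨y, hy⟩ := exists_prime_orderOf_dvd_card' (G := DihedralGroup k) p
    (by rw [hDk]; exact hpk.mul_left 2)
  set z : M := e.symm y with hz
  have hzo : orderOf z = p := by
    rw [hz, ← hy]
    exact orderOf_injective e.symm.toMonoidHom e.symm.injective y
  have hxo : orderOf (z : S) = p := by rw [Subgroup.orderOf_coe, hzo]
  refine ⟨(z : S), hxo, ?_⟩
  have h1 : M ≤ normalizer ((zpowers (z : S) : Subgroup S) : Set S) := by
    intro g hg
    have h2 : ∀ g : M, (g : S) * z * (g : S)⁻¹ ∈ zpowers (z : S) := by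
      intro g
      have h3 := dihedral_zpowers_normal hp hp2 hy (e g)
      obtain ⟨j, hj⟩ := h3
      refine ⟨j, ?_⟩
      have h4 : z ^ j = g * z * g⁻¹ := by
        apply e.injective
        rw [map_zpow, map_mul, map_mul, map_inv, hz, MulEquiv.apply_symm_apply]
        exact hj
      have h5 := congrArg (fun a : M => (a : S)) h4
      simpa using h5
    rw [mem_normalizer_iff_map_conj_eq]
    have h8 : (zpowers (z : S)).map (MulAut.conj g).toMonoidHom ≤ zpowers (z : S) := by
      rw [MonoidHom.map_zpowers, zpowers_le]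
      exact h2 ⟨g, hg⟩
    apply Subgroup.eq_of_le_of_card_ge h8
    exact (Nat.card_congr ((zpowers (z : S)).equivMapOfInjective _ (MulAut.conj g).injective).toEquiv).le
  rcases h1.eq_or_lt with h2 | h2
  · rw [← h2, Nat.card_congr e.toEquiv, hDk]
  · exfalso
    have h3 := hM.2 _ h2
    have h4 : (zpowers (z : S)).Normal := normalizer_eq_top_iff.1 h3
    have h5 : Nat.card (zpowers (z : S)) = p := by rw [Nat.card_zpowers, hxo]
    rcases h4.eq_bot_or_eq_top with h6 | h6
    · rw [h6, Subgroup.card_bot] at h5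
      exact hp.one_lt.ne h5
    · rw [h6, Subgroup.card_top] at h5
      exact hcard h5

/-- The Sylow `p`-subgroups of a quotient. -/
theorem cyclic_of_surjective {G S : Type*} [Group G] [Finite G] [Group S] [Finite S] {p : ℕ}
    [Fact p.Prime] (hc : ∀ P : Sylow p G, IsCyclic P) (f : G →* S) (hf : Function.Surjective f)
    (P : Sylow p S) : IsCyclic P := by
  obtain ⟨Q⟩ : Nonempty (Sylow p G) := inferInstance
  have hQ := hc Q
  let P' : Sylow p S := Q.mapSurjective hf
  have hP' : IsCyclic (P' : Subgroup S) := by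
    have h7 : (P' : Subgroup S) = (Q : Subgroup G).map f := Sylow.coe_mapSurjective _ _
    rw [h7]
    exact isCyclic_of_surjective (f.subgroupMap (Q : Subgroup G))
      (f.subgroupMap_surjective _)
  exact isCyclic_of_surjective (P'.equiv P) (P'.equiv P).surjective

theorem pfin {F : Type*} [Field F] [Finite F] :
    Finite (Matrix.ProjectiveSpecialLinearGroup (Fin 2) F) := by
  have : Fintype F := Fintype.ofFinite F
  exact Quotient.finite _

theorem psl_cyclic {F : Type*} [Field F] [Fintype F] {p : ℕ} [hp : Fact p.Prime] (hp2 : p ≠ 2)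
    (hpq : ¬ p ∣ Fintype.card F) (P : Sylow p (Matrix.ProjectiveSpecialLinearGroup (Fin 2) F)) :
    IsCyclic P := by
  obtain ⟨r, hchar⟩ := CharP.exists F
  have hr : Fact r.Prime := ⟨CharP.char_is_prime F r⟩
  obtain ⟨N, -, hN⟩ := FiniteField.card F r
  have hpr : p ≠ r := by
    rintro rfl
    exact hpq (hN ▸ dvd_pow_self p N.2.ne')
  have := pfin (F := F)
  exact cyclic_of_surjective (fun Q => Cfsg.Agent.S0262.result r p hp2 hpr Q)
    (QuotientGroup.mk' (center (SpecialLinearGroup (Fin 2) F)))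
    (QuotientGroup.mk'_surjective _) P

/-- The numbers for the nonsplit torus, `q` odd. -/
theorem row_nonsplit {F : Type*} [Field F] [Fintype F] {p : ℕ} [hp : Fact p.Prime] (hp2 : p ≠ 2)
    (h7 : 7 ≤ Fintype.card F) (h9 : Fintype.card F ≠ 9) (hpq : p ∣ Fintype.card F + 1) :
    FprRow (p + 1) 1 p (Matrix.ProjectiveSpecialLinearGroup (Fin 2) F) := by
  have hfin := pfin (F := F)
  have hs : IsSimpleGroup (Matrix.ProjectiveSpecialLinearGroup (Fin 2) F) :=
    Matrix.ProjectiveSpecialLinearGroup.rank_two_simple (by rw [Nat.card_eq_fintype_card]; omega)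
  have hp1 : p.Prime := hp.out
  have hp3 : 3 ≤ p := by
    have := hp1.two_le
    omega
  have hnq : ¬ p ∣ Fintype.card F := by
    intro h
    exact hp1.one_lt.ne' (Nat.dvd_one.1 ((Nat.dvd_add_right h).1 hpq))
  have hnq1 : ¬ p ∣ Fintype.card F - 1 := by
    intro h
    have h3 : p ∣ (Fintype.card F + 1) - (Fintype.card F - 1) := Nat.dvd_sub hpq h
    rw [show (Fintype.card F + 1) - (Fintype.card F - 1) = 2 by omega] at h3
    exact hp2 ((Nat.prime_dvd_prime_iff_eq hp1 Nat.prime_two).1 h3)
  have hq7 : Fintype.card F ≠ 7 := by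
    intro h
    rw [h] at hpq
    have h3 : p ∣ 2 ^ 3 := hpq
    exact hp2 ((Nat.prime_dvd_prime_iff_eq hp1 Nat.prime_two).1 (hp1.dvd_of_dvd_pow h3))
  have hcyc := fun P => psl_cyclic (F := F) hp2 hnq P
  have hcard := Cfsg.Agent.H394.SqPsl2.card_psl (F := F)
  have hfac := Cfsg.Agent.H394.SqPsl2.sub_mul_self (q := Fintype.card F) (by omega)
  obtain ⟨M, hM, ⟨e⟩⟩ := Cfsg.Agent.S0811.result (F := F) rfl (by
    simp only [Finset.mem_insert, Finset.mem_singleton, not_or]
    omega)
  -- the order of `H` and the numerical condition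
  have hcrit : ∀ N n : ℕ, 4 * N ≤ 3 * n → (p + 1) * N ≤ p * n := by
    intro N n h
    have h3 : 3 * ((p + 1) * N) ≤ 3 * (p * n) := by
      calc 3 * ((p + 1) * N) = (3 * p + 3) * N := by ring
        _ ≤ (4 * p) * N := Nat.mul_le_mul_right _ (by omega)
        _ = p * (4 * N) := by ring
        _ ≤ p * (3 * n) := Nat.mul_le_mul_left _ h
        _ = 3 * (p * n) := by ring
    omega
  obtain ⟨q, hq⟩ : ∃ q, Fintype.card F = q := ⟨_, rfl⟩
  have h5892 := fun (r : ℕ) (hr : Fact r.Prime) (hc : CharP F r) => Cfsg.Agent.S5892.result (F := F) r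
  have h5893 := Cfsg.Agent.S5893.result (F := F)
  rw [hq] at h7 h9 hpq hnq hnq1 hq7 hcard hfac e h5892 h5893
  have hq1 : ∃ c, q - 1 = c ∧ q = c + 1 := ⟨q - 1, rfl, by omega⟩
  obtain ⟨c, hc1, hc2⟩ := hq1
  rcases Nat.even_or_odd q with heven | hodd
  · -- `q` even
    have hg : Nat.gcd 2 (q - 1) = 1 := by
      rw [← Nat.coprime_iff_gcd_eq_one, Nat.coprime_two_left]
      exact Nat.Even.sub_odd (by omega) heven odd_one
    have h8 : 8 ≤ q := by
      obtain ⟨a, ha⟩ := heven
      omega
    rw [hg, one_mul, hfac] at hcard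
    rw [hg, Nat.div_one] at e
    obtain ⟨x, hx, hN⟩ := exists_of_dihedral hp2 (by omega) hpq hM e (by
      intro h
      rw [h] at hcard
      have h2 : p ≤ q + 1 := Nat.le_of_dvd (by omega) hpq
      have h3 : 1 * ((q + 1) * 2) ≤ q * ((q + 1) * (q - 1)) :=
        Nat.mul_le_mul (by omega) (Nat.mul_le_mul_left _ (by omega))
      omega)
    refine row_cyclic_coatom hcyc hx (N := 2 * (q + 1)) hN.le ?_
    intro H hH hpH
    left
    apply hcrit
    have hmul := H.card_mul_index
    rw [hcard] at hmul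
    rcases h5893 heven (by omega) H hH with h | ⟨⟨f⟩⟩ | ⟨⟨f⟩⟩ | ⟨K, _, _, r, hr, hK2, hKr, ⟨f⟩⟩
    · exfalso
      rw [h] at hpH
      rcases hp1.dvd_mul.1 hpH with h1 | h1
      · exact hnq h1
      · exact hnq1 h1
    · exfalso
      rw [Nat.card_congr f.toEquiv, DihedralGroup.nat_card] at hpH
      rcases hp1.dvd_mul.1 hpH with h1 | h1
      · exact hp2 ((Nat.prime_dvd_prime_iff_eq hp1 Nat.prime_two).1 h1)
      · exact hnq1 h1
    · rw [Nat.card_congr f.toEquiv, DihedralGroup.nat_card] at hmul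
      have h1 : 2 * H.index = q * (q - 1) := by
        apply Nat.eq_of_mul_eq_mul_left (show 0 < q + 1 by omega)
        linarith
      rw [hc1] at h1
      subst hc2
      nlinarith
    · have h1 := Cfsg.Agent.H394.SqPsl2.card_psl (F := K)
      obtain ⟨q0, hq0⟩ : ∃ q0, Fintype.card K = q0 := ⟨_, rfl⟩
      have hq01 : 1 < q0 := hq0 ▸ Fintype.one_lt_card
      rw [hq0] at h1 hK2 hKr
      have hg0 : Nat.gcd 2 (q0 - 1) = 1 := by
        rw [← Nat.coprime_iff_gcd_eq_one, Nat.coprime_two_left]
        refine Nat.Even.sub_odd (by omega) ?_ odd_one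
        rw [hKr] at heven
        exact (Nat.even_pow.1 heven).1
      rw [hg0, one_mul, ← Nat.card_congr f.toEquiv] at h1
      have hfac0 := Cfsg.Agent.H394.SqPsl2.sub_mul_self (q := q0) (by omega)
      by_cases hr2 : r = 2
      · exfalso
        subst hr2
        rw [h1, ← hKr] at hpH
        rcases hp1.dvd_mul.1 hpH with h2 | h2
        · exact hnq (hKr ▸ h2.trans (dvd_pow_self q0 (by norm_num)))
        · exact hnq1 h2
      · have hr3 : 3 ≤ r := by
          have := hr.two_le
          omega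
        have h2 : Nat.card H ≤ q := by
          rw [h1, hKr]
          calc q0 * (q0 ^ 2 - 1) ≤ q0 * q0 ^ 2 := Nat.mul_le_mul_left _ (Nat.sub_le _ _)
            _ = q0 ^ 3 := by ring
            _ ≤ q0 ^ r := Nat.pow_le_pow_right (by omega) hr3
        have h3 : (q + 1) * (q - 1) ≤ H.index := by
          apply Nat.le_of_mul_le_mul_left _ (show 0 < q by omega)
          rw [← hmul]
          exact Nat.mul_le_mul_right _ h2
        rw [hc1] at h3
        subst hc2
        nlinarith
  · -- `q` odd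
    have hg : Nat.gcd 2 (q - 1) = 2 := by
      apply Nat.gcd_eq_left
      exact (Nat.Odd.sub_odd hodd odd_one).two_dvd
    have h11 : 11 ≤ q := by
      obtain ⟨a, ha⟩ := hodd
      omega
    obtain ⟨k, hk⟩ : ∃ k, q + 1 = 2 * k := by
      obtain ⟨a, ha⟩ := hodd
      exact ⟨a + 1, by omega⟩
    rw [hg, hfac] at hcard
    rw [hg, show (q + 1) / 2 = k by omega] at e
    have hpk : p ∣ k := by
      rw [hk] at hpq
      rcases hp1.dvd_mul.1 hpq with h1 | h1
      · exact absurd ((Nat.prime_dvd_prime_iff_eq hp1 Nat.prime_two).1 h1) hp2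
      · exact h1
    obtain ⟨x, hx, hN⟩ := exists_of_dihedral hp2 (by omega) hpk hM e (by
      intro h
      rw [h] at hcard
      have h2 : p ≤ q + 1 := Nat.le_of_dvd (by omega) hpq
      have h3 : 1 * ((q + 1) * 3) ≤ q * ((q + 1) * (q - 1)) :=
        Nat.mul_le_mul (by omega) (Nat.mul_le_mul_left _ (by omega))
      omega)
    rw [← hk] at hN
    refine row_cyclic_coatom hcyc hx (N := q + 1) hN.le ?_
    intro H hH hpH
    have hmul := H.card_mul_index
    have hmul2 : 2 * (Nat.card H * H.index) = q * ((q + 1) * (q - 1)) := by rw [hmul, hcard]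
    obtain ⟨r, hchar⟩ := CharP.exists F
    have hr : Fact r.Prime := ⟨CharP.char_is_prime F r⟩
    rcases h5892 r hr hchar hodd (by omega) H hH with h | ⟨-, j, hj, ⟨f⟩⟩ | ⟨-, -, j, hj, ⟨f⟩⟩ |
      ⟨K, _, _, hK, ⟨f⟩⟩ | ⟨K, _, _, r', hr', hr'o, hK, ⟨f⟩⟩ | ⟨h10, -, ⟨f⟩⟩ | ⟨-, -, -, ⟨f⟩⟩ | ⟨-, -, ⟨f⟩⟩
    · exfalso
      have h0 : p ∣ q * (q - 1) := h ▸ hpH.mul_left 2
      rcases hp1.dvd_mul.1 h0 with h1 | h1
      · exact hnq h1
      · exact hnq1 h1
    · exfalso
      rw [Nat.card_congr f.toEquiv, DihedralGroup.nat_card, hj] at hpH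
      exact hnq1 hpH
    · left
      apply hcrit
      rw [Nat.card_congr f.toEquiv, DihedralGroup.nat_card, hj] at hmul2
      have h1 : 2 * H.index = q * (q - 1) := by
        apply Nat.eq_of_mul_eq_mul_left (show 0 < q + 1 by omega)
        linarith
      rw [hc1] at h1
      subst hc2
      nlinarith
    · exfalso
      have h1 := Cfsg.Agent.H394.SqPsl2.card_pgl (F := K)
      rw [← Nat.card_congr f.toEquiv, ← hK] at h1
      rw [h1] at hpH
      rcases hp1.dvd_mul.1 hpH with h2 | h2
      · exact hnq (hK ▸ h2.trans (dvd_pow_self _ (by norm_num)))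
      · exact hnq1 h2
    · left
      apply hcrit
      have h1 := Cfsg.Agent.H394.SqPsl2.card_psl (F := K)
      obtain ⟨q0, hq0⟩ : ∃ q0, Fintype.card K = q0 := ⟨_, rfl⟩
      have hq01 : 1 < q0 := hq0 ▸ Fintype.one_lt_card
      rw [hq0] at h1 hK
      rw [← Nat.card_congr f.toEquiv] at h1
      have hg0 : 1 ≤ Nat.gcd 2 (q0 - 1) := Nat.gcd_pos_of_pos_left _ (by norm_num)
      have hr3 : 3 ≤ r' := by
        have h2 := hr'.two_le
        obtain ⟨a, ha⟩ := hr'o
        omega
      have h2 : Nat.card H ≤ q := by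
        calc Nat.card H ≤ Nat.gcd 2 (q0 - 1) * Nat.card H := Nat.le_mul_of_pos_left _ hg0
          _ = q0 * (q0 ^ 2 - 1) := h1
          _ ≤ q0 * q0 ^ 2 := Nat.mul_le_mul_left _ (Nat.sub_le _ _)
          _ = q0 ^ 3 := by ring
          _ ≤ q0 ^ r' := Nat.pow_le_pow_right (by omega) hr3
          _ = q := hK.symm
      have h3 : (q + 1) * (q - 1) ≤ 2 * H.index := by
        apply Nat.le_of_mul_le_mul_left _ (show 0 < q by omega)
        rw [← hmul2]
        calc 2 * (Nat.card H * H.index) = Nat.card H * (2 * H.index) := by ring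
          _ ≤ q * (2 * H.index) := Nat.mul_le_mul_right _ h2
      rw [hc1] at h3
      subst hc2
      nlinarith
    · -- `A₅`
      have h12 : Nat.card H = 60 := by
        rw [Nat.card_congr f.toEquiv, nat_card_alternatingGroup, Nat.card_eq_fintype_card,
          Fintype.card_fin]
        rfl
      rw [h12] at hmul2 hpH
      by_cases h14 : 14 ≤ q
      · left
        apply hcrit
        rw [hc1] at hmul2
        subst hc2
        have h1 : (c + 1 + 1) * (120 * H.index) = (c + 1 + 1) * (120 * H.index) := rfl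
        have h2 : 160 * (c + 1 + 1) ≤ (c + 1) * ((c + 1 + 1) * c) := by
          have h3 : 14 * 13 ≤ (c + 1) * c := Nat.mul_le_mul (by omega) (by omega)
          calc 160 * (c + 1 + 1) ≤ ((c + 1) * c) * (c + 1 + 1) := Nat.mul_le_mul_right _ (by omega)
            _ = (c + 1) * ((c + 1 + 1) * c) := by ring
        omega
      · right
        have h11' : q = 11 := by
          obtain ⟨a, ha⟩ := hodd
          omega
        subst h11'
        have hn : H.index = 11 := by omega
        have hp3' : p = 3 := by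
          have h2 : p ∣ 2 ^ 2 * 3 := hpq
          rcases hp1.dvd_mul.1 h2 with h3 | h3
          · exact absurd ((Nat.prime_dvd_prime_iff_eq hp1 Nat.prime_two).1 (hp1.dvd_of_dvd_pow h3)) hp2
          · exact (Nat.prime_dvd_prime_iff_eq hp1 Nat.prime_three).1 h3
        subst hp3'
        intro f' hf' hmod
        rw [hn] at hmod ⊢
        have h2 : f' ≤ 4 := by omega
        have h3 : 11 % 3 = f' % 3 := hmod
        omega
    · -- `A₄`
      left
      apply hcrit
      have h12 : Nat.card H = 12 := by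
        rw [Nat.card_congr f.toEquiv, nat_card_alternatingGroup, Nat.card_eq_fintype_card,
          Fintype.card_fin]
        rfl
      rw [h12, hc1] at hmul2
      subst hc2
      have h2 : 32 * (c + 1 + 1) ≤ (c + 1) * ((c + 1 + 1) * c) := by
        have h3 : 11 * 10 ≤ (c + 1) * c := Nat.mul_le_mul (by omega) (by omega)
        calc 32 * (c + 1 + 1) ≤ ((c + 1) * c) * (c + 1 + 1) := Nat.mul_le_mul_right _ (by omega)
          _ = (c + 1) * ((c + 1 + 1) * c) := by ring
      omega
    · -- `S₄`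
      left
      apply hcrit
      have h12 : Nat.card H = 24 := by
        rw [Nat.card_congr f.toEquiv, Nat.card_perm, Nat.card_eq_fintype_card, Fintype.card_fin]
        rfl
      rw [h12, hc1] at hmul2
      subst hc2
      have h2 : 64 * (c + 1 + 1) ≤ (c + 1) * ((c + 1 + 1) * c) := by
        have h3 : 11 * 10 ≤ (c + 1) * c := Nat.mul_le_mul (by omega) (by omega)
        calc 64 * (c + 1 + 1) ≤ ((c + 1) * c) * (c + 1 + 1) := Nat.mul_le_mul_right _ (by omega)
          _ = (c + 1) * ((c + 1 + 1) * c) := by ring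
      omega

/-- **`PSL₂(q)`, cross characteristic**: `q ∉ {2, 3, 4, 5, 9}`, `p ≠ 2`, `p ∤ q`, `q ≠ p + 1`. -/
theorem row_psl2 {F : Type*} [Field F] [Fintype F] {p : ℕ} [hp : Fact p.Prime] (hp2 : p ≠ 2)
    (h7 : 7 ≤ Fintype.card F) (h9 : Fintype.card F ≠ 9) (hpq : ¬ p ∣ Fintype.card F)
    (hbad : Fintype.card F ≠ p + 1)
    (hdvd : p ∣ Nat.card (Matrix.ProjectiveSpecialLinearGroup (Fin 2) F)) :
    FprRow (p + 1) 1 p (Matrix.ProjectiveSpecialLinearGroup (Fin 2) F) := by
  have hp1 : p.Prime := hp.out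
  have hcard := Cfsg.Agent.H394.SqPsl2.card_psl (F := F)
  have hfac := Cfsg.Agent.H394.SqPsl2.sub_mul_self (q := Fintype.card F) (by omega)
  rw [hfac] at hcard
  have h1 : p ∣ Fintype.card F * ((Fintype.card F + 1) * (Fintype.card F - 1)) := by
    rw [← hcard]
    exact hdvd.mul_left _
  rcases hp1.dvd_mul.1 h1 with h2 | h2
  · exact absurd h2 hpq
  rcases hp1.dvd_mul.1 h2 with h3 | h3
  · exact row_nonsplit hp2 h7 h9 h3
  · refine FprRow.of_surjective hp1 (QuotientGroup.mk' (center (SpecialLinearGroup (Fin 2) F)))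
      (QuotientGroup.mk'_surjective _) (Cfsg.Agent.H452.FprSLTwo.row_split hp2 ?_ ?_)
    · rw [Nat.card_eq_fintype_card]; exact h3
    · rw [Nat.card_eq_fintype_card]; exact hbad

/-- **`PSL₂(q)`, cross characteristic**, up to isomorphism. -/
theorem row_psl2' {T : Type*} [Group T] {F : Type*} [Field F] [Fintype F] {p : ℕ}
    [hp : Fact p.Prime] (hp2 : p ≠ 2)
    (h7 : 7 ≤ Fintype.card F) (h9 : Fintype.card F ≠ 9) (hpq : ¬ p ∣ Fintype.card F)
    (hbad : Fintype.card F ≠ p + 1)
    (e : T ≃* Matrix.ProjectiveSpecialLinearGroup (Fin 2) F) (hdvd : p ∣ Nat.card T) :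
    FprRow (p + 1) 1 p T := by
  have := pfin (F := F)
  exact FprRow.of_mulEquiv hp.out e.symm (row_psl2 hp2 h7 h9 hpq hbad
    (by rw [← Nat.card_congr e.toEquiv]; exact hdvd))

end Cfsg.Agent.H452.FprPsl2
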