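import Cfsg.Agent.H409.FprTwoRad
import Cfsg.Agent.H409.FprAvg

/-!
# Fixed point ratios: cyclic Sylow subgroups, mixed radicals
-/

set_option autoImplicit false
open Subgroup MulAction
open scoped Pointwise

namespace Cfsg.Agent.H452.FprCyc

open Cfsg.Agent.H409

variable {S : Type*} [Group S] [Finite S] {p : ℕ}

/-- In a cyclic group the elements of order `p` generate the same subgroup. -/
theorem zpowers_eq_of_cyclic {Q : Type*} [Group Q] [Finite Q] [IsCyclic Q] (hp : p.Prime)
    {x y : Q} (hx : orderOf x = p) (hy : orderOf y = p) : zpowers x = zpowers y := by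
  classical
  have : Fintype Q := Fintype.ofFinite Q
  have key : ∀ z : Q, orderOf z = p → ((zpowers z : Subgroup Q) : Set Q) = {a : Q | a ^ p = 1} := by
    intro z hz
    apply Set.eq_of_subset_of_ncard_le
    · rintro _ ⟨k, rfl⟩
      change (z ^ k) ^ p = 1
      rw [← zpow_natCast, ← zpow_mul, mul_comm, zpow_mul, zpow_natCast, ← hz, pow_orderOf_eq_one,
        one_zpow]
    · have h1 := IsCyclic.card_pow_eq_one_le (α := Q) hp.pos
      have h2 : {a : Q | a ^ p = 1} = ((Finset.univ.filter fun a : Q => a ^ p = 1 : Finset Q) : Set Q) := by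
        ext a; simp
      rw [h2, Set.ncard_coe_finset]
      refine h1.trans ?_
      rw [← Nat.card_coe_set_eq]
      change p ≤ Nat.card (zpowers z)
      rw [Nat.card_zpowers, hz]
    · exact Set.toFinite _
  apply SetLike.coe_injective
  rw [key x hx, key y hy]

/-- The number of fixed points of an element of order `p` when the Sylow `p`-subgroups are
cyclic. -/
theorem cyclic_fix [Fact p.Prime] (hc : ∀ P : Sylow p S, IsCyclic P) {x : S} (hx : orderOf x = p)
    (H : Subgroup S) :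
    p * Nat.card (fixedBy (S ⧸ H) x) ≤ Nat.card (normalizer ((zpowers x : Subgroup S) : Set S)) := by
  classical
  have hp : p.Prime := Fact.out
  rcases (fixedBy (S ⧸ H) x).eq_empty_or_nonempty with he | ⟨ω0, hω0⟩
  · rw [he]; simp
  set N := normalizer ((zpowers x : Subgroup S) : Set S) with hN
  set H0 := stabilizer S ω0 with hH0
  have hxH0 : x ∈ H0 := hω0
  -- the Sylow subgroups of `H0` are cyclic
  have hcH : ∀ Q : Sylow p H0, IsCyclic Q := by
    intro Q
    have h1 : IsPGroup p ((Q : Subgroup H0).map H0.subtype) := Q.isPGroup'.map _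
    obtain ⟨P, hP⟩ := h1.exists_le_sylow
    have := hc P
    let f : Q →* P := (Subgroup.inclusion hP).comp
      ((H0.subtype.subgroupMap (Q : Subgroup H0)))
    refine isCyclic_of_injective f ?_
    intro a b hab
    have h2 : (((a : H0) : S)) = ((b : H0) : S) := congrArg (fun z : P => (z : S)) hab
    exact Subtype.ext (Subtype.ext h2)
  -- transitivity
  have key : ∀ ω : S ⧸ H, x • ω = ω → ∃ n ∈ N, n • ω0 = ω := by
    intro ω hω
    obtain ⟨s, rfl⟩ := exists_smul_eq S ω0 ω
    set y := s⁻¹ * x * s with hy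
    have hyH0 : y ∈ H0 := by
      rw [hH0, mem_stabilizer_iff, hy, mul_smul, mul_smul, hω, inv_smul_smul]
    have hyo : orderOf y = p := by
      rw [← hx, hy]
      have h1 : s⁻¹ * x * s = MulAut.conj s⁻¹ x := by simp [MulAut.conj_apply]
      rw [h1]
      exact orderOf_injective (MulAut.conj s⁻¹).toMonoidHom (MulAut.conj s⁻¹).injective x
    have hpx : IsPGroup p (zpowers (⟨x, hxH0⟩ : H0)) := by
      apply IsPGroup.of_card (n := 1)
      rw [Nat.card_zpowers, Subgroup.orderOf_mk, hx, pow_one]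
    have hpy : IsPGroup p (zpowers (⟨y, hyH0⟩ : H0)) := by
      apply IsPGroup.of_card (n := 1)
      rw [Nat.card_zpowers, Subgroup.orderOf_mk, hyo, pow_one]
    obtain ⟨Q1, hQ1⟩ := hpx.exists_le_sylow
    obtain ⟨Q2, hQ2⟩ := hpy.exists_le_sylow
    obtain ⟨h, hh⟩ := exists_smul_eq H0 Q2 Q1
    have hyQ : h * ⟨y, hyH0⟩ * h⁻¹ ∈ (Q1 : Subgroup H0) := by
      rw [← hh, Sylow.smul_def]
      exact ⟨⟨y, hyH0⟩, hQ2 (mem_zpowers _), rfl⟩
    have hxQ : (⟨x, hxH0⟩ : H0) ∈ (Q1 : Subgroup H0) := hQ1 (mem_zpowers _)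
    have := hcH Q1
    have h3 := zpowers_eq_of_cyclic (Q := Q1) hp (x := ⟨_, hyQ⟩) (y := ⟨_, hxQ⟩)
      (by
        rw [Subgroup.orderOf_mk, ← hyo]
        have h4 : orderOf (h * ⟨y, hyH0⟩ * h⁻¹ : H0) = orderOf (⟨y, hyH0⟩ : H0) :=
          orderOf_injective (MulAut.conj h).toMonoidHom (MulAut.conj h).injective ⟨y, hyH0⟩
        rw [h4, Subgroup.orderOf_mk])
      (by rw [Subgroup.orderOf_mk, Subgroup.orderOf_mk, hx])
    have h5 : (h : S) * y * (h : S)⁻¹ ∈ zpowers x := by
      have h6 : (⟨_, hyQ⟩ : Q1) ∈ zpowers (⟨_, hxQ⟩ : Q1) := by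
        rw [← h3]
        exact mem_zpowers _
      obtain ⟨k, hk⟩ := h6
      refine ⟨k, ?_⟩
      have h7 := congrArg (fun z : Q1 => ((z : H0) : S)) hk
      simpa using h7
    refine ⟨s * (h : S)⁻¹, ?_, ?_⟩
    · -- conjugation by `(s h⁻¹)⁻¹` maps `x` into `⟨x⟩`
      set n := s * (h : S)⁻¹ with hn
      have h6 : n⁻¹ * x * n ∈ zpowers x := by
        have : n⁻¹ * x * n = (h : S) * y * (h : S)⁻¹ := by rw [hn, hy]; group
        rw [this]
        exact h5
      have h7 : n⁻¹ ∈ N := by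
        rw [hN, mem_normalizer_iff_map_conj_eq]
        have h8 : (zpowers x).map (MulAut.conj n⁻¹).toMonoidHom ≤ zpowers x := by
          rw [MonoidHom.map_zpowers, zpowers_le]
          change n⁻¹ * x * n⁻¹⁻¹ ∈ _
          rwa [inv_inv]
        apply Subgroup.eq_of_le_of_card_ge h8
        exact (Nat.card_congr ((zpowers x).equivMapOfInjective _ (MulAut.conj n⁻¹).injective).toEquiv).le
      have := N.inv_mem h7
      rwa [inv_inv] at this
    · rw [mul_smul]
      have h8 : (h : S)⁻¹ • ω0 = ω0 := by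
        rw [inv_smul_eq_iff]
        exact (h.2 : (h : S) • ω0 = ω0).symm
      rw [h8]
  -- counting
  have h1 : fixedBy (S ⧸ H) x ⊆ orbit N ω0 := by
    intro ω hω
    obtain ⟨n, hn, hnω⟩ := key ω hω
    exact ⟨⟨n, hn⟩, hnω⟩
  have h2 : Nat.card (fixedBy (S ⧸ H) x) ≤ Nat.card (orbit N ω0) := by
    rw [Nat.card_coe_set_eq, Nat.card_coe_set_eq]
    exact Set.ncard_le_ncard h1 (Set.toFinite _)
  have h3 : Nat.card (orbit N ω0) * Nat.card (stabilizer N ω0) = Nat.card N := by
    rw [Nat.card_congr (orbitEquivQuotientStabilizer N ω0)]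
    exact (Subgroup.card_eq_card_quotient_mul_card_subgroup _).symm
  have hxN : x ∈ N := by
    rw [hN]
    exact le_normalizer (mem_zpowers x)
  have h4 : p ≤ Nat.card (stabilizer N ω0) := by
    have h5 : p ∣ Nat.card (stabilizer N ω0) := by
      have h6 : (⟨x, hxN⟩ : N) ∈ stabilizer N ω0 := hω0
      have h7 := orderOf_dvd_natCard (⟨_, h6⟩ : stabilizer N ω0)
      rwa [Subgroup.orderOf_mk, Subgroup.orderOf_mk, hx] at h7
    exact Nat.le_of_dvd Nat.card_pos h5
  calc p * Nat.card (fixedBy (S ⧸ H) x) ≤ Nat.card (stabilizer N ω0) * Nat.card (orbit N ω0) :=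
        Nat.mul_le_mul h4 h2
    _ = Nat.card N := by rw [mul_comm, h3]

theorem fixedBy_empty (hp : p.Prime) {x : S} (hx : orderOf x = p) {H : Subgroup S}
    (hH : ¬ p ∣ Nat.card H) : Nat.card (fixedBy (S ⧸ H) x) = 0 := by
  have h1 : fixedBy (S ⧸ H) x = ∅ := by
    rw [Set.eq_empty_iff_forall_notMem]
    intro w hw
    obtain ⟨w, rfl⟩ := QuotientGroup.mk_surjective w
    have h2 : ((x * w : S) : S ⧸ H) = (w : S ⧸ H) := hw
    rw [eq_comm, QuotientGroup.eq] at h2
    apply hH
    have h3 := orderOf_dvd_natCard (⟨_, h2⟩ : H)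
    rw [Subgroup.orderOf_mk] at h3
    have h4 : orderOf (w⁻¹ * (x * w)) = p := by
      rw [← hx]
      have h5 : w⁻¹ * (x * w) = MulAut.conj w⁻¹ x := by simp [MulAut.conj_apply, mul_assoc]
      rw [h5]
      exact orderOf_injective (MulAut.conj w⁻¹).toMonoidHom (MulAut.conj w⁻¹).injective x
    rwa [h4] at h3
  rw [h1]; simp

/-- The number of fixed points of an element of order `p` is congruent to the number of points. -/
theorem fix_modEq [Fact p.Prime] {x : S} (hx : orderOf x = p) (H : Subgroup S) :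
    Nat.card (S ⧸ H) ≡ Nat.card (fixedBy (S ⧸ H) x) [MOD p] := by
  have hP : IsPGroup p (zpowers x) := IsPGroup.of_card (n := 1) (by rw [Nat.card_zpowers, hx, pow_one])
  have h1 := hP.card_modEq_card_fixedPoints (α := S ⧸ H)
  have h2 : (fixedPoints (zpowers x) (S ⧸ H)) = fixedBy (S ⧸ H) x := by
    ext ω
    constructor
    · intro h
      exact h ⟨x, mem_zpowers x⟩
    · intro h
      rintro ⟨_, k, rfl⟩
      have h3 : x ∈ stabilizer S ω := h
      exact (stabilizer S ω).zpow_mem h3 k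
  rwa [h2] at h1

/-- **Cyclic Sylow subgroups**, numerical criterion. -/
theorem row_cyclic [Fact p.Prime] (hc : ∀ P : Sylow p S, IsCyclic P) {x : S} (hx : orderOf x = p)
    {N : ℕ} (hN : Nat.card (normalizer ((zpowers x : Subgroup S) : Set S)) ≤ N)
    (hind : ∀ H : Subgroup S, H ≠ ⊤ → p ∣ Nat.card H → (p + 1) * N ≤ p * H.index) :
    FprRow (p + 1) 1 p S := by
  have hp : p.Prime := Fact.out
  intro H hH
  refine ⟨x, ⟨1, by rw [hx, pow_one]⟩, ?_⟩
  rw [one_mul]
  by_cases hpH : p ∣ Nat.card H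
  · have h1 := cyclic_fix hc hx H
    have h2 := hind H hH hpH
    apply Nat.le_of_mul_le_mul_left _ hp.pos
    calc p * ((p + 1) * Nat.card (fixedBy (S ⧸ H) x))
        = (p + 1) * (p * Nat.card (fixedBy (S ⧸ H) x)) := by ring
      _ ≤ (p + 1) * N := Nat.mul_le_mul_left _ (h1.trans hN)
      _ ≤ p * H.index := h2
  · rw [fixedBy_empty hp hx hpH]
    simp

/-- **Cyclic Sylow subgroups**, criterion for the maximal subgroups. -/
theorem row_cyclic_coatom [Fact p.Prime] (hc : ∀ P : Sylow p S, IsCyclic P) {x : S}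
    (hx : orderOf x = p)
    {N : ℕ} (hN : Nat.card (normalizer ((zpowers x : Subgroup S) : Set S)) ≤ N)
    (hind : ∀ H : Subgroup S, IsCoatom H → p ∣ Nat.card H → (p + 1) * N ≤ p * H.index ∨
      ∀ f : ℕ, p * f ≤ N → H.index ≡ f [MOD p] → (p + 1) * f ≤ H.index) :
    FprRow (p + 1) 1 p S := by
  have hp : p.Prime := Fact.out
  apply FprRow.of_coatom
  intro H hH
  refine ⟨x, ⟨1, by rw [hx, pow_one]⟩, ?_⟩
  rw [one_mul]
  by_cases hpH : p ∣ Nat.card H
  · have h1 := cyclic_fix hc hx H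
    rcases hind H hH hpH with h2 | h2
    · apply Nat.le_of_mul_le_mul_left _ hp.pos
      calc p * ((p + 1) * Nat.card (fixedBy (S ⧸ H) x))
          = (p + 1) * (p * Nat.card (fixedBy (S ⧸ H) x)) := by ring
        _ ≤ (p + 1) * N := Nat.mul_le_mul_left _ (h1.trans hN)
        _ ≤ p * H.index := h2
    · exact h2 _ (h1.trans hN) (fix_modEq hx H)
  · rw [fixedBy_empty hp hx hpH]
    simp

end Cfsg.Agent.H452.FprCyc
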