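import Cfsg.Agent.H452.FprRank
import Cfsg.Agent.H452.FprDeg
import Cfsg.Agent.S1155
import Cfsg.Agent.S1156
import Cfsg.Agent.S1158
import Cfsg.Agent.S2343
import Cfsg.Agent.S1069

/-!
# Fixed point ratios of elements of odd order of the Ree groups in cross characteristic
-/

set_option autoImplicit false
open Subgroup MulAction

namespace Cfsg.Agent.H452.FprRee

open Cfsg.Agent.H409 Cfsg.Agent.H452.FprCyc Cfsg.Agent.H452.FprTorus Cfsg.Agent.H452.FprRank
open Cfsg.Agent.H394.SqTI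

/-- the order of a Sylow subgroup -/
theorem card_sylow_of {S : Type*} [Group S] [Finite S] {p : ℕ} [hp : Fact p.Prime] {Q h k : ℕ}
    (hQ : Q = p ^ k) (hk : k ≠ 0) (hord : Nat.card S = Q * ((Q + 1) * h)) (hph : ¬ p ∣ h)
    (P : Sylow p S) : Nat.card P = Q := by
  have hpQ : ¬ p ∣ Q + 1 := by
    intro h1
    have h2 : p ∣ Q := hQ ▸ dvd_pow_self p hk
    exact hp.out.one_lt.ne' (Nat.dvd_one.1 ((Nat.dvd_add_right h2).1 h1))
  have hh0 : 0 < h := Nat.pos_of_ne_zero (fun h0 => hph (h0 ▸ dvd_zero p))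
  rw [P.card_eq_multiplicity, hord]
  have h2 : ¬ p ∣ (Q + 1) * h := fun h3 => (hp.out.dvd_mul.1 h3).elim hpQ hph
  have hQ0 : Q ≠ 0 := by rw [hQ]; exact pow_ne_zero _ hp.out.ne_zero
  have h3 : (Q + 1) * h ≠ 0 := by positivity
  rw [Nat.factorization_mul hQ0 h3, Finsupp.add_apply, Nat.factorization_eq_zero_of_not_dvd h2,
    add_zero]
  conv_rhs => rw [hQ]
  congr 1
  rw [hQ, hp.out.factorization_pow, Finsupp.single_eq_same]

/-- The numerical data of rank one. -/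
theorem rank_one_data {S : Type*} [Group S] [Finite S] [IsSimpleGroup S] {r : ℕ} [hr : Fact r.Prime]
    (hTI : ∀ P Q : Sylow r S, P ≠ Q → (P : Subgroup S) ⊓ Q = ⊥) {Q h k : ℕ} (hQ : Q = r ^ k)
    (hk : k ≠ 0) (hord : Nat.card S = Q * ((Q + 1) * h)) (hph : ¬ r ∣ h) (hlt : h < Q) :
    (∀ P : Sylow r S, Nat.card P = Q) ∧ 1 < Q ∧ Nat.card (Sylow r S) = 1 + Q := by
  have hcardP : ∀ P : Sylow r S, Nat.card P = Q := card_sylow_of hQ hk hord hph
  obtain ⟨P⟩ : Nonempty (Sylow r S) := inferInstance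
  have hpQ : r ∣ Q := hQ ▸ dvd_pow_self r hk
  refine ⟨hcardP, ?_, ?_⟩
  · have h0 : 0 < Q := by rw [hQ]; exact pow_pos hr.out.pos _
    exact lt_of_lt_of_le hr.out.one_lt (Nat.le_of_dvd h0 hpQ)
  · have h1 := card_sylow_eq hTI P (h := h) (by rw [hcardP]; exact hpQ)
      (by rw [hcardP]; exact hord) (by rw [hcardP]; exact hlt)
    rw [h1, hcardP P]

/-- **The Ree groups**, cross characteristic, odd primes. -/
theorem row_ree {T : Type*} [Group T] [Finite T] [IsSimpleGroup T] (h : Cfsg.Lie.IsoRee T)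
    {p : ℕ} [hp : Fact p.Prime] (hp2 : p ≠ 2) (hp3 : p ≠ 3) (hpT : p ∣ Nat.card T) :
    FprRow (p + 1) 1 p T := by
  obtain ⟨K, iK, iK', m, hm, hK, ⟨e⟩⟩ := h
  have hf : Finite ↥(Cfsg.Lie.twistedG2 K (3 ^ m)) := Finite.of_equiv T e.toEquiv
  have hs : IsSimpleGroup ↥(Cfsg.Lie.twistedG2 K (3 ^ m)) := by
    have : Nontrivial ↥(Cfsg.Lie.twistedG2 K (3 ^ m)) := e.symm.toEquiv.nontrivial
    exact IsSimpleGroup.isSimpleGroup_of_surjective e.toMonoidHom e.surjective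
  refine FprRow.of_mulEquiv hp.out e.symm ?_
  rw [Nat.card_congr e.toEquiv] at hpT
  have : Fact (Nat.Prime 3) := ⟨Nat.prime_three⟩
  have h158 := Cfsg.Agent.S1158.result hm hK
  have hcard := Cfsg.Agent.S1069.result (m := m) hK
  obtain ⟨q, hq⟩ : ∃ q, q = 3 ^ (2 * m + 1) := ⟨_, rfl⟩
  obtain ⟨r, hr⟩ : ∃ r, r = 3 ^ (m + 1) := ⟨_, rfl⟩
  rw [← hq] at hcard
  have hp5 : 5 ≤ p := by
    have h1 := hp.out.two_le
    have h4 : p ≠ 4 := by
      rintro rfl
      exact absurd hp.out (by norm_num)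
    omega
  have hc : ∀ P : Sylow p ↥(Cfsg.Lie.twistedG2 K (3 ^ m)), IsCyclic P :=
    fun P => Cfsg.Agent.S1156.result hm hK (by omega) P
  -- numerical facts
  have hrq : r * r = 3 * q := by
    rw [hr, hq, ← pow_add, ← pow_succ']
    congr 1
    omega
  have hr3 : 3 * r ≤ q := by
    rw [hr, hq, ← pow_succ']
    exact Nat.pow_le_pow_right (by norm_num) (by omega)
  have hq27 : 27 ≤ q := by
    rw [hq]
    calc 27 = 3 ^ 3 := by norm_num
      _ ≤ 3 ^ (2 * m + 1) := Nat.pow_le_pow_right (by norm_num) (by omega)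
  have h3q : 3 ∣ q := hq ▸ dvd_pow_self 3 (by omega)
  have hq4 : q % 4 = 3 := by
    rw [hq, pow_add, pow_mul, Nat.mul_mod, Nat.pow_mod]
    norm_num
  have hqq : q ≤ q ^ 2 := Nat.le_self_pow (by norm_num) q
  have hnc : ∃ x y : ↥(Cfsg.Lie.twistedG2 K (3 ^ m)), x * y ≠ y * x := by
    by_contra hcon
    push Not at hcon
    let i : CommGroup ↥(Cfsg.Lie.twistedG2 K (3 ^ m)) :=
      { (inferInstance : Group ↥(Cfsg.Lie.twistedG2 K (3 ^ m))) with mul_comm := hcon }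
    have h1 : (Nat.card ↥(Cfsg.Lie.twistedG2 K (3 ^ m))).Prime :=
      @IsSimpleGroup.prime_card _ i hs
    have h2 : 3 ∣ Nat.card ↥(Cfsg.Lie.twistedG2 K (3 ^ m)) := by
      rw [hcard, mul_assoc]
      exact (h3q.trans (dvd_pow_self q (by norm_num))).mul_right _
    have h3 := (Nat.prime_dvd_prime_iff_eq Nat.prime_three h1).1 h2
    rw [hcard] at h3
    have h4 : 27 ≤ q ^ 3 := hq27.trans (Nat.le_self_pow (by norm_num) q)
    have h5 : 1 ≤ (q - 1) * (q ^ 3 + 1) := Nat.mul_pos (by omega) (by omega)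
    rw [mul_assoc] at h3
    have h6 : q ^ 3 * 1 ≤ q ^ 3 * ((q - 1) * (q ^ 3 + 1)) := Nat.mul_le_mul_left _ h5
    omega
  have hidx : ∀ H : Subgroup ↥(Cfsg.Lie.twistedG2 K (3 ^ m)), H ≠ ⊤ → q ^ 2 - q + 1 ≤ H.index := by
    intro H hH
    obtain ⟨k, ρ, hρ, hk2, hk⟩ := FprDeg.exists_irr hnc hH
    have h1 := Cfsg.Agent.S2343.result m hm hK k ρ hρ hk2
    rw [← hq] at h1
    exact h1.trans hk
  -- the elements of order `p`
  have key : ∀ a N : ℕ, (a, N) ∈ ({((3 ^ (2 * m + 1) - 1) / 2, 2 * (3 ^ (2 * m + 1) - 1)),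
        ((3 ^ (2 * m + 1) + 1) / 4, 6 * (3 ^ (2 * m + 1) + 1)),
        (3 ^ (2 * m + 1) - 3 ^ (m + 1) + 1, 6 * (3 ^ (2 * m + 1) - 3 ^ (m + 1) + 1)),
        (3 ^ (2 * m + 1) + 3 ^ (m + 1) + 1, 6 * (3 ^ (2 * m + 1) + 3 ^ (m + 1) + 1))} : Set (ℕ × ℕ)) →
      p ∣ a → ∃ x : ↥(Cfsg.Lie.twistedG2 K (3 ^ m)), orderOf x = p ∧
        Nat.card (normalizer ((zpowers x : Subgroup ↥(Cfsg.Lie.twistedG2 K (3 ^ m))) :
          Set ↥(Cfsg.Lie.twistedG2 K (3 ^ m)))) = N := by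
    intro a N haN hpa
    obtain ⟨A, -, hA, hN, hall⟩ := h158 _ haN
    simp only at hA hN
    rw [← hA] at hpa
    obtain ⟨x, hx⟩ := exists_prime_orderOf_dvd_card' (G := A) p hpa
    refine ⟨x, by rw [Subgroup.orderOf_coe, hx], ?_⟩
    rw [hall (zpowers (x : ↥(Cfsg.Lie.twistedG2 K (3 ^ m)))) (by rw [zpowers_le]; exact x.2) ?_, hN]
    rw [Ne, zpowers_eq_bot]
    intro h1
    have h2 : x = 1 := Subtype.ext h1
    rw [h2, orderOf_one] at hx
    exact hp.out.one_lt.ne hx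
  rw [← hq, ← hr] at key
  -- the non-split tori
  have hfin : ∀ a N : ℕ, (a, N) ∈ ({((q - 1) / 2, 2 * (q - 1)), ((q + 1) / 4, 6 * (q + 1)),
        (q - r + 1, 6 * (q - r + 1)), (q + r + 1, 6 * (q + r + 1))} : Set (ℕ × ℕ)) →
      p ∣ a → N ≤ 6 * (q + r + 1) → FprRow (p + 1) 1 p ↥(Cfsg.Lie.twistedG2 K (3 ^ m)) := by
    intro a N haN hpa hN
    obtain ⟨x, hx, hxN⟩ := key a N haN hpa
    refine row_cyclic hc hx (N := 6 * (q + r + 1)) (by rw [hxN]; exact hN) ?_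
    intro H hH _
    have h1 := hidx H hH
    have h2 : 36 * (q + r + 1) ≤ 5 * (q ^ 2 - q + 1) := by
      have h3 : 27 * q ≤ q ^ 2 := by rw [pow_two]; exact Nat.mul_le_mul_right _ hq27
      omega
    have h4 : (p + 1) * 5 ≤ 6 * p := by omega
    have h5 : 5 * ((p + 1) * (6 * (q + r + 1))) ≤ 5 * (p * H.index) := by
      calc 5 * ((p + 1) * (6 * (q + r + 1))) = ((p + 1) * 5) * (6 * (q + r + 1)) := by ring
        _ ≤ (6 * p) * (6 * (q + r + 1)) := Nat.mul_le_mul_right _ h4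
        _ = p * (36 * (q + r + 1)) := by ring
        _ ≤ p * (5 * (q ^ 2 - q + 1)) := Nat.mul_le_mul_left _ h2
        _ ≤ p * (5 * H.index) := Nat.mul_le_mul_left _ (Nat.mul_le_mul_left _ h1)
        _ = 5 * (p * H.index) := by ring
    omega
  -- the prime divisors
  have hcube : q ^ 3 + 1 = (q + 1) * ((q - r + 1) * (q + r + 1)) := by
    have h1 : r ≤ q := by omega
    zify [h1]
    have h2 : (r : ℤ) * r = 3 * q := by exact_mod_cast hrq
    linear_combination ((q : ℤ) + 1) * h2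
  rw [hcard] at hpT
  have hpq : ¬ p ∣ q := by
    intro h1
    rw [hq] at h1
    exact hp3 ((Nat.prime_dvd_prime_iff_eq hp.out Nat.prime_three).1 (hp.out.dvd_of_dvd_pow h1))
  have hpodd : ∀ a b c : ℕ, p ∣ c → c = a * b → (a = 2 ∨ a = 4) → p ∣ b := by
    intro a b c hc' hab ha
    rw [hab] at hc'
    rcases (hp.out.dvd_mul).1 hc' with h1 | h1
    · exfalso
      apply hp2
      rcases ha with rfl | rfl
      · exact (Nat.prime_dvd_prime_iff_eq hp.out Nat.prime_two).1 h1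
      · have h2 : p ∣ 2 ^ 2 := by norm_num; exact h1
        exact (Nat.prime_dvd_prime_iff_eq hp.out Nat.prime_two).1 (hp.out.dvd_of_dvd_pow h2)
    · exact h1
  rcases (hp.out.dvd_mul).1 hpT with h1 | h1
  · rcases (hp.out.dvd_mul).1 h1 with h2 | h2
    · exact absurd (hp.out.dvd_of_dvd_pow h2) hpq
    · -- the split torus
      have h3 : p ∣ (q - 1) / 2 := hpodd 2 _ _ h2 (by omega) (Or.inl rfl)
      obtain ⟨x, hx, hxN⟩ := key ((q - 1) / 2) (2 * (q - 1)) (by simp) h3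
      have hord : Nat.card ↥(Cfsg.Lie.twistedG2 K (3 ^ m)) = q ^ 3 * ((q ^ 3 + 1) * (q - 1)) := by
        rw [hcard]; ring
      have hTI := fun P Q hPQ => Cfsg.Agent.S1155.result hm hK P Q hPQ
      have h3q1 : ¬ 3 ∣ q - 1 := by
        intro h4
        have h5 : 3 ∣ q - (q - 1) := Nat.dvd_sub h3q h4
        rw [Nat.sub_sub_self (by omega)] at h5
        norm_num at h5
      have hQk : q ^ 3 = 3 ^ (3 * (2 * m + 1)) := by
        rw [hq, ← pow_mul, mul_comm]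
      have hlt : q - 1 < q ^ 3 := by
        have : q ≤ q ^ 3 := Nat.le_self_pow (by norm_num) q
        omega
      obtain ⟨hQ, hQ1, hcount⟩ := rank_one_data hTI hQk (by omega) hord h3q1 hlt
      obtain ⟨P⟩ : Nonempty (Sylow 3 ↥(Cfsg.Lie.twistedG2 K (3 ^ m))) := inferInstance
      refine row_ti_cyclic hp3 hTI hQk hQ hQ1 hcount ?_ hc hx ?_ (P := P) ?_
      · intro h4
        have h5 : (q ^ 3) % 2 = 1 := by
          rw [Nat.pow_mod]
          have : q % 2 = 1 := by omega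
          rw [this]
        have h6 : p % 2 = 1 := by
          rcases hp.out.eq_two_or_odd with h7 | h7
          · exact absurd h7 hp2
          · exact h7
        omega
      · rw [hxN]
        intro h4
        rcases (Nat.prime_three.dvd_mul).1 h4 with h5 | h5
        · norm_num at h5
        · exact h3q1 h5
      · rw [card_norm_sylow hcount hord P]
        exact h2.mul_left _
  · rw [hcube] at h1
    rcases (hp.out.dvd_mul).1 h1 with h2 | h2
    · refine hfin _ _ (by simp : ((q + 1) / 4, 6 * (q + 1)) ∈ _) (hpodd 4 _ _ h2 (by omega) (Or.inr rfl)) ?_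
      omega
    rcases (hp.out.dvd_mul).1 h2 with h3 | h3
    · refine hfin _ _ (by simp : (q - r + 1, 6 * (q - r + 1)) ∈ _) h3 ?_
      omega
    · exact hfin _ _ (by simp : (q + r + 1, 6 * (q + r + 1)) ∈ _) h3 le_rfl

end Cfsg.Agent.H452.FprRee
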