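import Cfsg.Agent.H907.FieldAdj
import Cfsg.Agent.H907.MxJ
import Cfsg.Agent.H947.SqLin3
import Cfsg.Agent.S0279

/-!
# Singer cycles in `PSU₃(q)`

For an element `y` of prime order `r ≥ 5` dividing `q² - q + 1`: the order of the normaliser of `⟨y⟩`
and the action of the normaliser.
-/

set_option autoImplicit false
set_option linter.unusedSectionVars false
open Subgroup

namespace Cfsg.Agent.H452.Singer

open Cfsg Cfsg.Geo Matrix Cfsg.Agent.H907 Cfsg.Agent.H918
open scoped MatrixGroups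

section lin

variable {F : Type*} [Field F] [Fintype F] {r : ℕ} [hr : Fact r.Prime]

theorem no_sub (ho : orderOf ((Nat.card F : ℕ) : ZMod r) = 3) {X : Matrix (Fin 3) (Fin 3) F}
    (hX : X ^ r = 1) (hX1 : X ≠ 1) {W : Submodule F (Fin 3 → F)} (hW : ∀ v ∈ W, X *ᵥ v ∈ W) :
    W = ⊥ ∨ W = ⊤ := by
  by_contra hcon
  push Not at hcon
  obtain ⟨h0, h1⟩ := hcon
  have h2 : orderOf ((Nat.card F : ℕ) : ZMod r) ∣ Module.finrank F W := by
    refine Cfsg.Agent.H150.dvd_finrank_of_fpf_submodule hr.out (Matrix.toLin' X) ?_ W ?_ ?_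
    · rw [← Matrix.toLin'_pow, hX, Matrix.toLin'_one]; rfl
    · intro w hw
      rw [Matrix.toLin'_apply]
      exact hW w hw
    · intro v _ hv
      rw [Matrix.toLin'_apply] at hv
      exact Cfsg.Agent.H947.Sq.fpf_mat ho hX hX1 v hv
  rw [ho] at h2
  have h3 : Module.finrank F W ≠ 0 := by
    rw [Ne, Submodule.finrank_eq_zero]; exact h0
  have h4 : Module.finrank F W < 3 := by
    have := Submodule.finrank_lt h1
    rwa [Module.finrank_fin_fun] at this
  omega

theorem not_scalar (ho : orderOf ((Nat.card F : ℕ) : ZMod r) = 3) {X : Matrix (Fin 3) (Fin 3) F}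
    (hX : X ^ r = 1) (hX1 : X ≠ 1) : ¬ ∃ c : F, X = c • (1 : Matrix (Fin 3) (Fin 3) F) := by
  rintro ⟨c, hc⟩
  rcases no_sub ho hX hX1 (W := Submodule.span F {Pi.single 0 1}) (by
    intro v hv
    rw [hc, Matrix.smul_mulVec, Matrix.one_mulVec]
    exact Submodule.smul_mem _ _ hv) with h1 | h1
  · rw [Submodule.span_singleton_eq_bot] at h1
    have := congrFun h1 0
    simp at this
  · have h2 : Module.finrank F (Submodule.span F {(Pi.single 0 1 : Fin 3 → F)}) ≤ 1 := by
      have := finrank_span_le_card (R := F) ({Pi.single 0 1} : Set (Fin 3 → F))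
      simpa using this
    rw [h1, finrank_top, Module.finrank_fin_fun] at h2
    omega

theorem adjoin_field (ho : orderOf ((Nat.card F : ℕ) : ZMod r) = 3)
    {X : Matrix (Fin 3) (Fin 3) F} (hX : X ^ r = 1) (hX1 : X ≠ 1) :
    IsFieldSubalgebra 3 (Algebra.adjoin F {X}) := by
  have hXK : X ∈ Algebra.adjoin F {X} := Algebra.subset_adjoin (Set.mem_singleton _)
  have hcX : ∀ a ∈ Algebra.adjoin F {X}, X * a = a * X := by
    apply adjoin_commute
    intro s hs
    rw [Set.mem_singleton_iff] at hs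
    rw [hs]
  have hcomm : ∀ a ∈ Algebra.adjoin F {X}, ∀ b ∈ Algebra.adjoin F {X}, a * b = b * a := by
    intro a ha
    apply adjoin_commute
    intro s hs
    rw [Set.mem_singleton_iff] at hs
    rw [hs]
    exact (hcX a ha).symm
  have hunit : ∀ a ∈ Algebra.adjoin F {X}, a ≠ 0 → IsUnit a := by
    intro a ha ha0
    apply isUnit_of_ker
    rcases no_sub ho hX hX1 (W := LinearMap.ker (Matrix.toLin' a)) (by
      intro v hv
      rw [LinearMap.mem_ker, Matrix.toLin'_apply] at hv ⊢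
      rw [Matrix.mulVec_mulVec, ← hcX a ha, ← Matrix.mulVec_mulVec, hv, Matrix.mulVec_zero]) with h | h
    · intro v hv
      have : v ∈ LinearMap.ker (Matrix.toLin' a) := by
        rw [LinearMap.mem_ker, Matrix.toLin'_apply]; exact hv
      rw [h] at this
      simpa using this
    · exfalso
      apply ha0
      apply Matrix.toLin'.injective
      rw [LinearMap.ker_eq_top.1 h, map_zero]
  exact isFieldSubalgebra Nat.prime_three (Fintype.card_fin 3) _ hcomm hunit
    ⟨X, hXK, not_scalar ho hX hX1⟩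

variable {q : ℕ}

theorem adjoin_adj (hF : Fintype.card F = q ^ 2) {x : GL (Fin 3) F} (hx : x ∈ Cfsg.GU 3 F q)
    (hxr : x ^ r = 1) :
    IsAdjointClosedFor (hermForm 3 F q) (Algebra.adjoin F {(x : Matrix (Fin 3) (Fin 3) F)}) := by
  have hXK : (x : Matrix (Fin 3) (Fin 3) F) ∈ Algebra.adjoin F {(x : Matrix (Fin 3) (Fin 3) F)} :=
    Algebra.subset_adjoin (Set.mem_singleton _)
  have hXr : ((x ^ (r - 1) : GL (Fin 3) F) : Matrix (Fin 3) (Fin 3) F) ∈
      Algebra.adjoin F {(x : Matrix (Fin 3) (Fin 3) F)} := by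
    rw [Units.val_pow_eq_pow_val]
    exact Subalgebra.pow_mem _ hXK _
  have key : ∀ k ∈ Algebra.adjoin F {(x : Matrix (Fin 3) (Fin 3) F)},
      ct q k ∈ Algebra.adjoin F {(x : Matrix (Fin 3) (Fin 3) F)} := by
    intro k hk
    induction hk using Algebra.adjoin_induction with
    | mem k hk =>
      rw [Set.mem_singleton_iff] at hk
      rw [hk]
      have h1 := (mem_GU_iff_ct hF).1 hx
      have hxx : x * x ^ (r - 1) = 1 := by
        rw [← pow_succ', Nat.sub_add_cancel hr.out.one_lt.le, hxr]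
      have h2 : (x : Matrix (Fin 3) (Fin 3) F) * ((x ^ (r - 1) : GL (Fin 3) F) : Matrix (Fin 3) (Fin 3) F) = 1 := by
        rw [← Units.val_mul, hxx, Units.val_one]
      obtain ⟨Y, hY⟩ : ∃ Y : Matrix (Fin 3) (Fin 3) F, Y = ((x ^ (r - 1) : GL (Fin 3) F) : Matrix (Fin 3) (Fin 3) F) :=
        ⟨_, rfl⟩
      rw [← hY] at h2
      have h3 : ct q (x : Matrix (Fin 3) (Fin 3) F) = Y := by
        calc ct q (x : Matrix (Fin 3) (Fin 3) F) = ct q (x : Matrix (Fin 3) (Fin 3) F) * ((x : Matrix (Fin 3) (Fin 3) F) * Y) := by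
              rw [h2, mul_one]
          _ = (ct q (x : Matrix (Fin 3) (Fin 3) F) * (x : Matrix (Fin 3) (Fin 3) F)) * Y := by rw [mul_assoc]
          _ = Y := by rw [h1, one_mul]
      rw [h3, hY]
      exact hXr
    | algebraMap c =>
      rw [Algebra.algebraMap_eq_smul_one, ct_smul_one hF]
      exact Subalgebra.smul_mem _ (Subalgebra.one_mem _) _
    | add a b _ _ h1 h2 => rw [ct_add hF]; exact Subalgebra.add_mem _ h1 h2
    | mul a b _ _ h1 h2 => rw [ct_mul hF]; exact Subalgebra.mul_mem _ h2 h1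
  intro k hk
  exact ⟨ct q k, key k hk, herm_ct hF k⟩

/-- The order of the centraliser. -/
theorem card_cent (hF : Fintype.card F = q ^ 2) (ho : orderOf ((Nat.card F : ℕ) : ZMod r) = 3)
    {x : GL (Fin 3) F} (hx : x ∈ SUg 3 F q) (hxr : x ^ r = 1) (hx1 : x ≠ 1) :
    Nat.card (SUg 3 F q ⊓ centralizer ({x} : Set (GL (Fin 3) F)) : Subgroup (GL (Fin 3) F)) ∣
      q ^ 2 - q + 1 := by
  have hX : (x : Matrix (Fin 3) (Fin 3) F) ^ r = 1 := by
    rw [← Units.val_pow_eq_pow_val, hxr, Units.val_one]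
  have hX1 : (x : Matrix (Fin 3) (Fin 3) F) ≠ 1 := fun h => hx1 (Units.ext h)
  have hK := adjoin_field ho hX hX1
  have hadj := adjoin_adj (r := r) hF hx.1 hxr
  have hXK : (x : Matrix (Fin 3) (Fin 3) F) ∈ Algebra.adjoin F {(x : Matrix (Fin 3) (Fin 3) F)} :=
    Algebra.subset_adjoin (Set.mem_singleton _)
  have hle : SUg 3 F q ⊓ centralizer ({x} : Set (GL (Fin 3) F)) ≤ KU hK := by
    intro g hgg
    have hgc : g * x = x * g := mem_centralizer_singleton_iff.1 hgg.2
    show (g : Matrix (Fin 3) (Fin 3) F) ∈ Algebra.adjoin F {(x : Matrix (Fin 3) (Fin 3) F)}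
    refine Cfsg.Agent.H907.SU3.mem_of_comm hK hXK (not_scalar ho hX hX1) ?_
    have := congrArg (fun z : GL (Fin 3) F => (z : Matrix (Fin 3) (Fin 3) F)) hgc
    simpa using this
  have hcyc := isCyclic_KU hK
  have hfin : Finite (GL (Fin 3) F) := inferInstance
  have hC : IsCyclic (SUg 3 F q ⊓ centralizer ({x} : Set (GL (Fin 3) F)) : Subgroup (GL (Fin 3) F)) :=
    isCyclic_of_injective (Subgroup.inclusion hle) (Subgroup.inclusion_injective hle)
  obtain ⟨g, hg⟩ := hC.exists_ofOrder_eq_natCard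
  rw [← hg]
  apply orderOf_dvd_of_pow_eq_one
  apply Subtype.ext
  have h1 := pow_eq_one_of_mem_SU hF hK hadj (hle g.2) g.2.1
  simpa using h1

/-- The normaliser acts by powers of the Frobenius map. -/
theorem norm_index (ho : orderOf ((Nat.card F : ℕ) : ZMod r) = 3)
    {x g : GL (Fin 3) F} (hxr : x ^ r = 1) (hx1 : x ≠ 1)
    (hg : g ∈ normalizer ((zpowers x : Subgroup (GL (Fin 3) F)) : Set (GL (Fin 3) F))) :
    (∃ i : ℕ, i < 3 ∧ g * x * g⁻¹ = x ^ (Fintype.card F ^ i)) ∧ g ^ 3 * x = x * g ^ 3 := by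
  have hX : (x : Matrix (Fin 3) (Fin 3) F) ^ r = 1 := by
    rw [← Units.val_pow_eq_pow_val, hxr, Units.val_one]
  have hX1 : (x : Matrix (Fin 3) (Fin 3) F) ≠ 1 := fun h => hx1 (Units.ext h)
  have hK := adjoin_field ho hX hX1
  have hXK : (x : Matrix (Fin 3) (Fin 3) F) ∈ Algebra.adjoin F {(x : Matrix (Fin 3) (Fin 3) F)} :=
    Algebra.subset_adjoin (Set.mem_singleton _)
  have hzp : zpowers x ≤ KU hK := by
    rw [zpowers_le]
    exact hXK
  have key : ∀ g : GL (Fin 3) F, g * x * g⁻¹ ∈ zpowers x →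
      ∀ k ∈ Algebra.adjoin F {(x : Matrix (Fin 3) (Fin 3) F)},
      (g : Matrix (Fin 3) (Fin 3) F) * k * ((g⁻¹ : GL (Fin 3) F) : Matrix (Fin 3) (Fin 3) F) ∈
        Algebra.adjoin F {(x : Matrix (Fin 3) (Fin 3) F)} := by
    intro g hg k hk
    have hgg : ((g⁻¹ : GL (Fin 3) F) : Matrix (Fin 3) (Fin 3) F) * (g : Matrix (Fin 3) (Fin 3) F) = 1 := by
      rw [← Units.val_mul, inv_mul_cancel, Units.val_one]
    have hgg' : (g : Matrix (Fin 3) (Fin 3) F) * ((g⁻¹ : GL (Fin 3) F) : Matrix (Fin 3) (Fin 3) F) = 1 := by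
      rw [← Units.val_mul, mul_inv_cancel, Units.val_one]
    induction hk using Algebra.adjoin_induction with
    | mem k hk =>
      rw [Set.mem_singleton_iff] at hk
      rw [hk]
      have := hzp hg
      exact this
    | algebraMap c =>
      rw [Algebra.algebraMap_eq_smul_one, Matrix.mul_smul, mul_one, Matrix.smul_mul, hgg']
      exact Subalgebra.smul_mem _ (Subalgebra.one_mem _) _
    | add a b _ _ h1 h2 =>
      rw [mul_add, add_mul]
      exact Subalgebra.add_mem _ h1 h2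
    | mul a b _ _ h1 h2 =>
      have h3 := Subalgebra.mul_mem _ h1 h2
      have h4 : (g : Matrix (Fin 3) (Fin 3) F) * (a * b) * ((g⁻¹ : GL (Fin 3) F) : Matrix (Fin 3) (Fin 3) F) =
          (g : Matrix (Fin 3) (Fin 3) F) * a * ((g⁻¹ : GL (Fin 3) F) : Matrix (Fin 3) (Fin 3) F) *
          ((g : Matrix (Fin 3) (Fin 3) F) * b * ((g⁻¹ : GL (Fin 3) F) : Matrix (Fin 3) (Fin 3) F)) := by
        calc _ = (g : Matrix (Fin 3) (Fin 3) F) * a * 1 * b * ((g⁻¹ : GL (Fin 3) F) : Matrix (Fin 3) (Fin 3) F) := by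
              rw [mul_one]; simp only [mul_assoc]
          _ = _ := by rw [← hgg]; simp only [mul_assoc]
      rw [h4]
      exact h3
  have hg1 : g * x * g⁻¹ ∈ zpowers x := (mem_normalizer_iff.1 hg x).1 (mem_zpowers x)
  have hg2 : g⁻¹ * x * g⁻¹⁻¹ ∈ zpowers x :=
    (mem_normalizer_iff.1 (inv_mem hg) x).1 (mem_zpowers x)
  have hgN : g ∈ subalgebraNormalizer (Algebra.adjoin F {(x : Matrix (Fin 3) (Fin 3) F)}) := by
    intro k
    refine ⟨key g hg1 k, fun h => ?_⟩
    have h1 := key g⁻¹ hg2 _ h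
    rw [inv_inv] at h1
    have h2 : ((g⁻¹ : GL (Fin 3) F) : Matrix (Fin 3) (Fin 3) F) * ((g : Matrix (Fin 3) (Fin 3) F) * k *
        ((g⁻¹ : GL (Fin 3) F) : Matrix (Fin 3) (Fin 3) F)) * (g : Matrix (Fin 3) (Fin 3) F) = k := by
      have hgg : ((g⁻¹ : GL (Fin 3) F) : Matrix (Fin 3) (Fin 3) F) * (g : Matrix (Fin 3) (Fin 3) F) = 1 := by
        rw [← Units.val_mul, inv_mul_cancel, Units.val_one]
      calc _ = (((g⁻¹ : GL (Fin 3) F) : Matrix (Fin 3) (Fin 3) F) * (g : Matrix (Fin 3) (Fin 3) F)) * k *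
          (((g⁻¹ : GL (Fin 3) F) : Matrix (Fin 3) (Fin 3) F) * (g : Matrix (Fin 3) (Fin 3) F)) := by
            simp only [mul_assoc]
        _ = k := by rw [hgg, one_mul, mul_one]
    rwa [h2] at h1
  constructor
  · obtain ⟨i, hi, h⟩ := Cfsg.Agent.H907.Mx.exists_index hK hgN
    refine ⟨i, hi, ?_⟩
    apply Units.ext
    rw [Units.val_mul, Units.val_mul, Units.val_pow_eq_pow_val]
    exact h _ hXK
  · have h1 := Cfsg.Agent.H907.Mx.cube_mem hK hgN
    apply Units.ext
    rw [Units.val_mul, Units.val_mul]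
    exact hK.comm _ h1 _ hXK

end lin

/-- counting cosets -/
theorem card_le_three {G : Type*} [Group G] [Finite G] {x : G} {N C : Subgroup G} (T : Fin 3 → G)
    (hN : ∀ g ∈ N, ∃ i, g * x * g⁻¹ = T i) (hC : ∀ g ∈ N, g * x = x * g → g ∈ C) :
    Nat.card N ≤ 3 * Nat.card C := by
  classical
  choose! idx hidx using hN
  let rep : Fin 3 → N := fun i => if h : ∃ g : N, idx g = i then h.choose else 1
  have hrep : ∀ g : N, idx (rep (idx g)) = idx g := by
    intro g
    have h : ∃ g' : N, idx g' = idx g := ⟨g, rfl⟩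
    have h1 : rep (idx g) = h.choose := dif_pos h
    rw [h1]
    exact h.choose_spec
  have hmem : ∀ g : N, ((rep (idx g) : N) : G)⁻¹ * g ∈ C := by
    intro g
    apply hC _ (N.mul_mem (N.inv_mem (rep (idx g)).2) g.2)
    have h1 := hidx g g.2
    have h2 := hidx (rep (idx g)) (rep (idx g)).2
    rw [hrep] at h2
    have h3 : (g : G) * x * (g : G)⁻¹ = (rep (idx g) : G) * x * (rep (idx g) : G)⁻¹ := h1.trans h2.symm
    have h4 : (rep (idx g) : G)⁻¹ * g * x = (rep (idx g) : G)⁻¹ * ((g : G) * x * (g : G)⁻¹) * g := by group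
    rw [h4, h3]
    group
  have h1 : Nat.card N ≤ Nat.card (Fin 3 × C) := by
    refine Nat.card_le_card_of_injective (fun g : N => ((idx g, ⟨_, hmem g⟩) : Fin 3 × C)) ?_
    intro g g' h
    have h2 : idx g = idx g' := congrArg Prod.fst h
    have h3 : ((rep (idx g) : N) : G)⁻¹ * g = ((rep (idx g') : N) : G)⁻¹ * g' :=
      congrArg (fun z : Fin 3 × C => (z.2 : G)) h
    rw [h2] at h3
    exact Subtype.ext (mul_left_cancel h3)
  rwa [Nat.card_prod, Nat.card_fin] at h1

section su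

variable {F : Type*} [Field F] [Fintype F] {q : ℕ}

theorem ord_three (hF : Fintype.card F = q ^ 2) {r : ℕ} [hr : Fact r.Prime] (hr5 : 5 ≤ r)
    (hd : r ∣ q ^ 2 - q + 1) : orderOf ((Nat.card F : ℕ) : ZMod r) = 3 := by
  have hq2 : q ≤ q ^ 2 := Nat.le_self_pow (by norm_num) q
  have h0 : (q : ZMod r) ^ 2 - q + 1 = 0 := by
    have := (ZMod.natCast_eq_zero_iff _ r).2 hd
    push_cast [Nat.cast_sub hq2] at this
    exact this
  have h1 : (q : ZMod r) ^ 3 = -1 := by linear_combination ((q : ZMod r) + 1) * h0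
  rw [Nat.card_eq_fintype_card, hF]
  push_cast
  have : Fact (Nat.Prime 3) := ⟨Nat.prime_three⟩
  apply orderOf_eq_prime
  · rw [← pow_mul, mul_comm, pow_mul, h1]; ring
  · intro h
    have h4 : (q : ZMod r) = 2 := by linear_combination h - h0
    rw [h4] at h
    have h5 : ((3 : ℕ) : ZMod r) = 0 := by push_cast; linear_combination h
    have h6 := (ZMod.natCast_eq_zero_iff _ r).1 h5
    have := Nat.le_of_dvd (by norm_num) h6
    omega

/-- **Singer cycles in `PSU₃(q)`.** -/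
theorem singer (hF : Fintype.card F = q ^ 2) {r : ℕ} [hr : Fact r.Prime] (hr5 : 5 ≤ r)
    (hd : r ∣ q ^ 2 - q + 1) {y : Cfsg.PSU 3 F q} (hy : orderOf y = r) :
    Nat.gcd 3 (q + 1) * Nat.card (normalizer ((zpowers y : Subgroup (Cfsg.PSU 3 F q)) :
      Set (Cfsg.PSU 3 F q))) ≤ 3 * (q ^ 2 - q + 1) ∧
    ∀ g ∈ normalizer ((zpowers y : Subgroup (Cfsg.PSU 3 F q)) : Set (Cfsg.PSU 3 F q)),
      g ^ 3 * y = y * g ^ 3 := by
  classical
  have ho := ord_three hF hr5 hd
  set Z := Subgroup.center (Cfsg.SU 3 F q) with hZ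
  let π : Cfsg.SU 3 F q →* Cfsg.PSU 3 F q := QuotientGroup.mk' Z
  have hπ : Function.Surjective π := QuotientGroup.mk'_surjective _
  have hker : ∀ g, π g = 1 ↔ g ∈ Z := fun g => QuotientGroup.eq_one_iff g
  have hZc : Nat.card Z = Nat.gcd 3 (q + 1) := Cfsg.Agent.S0279.result hF 3 le_rfl
  have hZ3 : ∀ z ∈ Z, z ^ 3 = 1 := by
    intro z hz
    have h2 : (⟨z, hz⟩ : Z) ^ 3 = 1 := by
      apply orderOf_dvd_iff_pow_eq_one.1
      refine (_root_.orderOf_dvd_natCard _).trans ?_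
      rw [hZc]
      exact Nat.gcd_dvd_left 3 (q + 1)
    exact congrArg Subtype.val h2
  have hr3 : Nat.Coprime 3 r := by
    rw [Nat.coprime_primes Nat.prime_three hr.out]
    omega
  -- the lift
  obtain ⟨A, hAy, hAr⟩ : ∃ A : Cfsg.SU 3 F q, π A = y ∧ A ^ r = 1 := by
    obtain ⟨A₀, hA₀⟩ := hπ y
    obtain ⟨t, -, ht⟩ := Nat.exists_mul_mod_eq_one_of_coprime hr3 hr.out.one_lt
    refine ⟨A₀ ^ (3 * t), ?_, ?_⟩
    · rw [map_pow, hA₀]
      have hyr : y ^ r = 1 := by rw [← hy, pow_orderOf_eq_one]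
      rw [← Nat.div_add_mod (3 * t) r, ht, pow_add, pow_mul, hyr, one_pow, one_mul, pow_one]
    · have h1 : A₀ ^ r ∈ Z := by
        rw [← hker, map_pow, hA₀, ← hy, pow_orderOf_eq_one]
      have h2 := hZ3 _ h1
      calc (A₀ ^ (3 * t)) ^ r = ((A₀ ^ r) ^ 3) ^ t := by
            rw [← pow_mul, ← pow_mul, ← pow_mul]; congr 1; ring
        _ = 1 := by rw [h2, one_pow]
  have hA1 : A ≠ 1 := by
    rintro rfl
    rw [map_one] at hAy
    rw [← hAy, orderOf_one] at hy
    exact hr.out.one_lt.ne hy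
  have hsing : ∀ z ∈ Z, z ^ r = 1 → z = 1 := by
    intro z hz hzr
    have h1 := orderOf_dvd_of_pow_eq_one (hZ3 z hz)
    have h2 := orderOf_dvd_of_pow_eq_one hzr
    have h3 : orderOf z ∣ 1 := by
      rw [← hr3]
      exact Nat.dvd_gcd h1 h2
    exact orderOf_eq_one_iff.1 (Nat.dvd_one.1 h3)
  -- lifting the normaliser
  have hlift : ∀ B : Cfsg.SU 3 F q, π B * y * (π B)⁻¹ ∈ zpowers y → B * A * B⁻¹ ∈ zpowers A := by
    intro B hB
    obtain ⟨j, hj⟩ := hB
    have hj' : y ^ j = π B * y * (π B)⁻¹ := hj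
    have h1 : B * A * B⁻¹ * (A ^ j)⁻¹ ∈ Z := by
      rw [← hker, map_mul, map_mul, map_mul, map_inv, map_inv, map_zpow, hAy, hj', mul_inv_cancel]
    obtain ⟨z, hz⟩ : ∃ z, z = B * A * B⁻¹ * (A ^ j)⁻¹ := ⟨_, rfl⟩
    rw [← hz] at h1
    have h2 : B * A * B⁻¹ = z * A ^ j := by rw [hz, inv_mul_cancel_right]
    have h3 : (B * A * B⁻¹) ^ r = 1 := by
      have : (B * A * B⁻¹) ^ r = B * A ^ r * B⁻¹ := by
        rw [← MulAut.conj_apply, ← map_pow, MulAut.conj_apply]
      rw [this, hAr, mul_one, mul_inv_cancel]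
    have h4 : Commute z (A ^ j) := (Subgroup.mem_center_iff.1 h1 (A ^ j)).symm
    rw [h2, h4.mul_pow] at h3
    have h5 : (A ^ j) ^ r = 1 := by
      rw [← zpow_natCast, ← _root_.zpow_mul, mul_comm, _root_.zpow_mul, zpow_natCast, hAr, _root_.one_zpow]
    rw [h5, mul_one] at h3
    have h6 := hsing z h1 h3
    rw [h2, h6, one_mul]
    exact ⟨j, rfl⟩
  -- the subgroup `M`
  set M : Subgroup (Cfsg.SU 3 F q) :=
    (normalizer ((zpowers y : Subgroup (Cfsg.PSU 3 F q)) : Set (Cfsg.PSU 3 F q))).comap π with hM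
  have hMn : ∀ B ∈ M, B ∈ normalizer ((zpowers A : Subgroup (Cfsg.SU 3 F q)) : Set (Cfsg.SU 3 F q)) := by
    intro B hB
    have hB' : π B ∈ normalizer ((zpowers y : Subgroup (Cfsg.PSU 3 F q)) : Set (Cfsg.PSU 3 F q)) := hB
    have h1 := hlift B ((mem_normalizer_iff.1 hB' y).1 (mem_zpowers y))
    rw [mem_normalizer_iff_map_conj_eq]
    have h8 : (zpowers A).map (MulAut.conj B).toMonoidHom ≤ zpowers A := by
      rw [MonoidHom.map_zpowers, zpowers_le]
      exact h1
    apply Subgroup.eq_of_le_of_card_ge h8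
    exact (Nat.card_congr ((zpowers A).equivMapOfInjective _ (MulAut.conj B).injective).toEquiv).le
  have hMcard : Nat.card M = Nat.gcd 3 (q + 1) * Nat.card (normalizer ((zpowers y :
      Subgroup (Cfsg.PSU 3 F q)) : Set (Cfsg.PSU 3 F q))) := by
    have h1 : M.index = (normalizer ((zpowers y : Subgroup (Cfsg.PSU 3 F q)) :
        Set (Cfsg.PSU 3 F q))).index := index_comap_of_surjective _ hπ
    have h2 := M.card_mul_index
    have h3 := (normalizer ((zpowers y : Subgroup (Cfsg.PSU 3 F q)) :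
        Set (Cfsg.PSU 3 F q))).card_mul_index
    have h4 : Nat.card (Cfsg.SU 3 F q) = Nat.card (Cfsg.PSU 3 F q) * Nat.card Z :=
      Subgroup.card_eq_card_quotient_mul_card_subgroup Z
    rw [← hZc]
    apply Nat.eq_of_mul_eq_mul_right (Nat.pos_of_ne_zero (index_ne_zero_of_finite (H := M)))
    rw [h2, h4, ← h3, h1]
    ring
  -- the images in `GL`
  set x : GL (Fin 3) F := suHom 3 F q A with hx
  have hxS : x ∈ SUg 3 F q := suHom_mem A
  have hxr : x ^ r = 1 := by rw [hx, ← map_pow, hAr, map_one]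
  have hx1 : x ≠ 1 := fun h => hA1 (suHom_injective (by rw [map_one]; exact h))
  have hxn : ∀ B ∈ M, suHom 3 F q B ∈ normalizer ((zpowers x : Subgroup (GL (Fin 3) F)) :
      Set (GL (Fin 3) F)) := by
    intro B hB
    have h1 := (mem_normalizer_iff_map_conj_eq).1 (hMn B hB)
    rw [mem_normalizer_iff_map_conj_eq]
    have h2 : zpowers x = (zpowers A).map (suHom 3 F q) := by rw [MonoidHom.map_zpowers]
    have h3 : (zpowers x).map (MulAut.conj (suHom 3 F q B)).toMonoidHom =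
        ((zpowers A).map (MulAut.conj B).toMonoidHom).map (suHom 3 F q) := by
      rw [h2, Subgroup.map_map, Subgroup.map_map]
      congr 1
      ext1 g
      change suHom 3 F q B * suHom 3 F q g * (suHom 3 F q B)⁻¹ = suHom 3 F q (B * g * B⁻¹)
      rw [map_mul, map_mul, map_inv]
    exact (h3.trans (congrArg (Subgroup.map (suHom 3 F q)) h1)).trans h2.symm
  constructor
  · rw [← hMcard]
    have hfin : Finite (GL (Fin 3) F) := inferInstance
    have h1 : Nat.card M = Nat.card (M.map (suHom 3 F q)) :=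
      Nat.card_congr (M.equivMapOfInjective _ suHom_injective).toEquiv
    rw [h1]
    have h2 := card_le_three (x := x) (N := M.map (suHom 3 F q))
      (C := SUg 3 F q ⊓ centralizer ({x} : Set (GL (Fin 3) F)))
      (fun i => x ^ (Fintype.card F ^ (i : ℕ))) (by
        rintro _ ⟨B, hB, rfl⟩
        obtain ⟨⟨i, hi, h⟩, -⟩ := norm_index ho hxr hx1 (hxn B hB)
        exact ⟨⟨i, hi⟩, h⟩) (by
        rintro _ ⟨B, hB, rfl⟩ h
        exact ⟨suHom_mem B, mem_centralizer_singleton_iff.2 h⟩)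
    have h3 := Nat.le_of_dvd (Nat.succ_pos _) (card_cent hF ho hxS hxr hx1)
    exact h2.trans (Nat.mul_le_mul_left _ h3)
  · intro g hg
    obtain ⟨B, rfl⟩ := hπ g
    obtain ⟨-, h1⟩ := norm_index ho hxr hx1 (hxn B hg)
    have h2 : B ^ 3 * A = A * B ^ 3 := by
      apply suHom_injective
      rw [map_mul, map_mul, map_pow]
      exact h1
    rw [← map_pow, ← hAy, ← map_mul, h2, map_mul]

end su

end Cfsg.Agent.H452.Singer
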