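import Cfsg.Agent.H452.FprPsu3A
import Cfsg.Agent.H452.Singer
import Cfsg.Agent.H452.FprBurn

/-!
# Fixed point ratios in `PSU₃(q)`, cross characteristic
-/

set_option autoImplicit false
open Subgroup MulAction

namespace Cfsg.Agent.H452.FprPsu3

open Cfsg.Agent
open Cfsg.Agent.H409 Cfsg.Agent.H452.FprCyc Cfsg.Agent.H452.FprBurn

variable {F : Type*} [Field F] [Fintype F] {q : ℕ}

theorem fac (q : ℕ) : q ^ 3 + 1 = (q + 1) * (q ^ 2 - q + 1) := by
  have h4 : q ≤ q ^ 2 := Nat.le_self_pow (by norm_num) q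
  zify [h4]
  ring

/-- The prime divisors `p ≥ 5` of `q² - q + 1`. -/
theorem row_singer (hF : Fintype.card F = q ^ 2) (hq : 3 ≤ q) {p : ℕ} [hp : Fact p.Prime]
    (hp5 : 5 ≤ p) (hd : p ∣ q ^ 2 - q + 1) (hdvd : p ∣ Nat.card (Cfsg.PSU 3 F q)) :
    FprRow (p + 1) 1 p (Cfsg.PSU 3 F q) := by
  have hfin : Finite (Cfsg.PSU 3 F q) := Quotient.finite _
  obtain ⟨x, hx⟩ := exists_prime_orderOf_dvd_card' (G := Cfsg.PSU 3 F q) p hdvd
  obtain ⟨h1, -⟩ := Singer.singer hF hp5 hd hx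
  refine row_cyclic (fun P => H724.UThree.cyc_sylow hF hp5 hd P) hx le_rfl ?_
  intro H hH _
  obtain ⟨N, hN⟩ : ∃ N, Nat.card (normalizer ((zpowers x : Subgroup (Cfsg.PSU 3 F q)) :
    Set (Cfsg.PSU 3 F q))) = N := ⟨_, rfl⟩
  rw [hN] at h1 ⊢
  by_cases h5 : q = 5
  · subst h5
    have h2 := (S2149.result (F := F) (by rw [hF]; norm_num)).1 H hH
    have h3 : 3 * N ≤ 3 * 21 := by
      have : Nat.gcd 3 (5 + 1) = 3 := by norm_num
      rw [this] at h1
      exact h1
    have h4 : N ≤ 21 := by omega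
    calc (p + 1) * N ≤ (p + 1) * 21 := Nat.mul_le_mul_left _ h4
      _ ≤ p * 50 := by omega
      _ ≤ p * H.index := Nat.mul_le_mul_left _ h2
  · have h2 := (S2148.result q hF hq h5).1 H hH
    rw [fac] at h2
    have h3 : N ≤ 3 * (q ^ 2 - q + 1) := by
      refine le_trans ?_ h1
      exact Nat.le_mul_of_pos_left _ (Nat.gcd_pos_of_pos_left _ (by norm_num))
    calc (p + 1) * N ≤ (p + 1) * (3 * (q ^ 2 - q + 1)) := Nat.mul_le_mul_left _ h3
      _ = (3 * p + 3) * (q ^ 2 - q + 1) := by ring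
      _ ≤ (p * 4) * (q ^ 2 - q + 1) := Nat.mul_le_mul_right _ (by omega)
      _ = p * (4 * (q ^ 2 - q + 1)) := by ring
      _ ≤ p * ((q + 1) * (q ^ 2 - q + 1)) :=
          Nat.mul_le_mul_left _ (Nat.mul_le_mul_right _ (by omega))
      _ ≤ p * H.index := Nat.mul_le_mul_left _ h2

theorem not_five (q : ℕ) : ¬ 5 ∣ q ^ 2 - q + 1 := by
  intro h
  have hq2 : q ≤ q ^ 2 := Nat.le_self_pow (by norm_num) q
  have h0 : ((q ^ 2 - q + 1 : ℕ) : ZMod 5) = 0 := (ZMod.natCast_eq_zero_iff _ 5).2 h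
  push_cast [Nat.cast_sub hq2] at h0
  revert h0
  generalize (q : ZMod 5) = a
  revert a
  decide

theorem not_two (q : ℕ) : ¬ 2 ∣ q ^ 2 - q + 1 := by
  intro h
  have hq2 : q ≤ q ^ 2 := Nat.le_self_pow (by norm_num) q
  have h0 : ((q ^ 2 - q + 1 : ℕ) : ZMod 2) = 0 := (ZMod.natCast_eq_zero_iff _ 2).2 h
  push_cast [Nat.cast_sub hq2] at h0
  revert h0
  generalize (q : ZMod 2) = a
  revert a
  decide

/-- The prime 3 if it divides `q + 1`. -/
theorem row_three (hF : Fintype.card F = q ^ 2) (hq : 3 ≤ q) (h3 : 3 ∣ q + 1) :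
    FprRow 4 1 3 (Cfsg.PSU 3 F q) := by
  classical
  have hfin : Finite (Cfsg.PSU 3 F q) := Quotient.finite _
  have hsimp : IsSimpleGroup (Cfsg.PSU 3 F q) := S0283.result hF 3 le_rfl (by omega)
  have h5q : 5 ≤ q := by omega
  obtain ⟨l, hl, hld, hl3⟩ := H394.SqPsu3.exists_prime q (by omega)
  have hlF : Fact l.Prime := ⟨hl⟩
  have hl7 : 7 ≤ l := by
    have h1 := hl.two_le
    have h2 : l ≠ 2 := by rintro rfl; exact not_two q hld
    have h4 : l ≠ 4 := by rintro rfl; exact absurd hl (by norm_num)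
    have h5 : l ≠ 5 := by rintro rfl; exact not_five q hld
    have h6 : l ≠ 6 := by rintro rfl; exact absurd hl (by norm_num)
    omega
  have hcard := H394.SqPsu3.card_psu3 hF
  have hg3 : Nat.gcd 3 (q + 1) = 3 := Nat.gcd_eq_left h3
  rw [hg3] at hcard
  have hdvd : l ∣ Nat.card (Cfsg.PSU 3 F q) := by
    have h1 : l ∣ 3 * Nat.card (Cfsg.PSU 3 F q) := by
      rw [hcard, fac]
      exact Dvd.dvd.mul_left (Dvd.dvd.mul_left (Dvd.dvd.mul_left hld _) _) _
    rcases hl.dvd_mul.1 h1 with h2 | h2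
    · exact absurd ((Nat.prime_dvd_prime_iff_eq hl Nat.prime_three).1 h2) hl3
    · exact h2
  obtain ⟨y, hy⟩ := exists_prime_orderOf_dvd_card' (G := Cfsg.PSU 3 F q) l hdvd
  obtain ⟨h1, h2⟩ := Singer.singer hF (by omega : 5 ≤ l) hld hy
  have hcyc := fun P => H724.UThree.cyc_sylow (p := l) hF (by omega) hld P
  -- not an `l`-group
  have hnl : ¬ IsPGroup l (Cfsg.PSU 3 F q) := by
    intro h
    obtain ⟨n, hn⟩ := h.exists_card_eq
    obtain ⟨r, k, hr, hrc, hk, hk0⟩ := LieClassical.HermBasic.exists_prime_pow hF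
    have hrq : r ∣ q := hk ▸ dvd_pow_self r hk0.ne'
    have h4 : r ∣ 3 * Nat.card (Cfsg.PSU 3 F q) := by
      rw [hcard]
      exact (hrq.trans (dvd_pow_self q (by norm_num))).mul_right _
    have h5 : r ≠ 3 := by
      rintro rfl
      have : 3 ∣ 1 := (Nat.dvd_add_right hrq).1 h3
      omega
    rcases hr.dvd_mul.1 h4 with h6 | h6
    · exact h5 ((Nat.prime_dvd_prime_iff_eq hr Nat.prime_three).1 h6)
    · rw [hn] at h6
      have h7 := (Nat.prime_dvd_prime_iff_eq hr hl).1 (hr.dvd_of_dvd_pow h6)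
      subst h7
      have h8 : r ∣ q ^ 2 - q := by
        have : q ^ 2 - q = q * (q - 1) := by rw [Nat.mul_sub, mul_one, pow_two]
        rw [this]
        exact hrq.mul_right _
      have : r ∣ 1 := (Nat.dvd_add_right h8).1 hld
      exact hr.one_lt.ne' (Nat.dvd_one.1 this)
  obtain ⟨g, hg, hgy⟩ := exists_not_comm hcyc hnl hy
  have hg3y := h2 g hg
  -- the `3`-part
  obtain ⟨a, b, hb, hab⟩ := Nat.exists_eq_pow_mul_and_not_dvd (orderOf_pos g).ne' 3 (by norm_num)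
  have hxo : orderOf (g ^ b) = 3 ^ a := by
    have hb0 : b ≠ 0 := by
      rintro rfl
      exact hb (dvd_zero 3)
    rw [orderOf_pow_of_dvd hb0 (hab ▸ dvd_mul_left b _), hab,
      Nat.mul_div_cancel _ (Nat.pos_of_ne_zero hb0)]
  refine row_prime_rad hl7 hcyc hy ⟨a, hxo⟩ (Subgroup.pow_mem _ hg b) ?_ ?_
  · intro h4
    apply hgy
    have h5 : g ∈ centralizer ({y} : Set (Cfsg.PSU 3 F q)) := by
      refine mem_of_pow_mem (a := b) (b := 3) ?_ (mem_centralizer_singleton_iff.2 h4)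
        (mem_centralizer_singleton_iff.2 hg3y)
      exact ((Nat.prime_three.coprime_iff_not_dvd).2 hb).symm
    exact mem_centralizer_singleton_iff.1 h5
  · intro H hH
    rw [hg3] at h1
    obtain ⟨N, hN⟩ : ∃ N, Nat.card (normalizer ((zpowers y : Subgroup (Cfsg.PSU 3 F q)) :
      Set (Cfsg.PSU 3 F q))) = N := ⟨_, rfl⟩
    rw [hN] at h1 ⊢
    have h4 : N ≤ q ^ 2 - q + 1 := by omega
    by_cases h5 : q = 5
    · subst h5
      have h6 := (S2149.result (F := F) (by rw [hF]; norm_num)).1 H hH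
      norm_num at h4
      omega
    · have h6 := (S2148.result q hF hq h5).1 H hH
      rw [fac] at h6
      calc 8 * N ≤ 8 * (q ^ 2 - q + 1) := Nat.mul_le_mul_left _ h4
        _ ≤ (7 * (q + 1)) * (q ^ 2 - q + 1) := Nat.mul_le_mul_right _ (by omega)
        _ = 7 * ((q + 1) * (q ^ 2 - q + 1)) := by ring
        _ ≤ 7 * H.index := Nat.mul_le_mul_left _ h6

/-- **`PSU₃(q)`, cross characteristic**, all odd primes. -/
theorem row_psu3 (hF : Fintype.card F = q ^ 2) (hq : 3 ≤ q) {p : ℕ} [hp : Fact p.Prime]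
    (hp2 : p ≠ 2) (hpq : ¬ p ∣ q) (hdvd : p ∣ Nat.card (Cfsg.PSU 3 F q)) :
    FprRow (p + 1) 1 p (Cfsg.PSU 3 F q) := by
  have hpp := hp.out
  have hcard := H394.SqPsu3.card_psu3 hF
  have h5 : q ^ 2 - 1 = (q + 1) * (q - 1) := by
    have := Nat.sq_sub_sq q 1
    simpa using this
  have h1 : p ∣ q ^ 3 * ((q ^ 2 - 1) * (q ^ 3 + 1)) := by
    rw [← hcard]
    exact hdvd.mul_left _
  have key : p ∣ q + 1 → FprRow (p + 1) 1 p (Cfsg.PSU 3 F q) := by
    intro h
    by_cases hp3 : p = 3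
    · subst hp3
      exact row_three hF hq h
    · have := hpp.two_le
      have h4 : p ≠ 4 := by rintro rfl; exact absurd hpp (by norm_num)
      exact FprPsu3A.row_add hF hq (by omega) h
  rcases hpp.dvd_mul.1 h1 with h | h
  · exact absurd (hpp.dvd_of_dvd_pow h) hpq
  rw [h5, fac] at h
  rcases hpp.dvd_mul.1 h with h | h
  · rcases hpp.dvd_mul.1 h with h | h
    · exact key h
    · exact FprPsu3A.row_sub hF hq hp2 h
  · rcases hpp.dvd_mul.1 h with h | h
    · exact key h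
    · by_cases hp3 : p = 3
      · subst hp3
        apply key
        have h4 : q ≤ q ^ 2 := Nat.le_self_pow (by norm_num) q
        have h7 : (q ^ 2 - q + 1) % 3 = 0 := Nat.mod_eq_zero_of_dvd h
        have h8 : q % 3 = 0 ∨ q % 3 = 1 ∨ q % 3 = 2 := by omega
        rcases h8 with h8 | h8 | h8
        · exact absurd (Nat.dvd_of_mod_eq_zero h8) hpq
        · exfalso
          obtain ⟨k, hk⟩ : ∃ k, q = 3 * k + 1 := ⟨q / 3, by omega⟩
          have h9 : q ^ 2 = 3 * (3 * k ^ 2 + 2 * k) + 1 := by rw [hk]; ring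
          omega
        · omega
      · have h2 := hpp.two_le
        have hp4 : p ≠ 4 := by rintro rfl; exact absurd hpp (by norm_num)
        exact row_singer hF hq (by omega) h hdvd

/-- **`PSU₃(q)`, cross characteristic**, up to isomorphism. -/
theorem row_psu3' {T : Type*} [Group T] (hF : Fintype.card F = q ^ 2) (hq : 3 ≤ q) {p : ℕ}
    [hp : Fact p.Prime] (hp2 : p ≠ 2) (hpq : ¬ p ∣ q) (e : T ≃* Cfsg.PSU 3 F q)
    (hdvd : p ∣ Nat.card T) : FprRow (p + 1) 1 p T := by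
  have hfin : Finite (Cfsg.PSU 3 F q) := Quotient.finite _
  exact FprRow.of_mulEquiv hp.out e.symm (row_psu3 hF hq hp2 hpq
    (by rw [← Nat.card_congr e.toEquiv]; exact hdvd))

end Cfsg.Agent.H452.FprPsu3
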