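import Cfsg.Agent.H452.FprHeis
import Cfsg.Agent.H110.Fpr.FamU

/-!
# `PSU_n(q)`, `q` even, `3 ∣ q + 1`, `n ≥ 4`, `(n, q) ≠ (4, 2)`: ratio `1 / 4` for `p = 3`
-/

set_option autoImplicit false
open Subgroup MulAction

namespace Cfsg.Agent.H452.FprPsuN

open Cfsg Cfsg.Agent.H398.FPR Cfsg.Agent.H452.FprHeis Cfsg.Agent.H110.Fpr Cfsg.Agent.H409
open Cfsg.Agent.TitsThree.Siegel Cfsg.Agent.TitsThree.SiegelGen Cfsg.Agent.TitsThree.KSideU
open Cfsg.Agent.LieClassical.HermBasic Cfsg.Agent.LieClassical.HermSiegel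

/-- The full list of hypotheses on a Heisenberg radical. -/
structure HeisG {G : Type*} [Group G] (x : G) (Q Z : Subgroup G) : Prop extends Heis x Q Z where
  comm : ∀ z ∈ Z, ∃ a ∈ Q, ∃ b ∈ Q, z = a * b * a⁻¹ * b⁻¹
  cen : ∀ g ∈ Q, (∀ a ∈ Q, g * a = a * g) → g ∈ Z
  big : 8 * Nat.card Z ^ 3 ≤ Nat.card Q

theorem HeisG.subgroupOf {A : Type*} [Group A] {K : Subgroup A} {x : A} (hxK : x ∈ K)
    {Q Z : Subgroup A} (h : HeisG x Q Z) (hQ : Q ≤ K) :
    HeisG (⟨x, hxK⟩ : K) (Q.subgroupOf K) (Z.subgroupOf K) where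
  le := fun z hz => h.le hz
  cent := fun z hz g hg => Subtype.ext (h.cent z hz g hg)
  der := fun a ha b hb => h.der a ha b hb
  norm := by
    rw [mem_normalizer_iff]
    intro g
    rw [mem_subgroupOf, mem_subgroupOf]
    exact mem_normalizer_iff.1 h.norm g
  fixZ := fun z hz => Subtype.ext (h.fixZ z hz)
  free := fun r hr hr2 => h.free r hr hr2
  comm := by
    intro z hz
    obtain ⟨a, ha, b, hb, hab⟩ := h.comm z hz
    exact ⟨⟨a, hQ ha⟩, ha, ⟨b, hQ hb⟩, hb, Subtype.ext hab⟩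
  cen := by
    intro g hg hc
    apply h.cen g hg
    intro a ha
    exact congrArg Subtype.val (hc ⟨a, hQ ha⟩ ha)
  big := by
    have h1 : Nat.card (Q.subgroupOf K) = Nat.card Q :=
      Nat.card_congr (Subgroup.subgroupOfEquivOfLe hQ).toEquiv
    have h2 : Nat.card (Z.subgroupOf K) = Nat.card Z :=
      Nat.card_congr (Subgroup.subgroupOfEquivOfLe (h.le.trans hQ)).toEquiv
    rw [h1, h2]
    exact h.big

theorem heis_quarter_sub {A : Type*} [Group A] [Finite A] {K : Subgroup A} {x : A} (hxK : x ∈ K)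
    {Q1 Q2 Z1 Z2 : Subgroup A} {k : ℕ} (hx : x ^ 3 ^ k = 1) (h1 : HeisG x Q1 Z1)
    (h2 : HeisG x Q2 Z2) (hQ1 : Q1 ≤ K) (hQ2 : Q2 ≤ K)
    (hg1 : ∀ D : Subgroup A, Q1 ≤ D → ∀ z ∈ Z2, z ≠ 1 → z ∈ D → K ≤ D)
    (hg2 : ∀ D : Subgroup A, Q2 ≤ D → ∀ z ∈ Z1, z ≠ 1 → z ∈ D → K ≤ D) :
    UGood 1 4 (⟨x, hxK⟩ : K) := by
  have k1 := h1.subgroupOf hxK hQ1
  have k2 := h2.subgroupOf hxK hQ2
  have aux : ∀ Q Z : Subgroup A, Q ≤ K →
      (∀ D : Subgroup A, Q ≤ D → ∀ z ∈ Z, z ≠ 1 → z ∈ D → K ≤ D) →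
      ∀ H : Subgroup K, Q.subgroupOf K ≤ H → ∀ z ∈ Z.subgroupOf K, z ≠ 1 → z ∈ H → H = ⊤ := by
    intro Q Z hQ hg H hQH z hz hz1 hzH
    have h3 := hg (H.map K.subtype) (by
      intro a ha
      exact ⟨⟨a, hQ ha⟩, hQH ha, rfl⟩) z hz (fun h => hz1 (Subtype.ext h)) ⟨z, hzH, rfl⟩
    rw [eq_top_iff]
    intro a _
    obtain ⟨b, hb, hba⟩ := h3 a.2
    have : b = a := Subtype.ext hba
    rwa [← this]
  exact heis_quarter (k := k) (Subtype.ext hx) k1.toHeis k2.toHeis k1.comm k2.comm k1.cen k2.cen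
    k1.big k2.big (aux Q1 Z2 hQ1 hg1) (aux Q2 Z1 hQ2 hg2)

section Siegel

variable {F : Type*} [Field F] {V : Type*} [AddCommGroup V] [Module F V]
variable {H : HForm F V} {P : PQ H}

/-- The radical of the singular vector `u`. -/
def QU (P : PQ H) (u : V) (hu : P.ok u 0) : Subgroup (V ≃ₗ[F] V) where
  carrier := {g | ∃ (w : V) (c : F) (hw : H.h u w = 0), P.ok w c ∧
    g = H.sie u w c (P.iso hu) hw}
  one_mem' := ⟨0, 0, H.zero_right u, P.zero, (H.sie_zero u _).symm⟩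
  mul_mem' := by
    rintro _ _ ⟨w, c, hw, hc, rfl⟩ ⟨w', c', hw', hc', rfl⟩
    exact ⟨w + w', c + c' - H.ε⁻¹ * H.h w' w, by rw [H.add_right, hw, hw', add_zero],
      P.add hc hc', H.sie_mul _ _ _ _ _ _ _ _⟩
  inv_mem' := by
    rintro _ ⟨w, c, hw, hc, rfl⟩
    exact ⟨-w, -c - H.ε⁻¹ * H.h w w, by rw [H.neg_right, hw, neg_zero], P.inv hc,
      H.sie_inv _ _ _ _ _⟩

/-- The centre of the radical. -/
def ZU (P : PQ H) (u : V) (hu : P.ok u 0) : Subgroup (V ≃ₗ[F] V) where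
  carrier := {g | ∃ c : F, P.ok 0 c ∧ g = H.sie u 0 c (P.iso hu) (H.zero_right u)}
  one_mem' := ⟨0, P.zero, (H.sie_zero u _).symm⟩
  mul_mem' := by
    rintro _ _ ⟨c, hc, rfl⟩ ⟨c', hc', rfl⟩
    refine ⟨c + c' - H.ε⁻¹ * H.h 0 0, ?_, ?_⟩
    · have := P.add hc hc'
      rwa [add_zero] at this
    · rw [H.sie_mul]
      exact H.sie_congr _ _ _ _ rfl (add_zero 0) rfl
  inv_mem' := by
    rintro _ ⟨c, hc, rfl⟩
    refine ⟨-c - H.ε⁻¹ * H.h 0 0, ?_, ?_⟩
    · have := P.inv hc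
      rwa [neg_zero] at this
    · rw [H.sie_inv]
      exact H.sie_congr _ _ _ _ rfl neg_zero rfl

variable {u : V} {hu : P.ok u 0}

theorem ZU_le : ZU P u hu ≤ QU P u hu := by
  rintro _ ⟨c, hc, rfl⟩
  exact ⟨0, c, H.zero_right u, hc, rfl⟩

theorem QU_le_SG : QU P u hu ≤ SG P := by
  rintro _ ⟨w, c, hw, hc, rfl⟩
  exact sie_mem_SG P _ _ hu hc

/-- Extraction. -/
theorem sie_eq {v w w' : V} {c c' : F} (huu : H.h u u = 0) {hw : H.h u w = 0} {hw' : H.h u w' = 0}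
    (hv : H.h v u ≠ 0) (h : H.sie u w c huu hw = H.sie u w' c' huu hw') :
    ∃ a : F, w - w' = a • u := by
  have h1 := congrArg (fun g : V ≃ₗ[F] V => g v) h
  simp only [H.sie_apply] at h1
  refine ⟨(H.h v u)⁻¹ * (H.ε⁻¹ * H.h v w - c * H.h v u - H.ε⁻¹ * H.h v w' + c' * H.h v u), ?_⟩
  have h2 : H.h v u • (w - w') =
      (H.ε⁻¹ * H.h v w - c * H.h v u - H.ε⁻¹ * H.h v w' + c' * H.h v u) • u := by
    have h3 : H.h v u • w - H.h v u • w' = (H.ε⁻¹ * H.h v w) • u - (c * H.h v u) • u -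
        (H.ε⁻¹ * H.h v w') • u + (c' * H.h v u) • u := by
      have h4 : (v + H.h v u • w - (H.ε⁻¹ * H.h v w) • u + (c * H.h v u) • u) -
          (v + H.h v u • w' - (H.ε⁻¹ * H.h v w') • u + (c' * H.h v u) • u) = 0 := sub_eq_zero.2 h1
      rw [← sub_eq_zero]
      rw [← h4]
      abel
    rw [smul_sub, h3]
    module
  rw [← smul_smul, ← h2, smul_smul, inv_mul_cancel₀ hv, one_smul]

theorem sie_zero_eq {v : V} {c c' : F} (huu : H.h u u = 0)
    (hv : H.h v u ≠ 0) (h : H.sie u 0 c huu (H.zero_right u) = H.sie u 0 c' huu (H.zero_right u)) :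
    c = c' := by
  have h1 := congrArg (fun g : V ≃ₗ[F] V => g v) h
  simp only [H.sie_apply] at h1
  have hu0 : u ≠ 0 := by
    rintro rfl
    exact hv (H.zero_right v)
  have h2 : ((c - c') * H.h v u) • u = 0 := by
    have h4 : (v + H.h v u • (0 : V) - (H.ε⁻¹ * H.h v 0) • u + (c * H.h v u) • u) -
          (v + H.h v u • (0 : V) - (H.ε⁻¹ * H.h v 0) • u + (c' * H.h v u) • u) = 0 :=
      sub_eq_zero.2 h1
    rw [← h4]
    module
  have h3 := (smul_eq_zero.1 h2).resolve_right hu0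
  exact sub_eq_zero.1 ((mul_eq_zero.1 h3).resolve_right hv)

/-- elements of `QU` with `w` a multiple of `u` -/
theorem mem_ZU_of_smul {a c : F} {hw : H.h u (a • u) = 0} (hc : P.ok (a • u) c) :
    H.sie u (a • u) c (P.iso hu) hw ∈ ZU P u hu := by
  refine ⟨c + a - H.ε⁻¹ * H.σ a, ?_, ?_⟩
  · have h1 := P.sub hc (P.sing_smul hu a)
    rw [sub_zero] at h1
    exact P.lam a h1
  · rw [← H.sie_add_smul u 0 c a (P.iso hu) (H.zero_right u)]
    exact H.sie_congr _ _ _ _ rfl (zero_add _).symm rfl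

theorem heis_of {x : V ≃ₗ[F] V} (hxi : H.IsIso x) (hxok : ∀ w c, P.ok w c → P.ok (x w) c)
    (hxok' : ∀ w c, P.ok w c → P.ok (x⁻¹ w) c) (hxu : x u = u) {v : V} (hv : H.h v u ≠ 0)
    (hfree : ∀ w, H.h u w = 0 → ∀ a : F, x w - w = a • u → ∃ b : F, w = b • u) :
    Heis x (QU P u hu) (ZU P u hu) where
  le := ZU_le
  cent := by
    rintro _ ⟨c, hc, rfl⟩ _ ⟨w, d, hw, hd, rfl⟩
    rw [H.sie_mul, H.sie_mul]
    apply H.sie_congr _ _ _ _ rfl
    · rw [add_comm]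
    · rw [H.zero_left, H.zero_right]; ring
  der := by
    rintro _ ⟨A, e, hA, he, rfl⟩ _ ⟨B, d, hB, hd, rfl⟩
    refine ⟨_, ?_, comm_same (P.iso hu) hA hB⟩
    have := P.lam (H.σ (H.h B A)) P.zero
    rw [H.σσ, zero_add] at this
    exact this
  norm := by
    have hxu' : x⁻¹ u = u := by
      have : x⁻¹ (x u) = u := x.symm_apply_apply u
      rwa [hxu] at this
    have aux : ∀ y : V ≃ₗ[F] V, H.IsIso y → (∀ w c, P.ok w c → P.ok (y w) c) → y u = u →
        ∀ g ∈ QU P u hu, y * g * y⁻¹ ∈ QU P u hu := by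
      rintro y hy hyok hyu _ ⟨w, c, hw, hc, rfl⟩
      rw [H.conj_sie hy]
      refine ⟨y w, c, by rw [← hyu, hy, hw], hyok w c hc, ?_⟩
      exact H.sie_congr _ _ _ _ hyu rfl rfl
    rw [mem_normalizer_iff]
    intro g
    constructor
    · exact aux x hxi hxok hxu g
    · intro hg
      have h2 := aux x⁻¹ (HForm.IsIso.inv H hxi) hxok' hxu' _ hg
      have h3 : x⁻¹ * (x * g * x⁻¹) * x⁻¹⁻¹ = g := by group
      rwa [h3] at h2
  fixZ := by
    rintro _ ⟨c, hc, rfl⟩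
    rw [← mul_inv_eq_iff_eq_mul, H.conj_sie hxi]
    exact H.sie_congr _ _ _ _ hxu (map_zero x) rfl
  free := by
    rintro _ ⟨w, c, hw, hc, rfl⟩ ⟨d, hd, hxd⟩
    rw [H.conj_sie hxi, H.sie_inv, H.sie_congr _ _ (P.iso hu) (by rw [← hxu, hxi, hw] :
      H.h u (x w) = 0) hxu rfl rfl, H.sie_mul] at hxd
    obtain ⟨a, ha⟩ := sie_eq (P.iso hu) hv hxd
    rw [sub_zero, ← sub_eq_add_neg] at ha
    obtain ⟨b, hb⟩ := hfree w hw a ha
    subst hb
    exact mem_ZU_of_smul hc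

theorem comm_of (hlam : ∀ c, P.ok 0 c → ∃ m, c = m - H.ε⁻¹ * H.σ m) {e : V} (hue : H.h u e = 0)
    (hee : H.h e e ≠ 0) : ∀ z ∈ ZU P u hu, ∃ a ∈ QU P u hu, ∃ b ∈ QU P u hu,
      z = a * b * a⁻¹ * b⁻¹ := by
  rintro _ ⟨c, hc, rfl⟩
  obtain ⟨m, rfl⟩ := hlam c hc
  obtain ⟨d1, hd1⟩ := P.ex e
  obtain ⟨d2, hd2⟩ := P.ex ((H.σ m / H.h e e) • e)
  have h1 : H.h u ((H.σ m / H.h e e) • e) = 0 := by rw [H.smul_right, hue, mul_zero]
  refine ⟨_, ⟨e, d1, hue, hd1, rfl⟩, _, ⟨_, d2, h1, hd2, rfl⟩, ?_⟩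
  rw [comm_same (P.iso hu) hue h1]
  apply H.sie_congr _ _ _ _ rfl rfl
  rw [H.smul_left, div_mul_cancel₀ _ hee, H.σσ]

theorem cen_of {v : V} (hv : H.h v u ≠ 0)
    (hcen : ∀ w, H.h u w = 0 → (∀ A, H.h u A = 0 → H.σ (H.h A w) = H.ε⁻¹ * H.h A w) →
      ∃ b : F, w = b • u) :
    ∀ g ∈ QU P u hu, (∀ a ∈ QU P u hu, g * a = a * g) → g ∈ ZU P u hu := by
  rintro _ ⟨w, c, hw, hc, rfl⟩ hcomm
  obtain ⟨b, hb⟩ := hcen w hw (fun A hA => by
    obtain ⟨d, hd⟩ := P.ex A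
    have h1 := hcomm _ ⟨A, d, hA, hd, rfl⟩
    have h2 := comm_same (e := c) (d := d) (P.iso hu) hw hA
    rw [h1] at h2
    have h3 : H.sie u A d (P.iso hu) hA * H.sie u w c (P.iso hu) hw *
      (H.sie u w c (P.iso hu) hw)⁻¹ * (H.sie u A d (P.iso hu) hA)⁻¹ = 1 := by group
    rw [h3, ← H.sie_zero u (P.iso hu)] at h2
    exact sub_eq_zero.1 (sie_zero_eq (P.iso hu) hv h2).symm)
  subst hb
  exact mem_ZU_of_smul hc

/-- Generation. -/
theorem gen_of {u' : V} {hu' : P.ok u' 0} (huu' : H.h u u' ≠ 0)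
    (hnd : ∀ v : V, P.ok v 0 → v ≠ 0 → ∃ w, H.h v w ≠ 0) (D : Subgroup (V ≃ₗ[F] V))
    (hQ : QU P u hu ≤ D) : ∀ z ∈ ZU P u' hu', z ≠ 1 → z ∈ D → SG P ≤ D := by
  rintro z hzZ hz1 hzD
  obtain ⟨c, hc, hzc⟩ := hzZ
  have hc0 : c ≠ 0 := by
    rintro rfl
    apply hz1
    rw [hzc]
    exact H.sie_zero u' _
  have hzS : z ∈ SG P := by
    rw [hzc]
    exact sie_mem_SG P _ _ hu' hc
  obtain ⟨hzi, hzok, hzok'⟩ := SG_iso hzS
  have hzu : z u = u + (c * H.h u u') • u' := by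
    rw [hzc, H.sie_apply, H.zero_right]; simp
  have hu'u : H.h u' u ≠ 0 := fun h => huu' (H.orth_symm h)
  refine all_of_pair (p := u) (r := z u) ?_ ?_ hu (hzok u 0 hu) ?_ hnd
  · intro w d huu huw _ hd
    exact hQ ⟨w, d, huw, hd, rfl⟩
  · intro w d hvv hvw _ hd
    have hzw : z (z⁻¹ w) = w := z.apply_symm_apply w
    have h1 : H.h u (z⁻¹ w) = 0 := by rw [← hzi, hzw, hvw]
    exact conj_mem hzD hzi (P.iso hu) h1 (hQ ⟨_, d, h1, hzok' w d hd, rfl⟩) hvv hvw rfl hzw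
  · rw [hzu, H.add_left, H.smul_left, P.iso hu, zero_add]
    exact mul_ne_zero (mul_ne_zero hc0 huu') hu'u

end Siegel

section Coord

variable {F : Type*} [Field F] [Fintype F] {q m : ℕ}

/-- The vector `e₀ + a e₁`. -/
def uv (a : F) : Fin (m + 2) → F := Fin.cons 1 (Fin.cons a 0)

theorem uv_zero (a : F) : (uv a : Fin (m + 2) → F) 0 = 1 := rfl
theorem uv_one (a : F) : (uv a : Fin (m + 2) → F) 1 = a := rfl
theorem uv_succ (a : F) (i : Fin m) : (uv a : Fin (m + 2) → F) i.succ.succ = 0 := rfl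

theorem herm_expand (v w : Fin (m + 2) → F) : hermForm (m + 2) F q v w =
    v 0 * w 0 ^ q + (v 1 * w 1 ^ q + ∑ i : Fin m, v i.succ.succ * w i.succ.succ ^ q) := by
  rw [herm_def, Fin.sum_univ_succ, Fin.sum_univ_succ]
  rfl

theorem herm_uv_right (hF : Fintype.card F = q ^ 2) (v : Fin (m + 2) → F) (a : F) :
    hermForm (m + 2) F q v (uv a) = v 0 + v 1 * a ^ q := by
  rw [herm_expand]
  simp only [uv_zero, uv_one, uv_succ, one_pow, mul_one, zero_pow_q hF, mul_zero,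
    Finset.sum_const_zero, add_zero]

theorem herm_uv_left (v : Fin (m + 2) → F) (a : F) :
    hermForm (m + 2) F q (uv a) v = v 0 ^ q + a * v 1 ^ q := by
  rw [herm_expand]
  simp only [uv_zero, uv_one, uv_succ, one_mul, zero_mul, Finset.sum_const_zero, add_zero]

theorem herm_uv_uv (a b : F) : hermForm (m + 2) F q (uv a) (uv b) = 1 + a * b ^ q := by
  rw [herm_uv_left, uv_zero, uv_one, one_pow]

/-- vectors of the plane orthogonal to `u` -/
theorem in_plane (hF : Fintype.card F = q ^ 2) {a : F} (ha : a * a ^ q = -1)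
    {w : Fin (m + 2) → F} (hw : hermForm (m + 2) F q (uv a) w = 0)
    (h0 : ∀ i : Fin m, w i.succ.succ = 0) : ∃ b : F, w = b • uv a := by
  have h1 := herm_eq_zero_swap hF hw
  rw [herm_uv_right hF] at h1
  have h2 : w 1 = a * w 0 := by linear_combination (-a) * h1 + w 1 * ha
  refine ⟨w 0, ?_⟩
  funext i
  refine Fin.cases ?_ (fun i => ?_) i
  · rw [Pi.smul_apply, uv_zero, smul_eq_mul, mul_one]
  · refine Fin.cases ?_ (fun i => ?_) i
    · change w 1 = w 0 * a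
      rw [h2, mul_comm]
    · rw [h0, Pi.smul_apply, uv_succ, smul_zero]

theorem uv_ok (hF : Fintype.card F = q ^ 2) {a : F} (ha : a * a ^ q = -1) :
    (PU hF (m + 2)).ok (uv a) 0 := by
  rw [sing_iff, herm_uv_uv, ha, add_neg_cancel]

theorem herm_single_two (hF : Fintype.card F = q ^ 2) (a b : F) (i : Fin m) :
    hermForm (m + 2) F q (uv a) (Pi.single i.succ.succ b) = 0 := by
  rw [herm_single_right hF, uv_succ, zero_mul]

/-- centre of the radical -/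
theorem cen_coord (hF : Fintype.card F = q ^ 2) {a : F} (ha : a * a ^ q = -1)
    (w : Fin (m + 2) → F) (hw : hermForm (m + 2) F q (uv a) w = 0)
    (h : ∀ A : Fin (m + 2) → F, hermForm (m + 2) F q (uv a) A = 0 →
      (hermForm (m + 2) F q A w) ^ q = hermForm (m + 2) F q A w) : ∃ b : F, w = b • uv a := by
  apply in_plane hF ha hw
  intro i
  obtain ⟨y, hy⟩ := exists_not_fixed hF
  have h1 := h (Pi.single i.succ.succ 1) (herm_single_two hF a 1 i)
  have h2 := h (Pi.single i.succ.succ y) (herm_single_two hF a y i)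
  rw [herm_single_left] at h1 h2
  rw [one_mul] at h1
  rw [mul_pow, h1] at h2
  by_contra h0
  have h3 : w i.succ.succ ^ q ≠ 0 := fun h => h0 ((pow_q_eq_zero hF).1 h)
  exact hy (mul_right_cancel₀ h3 h2)

/-- The size of the centre. -/
theorem card_ZU_le (hF : Fintype.card F = q ^ 2) [CharP F 2] {a : F} (ha : a * a ^ q = -1) :
    Nat.card (ZU (PU hF (m + 2)) (uv a) (uv_ok hF ha)) ≤ q := by
  have h2 : ∀ c : F, c + c = 0 := fun c => CharTwo.add_self_eq_zero c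
  refine le_trans (Nat.card_le_card_of_surjective (fun c : {x : F // x ^ q = x} =>
    (⟨(HU hF (m + 2)).sie (uv a) 0 c ((PU hF (m + 2)).iso (uv_ok hF ha))
      ((HU hF (m + 2)).zero_right _), c, ?_, rfl⟩ :
      ZU (PU hF (m + 2)) (uv a) (uv_ok hF ha))) ?_) (card_fixed hF).le
  · rw [ok_iff, herm_zero_left, neg_zero, c.2]
    exact h2 _
  · rintro ⟨_, c, hc, rfl⟩
    refine ⟨⟨c, ?_⟩, rfl⟩
    rw [ok_iff, herm_zero_left, neg_zero] at hc
    have h3 := h2 c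
    linear_combination hc - h3

/-- the vector with zero first coordinates -/
def wv (f : Fin m → F) : Fin (m + 2) → F := Fin.cons 0 (Fin.cons 0 f)

theorem wv_zero (f : Fin m → F) : wv f 0 = 0 := rfl
theorem wv_one (f : Fin m → F) : wv f 1 = 0 := rfl
theorem wv_succ (f : Fin m → F) (i : Fin m) : wv f i.succ.succ = f i := rfl

theorem herm_uv_wv (hF : Fintype.card F = q ^ 2) (a : F) (f : Fin m → F) :
    hermForm (m + 2) F q (uv a) (wv f) = 0 := by
  rw [herm_uv_left, wv_zero, wv_one, zero_pow_q hF, mul_zero, add_zero]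

/-- The size of the radical. -/
theorem card_QU_ge (hF : Fintype.card F = q ^ 2) {a : F} (ha : a * a ^ q = -1)
    {v : Fin (m + 2) → F} (hv : hermForm (m + 2) F q v (uv a) ≠ 0) :
    q ^ (2 * m) * Nat.card (ZU (PU hF (m + 2)) (uv a) (uv_ok hF ha)) ≤
      Nat.card (QU (PU hF (m + 2)) (uv a) (uv_ok hF ha)) := by
  classical
  have hfin : Finite ((Fin (m + 2) → F) ≃ₗ[F] (Fin (m + 2) → F)) := instFin
  have h1 : q ^ (2 * m) = Nat.card (Fin m → F) := by
    rw [Nat.card_eq_fintype_card, Fintype.card_fun, hF, Fintype.card_fin, ← pow_mul]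
  rw [h1, ← Nat.card_prod]
  have huu := (PU hF (m + 2)).iso (uv_ok hF ha)
  choose d hd using (fun f : Fin m → F => (PU hF (m + 2)).ex (wv f))
  let g : (Fin m → F) → QU (PU hF (m + 2)) (uv a) (uv_ok hF ha) := fun f =>
    ⟨(HU hF (m + 2)).sie (uv a) (wv f) (d f) huu (herm_uv_wv hF a f),
      wv f, d f, herm_uv_wv hF a f, hd f, rfl⟩
  refine Nat.card_le_card_of_injective
    (fun fz : (Fin m → F) × ZU (PU hF (m + 2)) (uv a) (uv_ok hF ha) =>
      g fz.1 * ⟨fz.2, ZU_le fz.2.2⟩) ?_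
  rintro ⟨f, ⟨z, c, hc, rfl⟩⟩ ⟨f', ⟨z', c', hc', rfl⟩⟩ hff
  have h2 := congrArg Subtype.val hff
  change (HU hF (m + 2)).sie (uv a) (wv f) (d f) huu (herm_uv_wv hF a f) *
    (HU hF (m + 2)).sie (uv a) 0 c huu (HForm.zero_right _ _) = (HU hF (m + 2)).sie (uv a) (wv f') (d f') huu
      (herm_uv_wv hF a f') * (HU hF (m + 2)).sie (uv a) 0 c' huu
      (HForm.zero_right _ _) at h2
  have h2' := h2
  have e1 := (HU hF (m + 2)).sie_mul (uv a) (wv f) 0 (d f) c huu (herm_uv_wv hF a f)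
    (HForm.zero_right _ _)
  have e2 := (HU hF (m + 2)).sie_mul (uv a) (wv f') 0 (d f') c' huu (herm_uv_wv hF a f')
    (HForm.zero_right _ _)
  obtain ⟨b, hb⟩ := sie_eq huu (v := v) hv ((e1.symm.trans h2).trans e2)
  rw [add_zero, add_zero] at hb
  have hb0 : b = 0 := by
    have := congrFun hb 0
    rw [Pi.sub_apply, wv_zero, wv_zero, sub_zero, Pi.smul_apply, uv_zero, smul_eq_mul,
      mul_one] at this
    exact this.symm
  have hf : f = f' := by
    funext i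
    have := congrFun hb i.succ.succ
    rw [Pi.sub_apply, wv_succ, wv_succ, hb0, zero_smul, Pi.zero_apply] at this
    exact sub_eq_zero.1 this
  subst hf
  have h3 := mul_left_cancel h2'
  rw [Prod.mk.injEq]
  exact ⟨rfl, Subtype.ext h3⟩

/-- The radical is a Heisenberg group with all properties. -/
theorem heisG (hF : Fintype.card F = q ^ 2) [CharP F 2] (hm : 2 ≤ m) (hq : m = 2 → 3 ≤ q)
    {a : F} (ha : a * a ^ q = -1) {x : (Fin (m + 2) → F) ≃ₗ[F] (Fin (m + 2) → F)}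
    (hx : x ∈ SG (PU hF (m + 2))) {l : Fin m → F} (hl : ∀ i, l i ≠ 1)
    (hx0 : ∀ v, x v 0 = v 0) (hx1 : ∀ v, x v 1 = v 1)
    (hx2 : ∀ v, ∀ i : Fin m, x v i.succ.succ = l i * v i.succ.succ) :
    HeisG x (QU (PU hF (m + 2)) (uv a) (uv_ok hF ha)) (ZU (PU hF (m + 2)) (uv a) (uv_ok hF ha)) := by
  obtain ⟨hxi, hxok, hxok'⟩ := SG_iso hx
  have hq2 := two_le hF
  obtain ⟨v, hv⟩ : ∃ v, (HU hF (m + 2)).h v (uv a) ≠ 0 := by
    obtain ⟨w, hw⟩ := nd_HU hF (uv a) (fun h => one_ne_zero (α := F) ((uv_zero (m := m) a).symm.trans (congrFun h 0)))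
    exact ⟨w, fun h => hw ((HU hF (m + 2)).orth_symm h)⟩
  have hxu : x (uv a) = uv a := by
    funext i
    refine Fin.cases (hx0 _) (fun i => ?_) i
    refine Fin.cases (hx1 _) (fun i => ?_) i
    rw [hx2, uv_succ, mul_zero]
  refine ⟨heis_of hxi hxok hxok' hxu hv ?_, ?_, ?_, ?_⟩
  · intro w hw b hb
    apply in_plane hF ha hw
    have hb0 : b = 0 := by
      have := congrFun hb 0
      rw [Pi.sub_apply, hx0, sub_self, Pi.smul_apply, uv_zero, smul_eq_mul, mul_one] at this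
      exact this.symm
    intro i
    have := congrFun hb i.succ.succ
    rw [Pi.sub_apply, hx2, hb0, zero_smul, Pi.zero_apply] at this
    have h3 : (l i - 1) * w i.succ.succ = 0 := by rw [sub_mul, one_mul]; exact this
    exact (mul_eq_zero.1 h3).resolve_left (sub_ne_zero.2 (hl i))
  · have i0 : Fin m := ⟨0, by omega⟩
    apply comm_of (lam_PU hF) (e := Pi.single i0.succ.succ 1)
    · exact herm_single_two hF a 1 i0
    · rw [HU_h, herm_single_left, Pi.single_eq_same, one_pow, mul_one]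
      exact one_ne_zero
  · apply cen_of hv
    intro w hw h
    apply cen_coord hF ha w hw
    intro A hA
    have := h A hA
    rw [HU_ε, inv_one, one_mul] at this
    exact this
  · have h1 := card_QU_ge hF ha (v := v) hv
    have h2 := card_ZU_le (m := m) hF ha
    obtain ⟨z, hz⟩ : ∃ z, z = Nat.card (ZU (PU hF (m + 2)) (uv a) (uv_ok hF ha)) := ⟨_, rfl⟩
    rw [← hz] at h1 h2 ⊢
    have h3 : 8 * z ^ 2 ≤ q ^ (2 * m) := by
      have h4 : z ^ 2 ≤ q ^ 2 := Nat.pow_le_pow_left h2 2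
      have h5 : 8 * q ^ 2 ≤ q ^ (2 * m) := by
        rcases Nat.lt_or_ge 2 m with hm3 | hm3
        · have e1 : q ^ 6 ≤ q ^ (2 * m) := Nat.pow_le_pow_right (by omega) (by omega)
          have e2 : 8 * q ^ 2 ≤ q ^ 6 := by
            have e3 : 2 ^ 4 ≤ q ^ 4 := Nat.pow_le_pow_left hq2 4
            calc 8 * q ^ 2 ≤ q ^ 4 * q ^ 2 := Nat.mul_le_mul_right _ (by omega)
              _ = q ^ 6 := by ring
          exact e2.trans e1
        · have hm2 : m = 2 := by omega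
          have hq3 := hq hm2
          rw [hm2]
          have e3 : 3 ^ 2 ≤ q ^ 2 := Nat.pow_le_pow_left hq3 2
          calc 8 * q ^ 2 ≤ q ^ 2 * q ^ 2 := Nat.mul_le_mul_right _ (by omega)
            _ = q ^ (2 * 2) := by ring
      omega
    calc 8 * z ^ 3 = 8 * z ^ 2 * z := by ring
      _ ≤ q ^ (2 * m) * z := Nat.mul_le_mul_right _ h3
      _ ≤ _ := h1

/-- exponents -/
theorem exists_exp : ∀ m : ℕ, 2 ≤ m → ∃ f : Fin m → ℕ, (∀ i, f i = 1 ∨ f i = 2) ∧
    3 ∣ ∑ i, f i := by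
  intro m
  induction m using Nat.strong_induction_on with
  | _ m ih =>
    intro hm
    rcases Nat.lt_or_ge m 4 with h | h
    · interval_cases m
      · exact ⟨![1, 2], by decide, by decide⟩
      · exact ⟨![1, 1, 1], by decide, by decide⟩
    · obtain ⟨k, rfl⟩ : ∃ k, m = k + 2 := ⟨m - 2, by omega⟩
      obtain ⟨f, hf, hs⟩ := ih k (by omega) (by omega)
      refine ⟨Fin.cons 1 (Fin.cons 2 f), ?_, ?_⟩
      · intro i
        refine Fin.cases (Or.inl rfl) (fun i => ?_) i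
        refine Fin.cases (Or.inr rfl) (fun i => ?_) i
        exact hf i
      · rw [Fin.sum_univ_succ, Fin.sum_univ_succ]
        change 3 ∣ 1 + (2 + ∑ i : Fin k, f i)
        omega

/-- **The row for `SU`.** -/
theorem uGood_SG (hF : Fintype.card F = q ^ 2) [CharP F 2] (h3 : 3 ∣ q + 1) (hm : 2 ≤ m)
    (hq : m = 2 → 3 ≤ q) : ∃ x : SG (PU hF (m + 2)), x ^ 3 = 1 ∧ UGood 1 4 x := by
  classical
  have hfin : Finite ((Fin (m + 2) → F) ≃ₗ[F] (Fin (m + 2) → F)) := instFin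
  have hm1 : (-1 : F) = 1 := by
    have := CharTwo.add_self_eq_zero (1 : F)
    linear_combination (-1) * this
  -- a cube root of unity
  obtain ⟨w, hw3, hw1⟩ : ∃ w : F, w ^ 3 = 1 ∧ w ≠ 1 := by
    have h4 : 3 ∣ Nat.card Fˣ := by
      rw [card_units_eq hF]
      exact Dvd.dvd.mul_right h3 _
    have := Fact.mk Nat.prime_three
    obtain ⟨g, hg⟩ := exists_prime_orderOf_dvd_card' 3 h4
    refine ⟨g, ?_, ?_⟩
    · have := pow_orderOf_eq_one g
      rw [hg] at this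
      have h5 := congrArg Units.val this
      simpa using h5
    · intro h
      have : g = 1 := Units.ext h
      rw [this, orderOf_one] at hg
      norm_num at hg
  have hwq : w ^ (q + 1) = 1 := by
    obtain ⟨c, hc⟩ := h3
    rw [hc, pow_mul, hw3, one_pow]
  obtain ⟨f, hf, hs⟩ := exists_exp m hm
  obtain ⟨lam, hlam⟩ : ∃ lam : Fin (m + 2) → F,
    lam = fun i => w ^ ((Fin.cons 0 (Fin.cons 0 f) : Fin (m + 2) → ℕ) i) := ⟨_, rfl⟩
  have hd : ∏ i, lam i = 1 := by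
    rw [hlam]
    rw [Fin.prod_univ_succ, Fin.prod_univ_succ]
    change w ^ 0 * (w ^ 0 * ∏ i : Fin m, w ^ f i) = 1
    rw [pow_zero, one_mul, one_mul, Finset.prod_pow_eq_pow_sum]
    obtain ⟨c, hc⟩ := hs
    rw [hc, pow_mul, hw3, one_pow]
  have ha : ∀ i, lam i ^ (q + 1) = 1 := by
    intro i
    rw [hlam]
    change (w ^ _) ^ (q + 1) = 1
    rw [← pow_mul, mul_comm, pow_mul, hwq, one_pow]
  obtain ⟨X, hX⟩ : ∃ X, X = toLin F q (m + 2) (Cfsg.Agent.LieClassical.SUBasic.suDiag q lam hd ha) :=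
    ⟨_, rfl⟩
  have hXv : ∀ v i, X v i = lam i * v i := by
    intro v i
    rw [hX, toLin_apply, act_def]
    exact Matrix.mulVec_diagonal _ _ _
  have hXS : X ∈ SG (PU hF (m + 2)) := by
    rw [SG_PU hF (by omega), hX]
    exact ⟨_, rfl⟩
  have hl : ∀ i, w ^ f i ≠ 1 := by
    intro i h
    rcases hf i with h1 | h1
    · rw [h1, pow_one] at h
      exact hw1 h
    · rw [h1] at h
      apply hw1
      have : w ^ 3 = w ^ 2 * w := by ring
      rw [h, one_mul, hw3] at this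
      exact this.symm
  have hx0 : ∀ v, X v 0 = v 0 := by
    intro v
    rw [hXv, hlam]
    change w ^ 0 * v 0 = v 0
    rw [pow_zero, one_mul]
  have hx1 : ∀ v, X v 1 = v 1 := by
    intro v
    rw [hXv, hlam]
    change w ^ 0 * v 1 = v 1
    rw [pow_zero, one_mul]
  have hx2 : ∀ v, ∀ i : Fin m, X v i.succ.succ = w ^ f i * v i.succ.succ := by
    intro v i
    rw [hXv, hlam]
    rfl
  have hX3 : X ^ 3 = 1 := by
    ext v i
    have h4 : ∀ n : ℕ, (X ^ n) v i = lam i ^ n * v i := by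
      intro n
      induction n with
      | zero => rw [pow_zero, pow_zero, one_mul]; rfl
      | succ n ih =>
        rw [pow_succ']
        change X ((X ^ n) v) i = _
        rw [hXv, ih, pow_succ']
        ring
    rw [h4, hlam]
    change (w ^ _) ^ 3 * v i = v i
    rw [← pow_mul, mul_comm _ 3, pow_mul, hw3, one_pow, one_mul]
  -- the two isotropic vectors
  have ha1 : (1 : F) * 1 ^ q = -1 := by rw [hm1, one_pow, mul_one]
  have haw : w * w ^ q = -1 := by rw [hm1, ← pow_succ', hwq]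
  have H1 := heisG hF hm hq ha1 hXS hl hx0 hx1 hx2
  have H2 := heisG hF hm hq haw hXS hl hx0 hx1 hx2
  have hh : hermForm (m + 2) F q (uv 1) (uv w) ≠ 0 := by
    rw [herm_uv_uv, one_mul]
    intro h
    apply hw1
    have h5 : w ^ q = 1 := by linear_combination h + hm1
    rw [h5, mul_one, hm1] at haw
    exact haw
  have hh' : hermForm (m + 2) F q (uv w) (uv 1) ≠ 0 := fun h => hh (herm_eq_zero_swap hF h)
  refine ⟨⟨X, hXS⟩, Subtype.ext hX3, ?_⟩
  refine heis_quarter_sub (k := 1) hXS (by rw [pow_one]; exact hX3) H1 H2 QU_le_SG QU_le_SG ?_ ?_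
  · exact fun D hD z hz hz1 hzD => gen_of hh (fun v _ hv => nd_HU hF v hv) D hD z hz hz1 hzD
  · exact fun D hD z hz hz1 hzD => gen_of hh' (fun v _ hv => nd_HU hF v hv) D hD z hz hz1 hzD

/-- **The row for `PSU_n(q)`**, `q` even, `3 ∣ q + 1`, `n ≥ 4`, `(n, q) ≠ (4, 2)`, `p = 3`. -/
theorem row_psu_three {n : ℕ} (hF : Fintype.card F = q ^ 2) [CharP F 2] (h3 : 3 ∣ q + 1)
    (hn : 4 ≤ n) (hnq : ¬ (n = 4 ∧ q = 2)) : FprRow 4 1 3 (PSU n F q) := by
  obtain ⟨m, rfl⟩ : ∃ m, n = m + 2 := ⟨n - 2, by omega⟩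
  have hfin : Finite ((Fin (m + 2) → F) ≃ₗ[F] (Fin (m + 2) → F)) := instFin
  have hq2 := two_le hF
  obtain ⟨x, hx3, hx⟩ := uGood_SG (m := m) hF h3 (by omega) (by
    intro hm
    by_contra hcon
    exact hnq ⟨by omega, by omega⟩)
  have e : SG (PU hF (m + 2)) ≃* SU (m + 2) F q :=
    ((MonoidHom.ofInjective (toLin_injective (F := F) (q := q) (N := m + 2))).trans
      (MulEquiv.subgroupCongr (SG_PU hF (by omega)).symm)).symm
  let f : SG (PU hF (m + 2)) →* PSU (m + 2) F q :=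
    (QuotientGroup.mk' (Subgroup.center (SU (m + 2) F q))).comp e.toMonoidHom
  have hf : Function.Surjective f := (QuotientGroup.mk'_surjective _).comp e.surjective
  refine FprRow.of_surjective Nat.prime_three f hf ?_
  intro H hH
  refine ⟨x, ?_, hx H hH⟩
  have h4 : orderOf x ∣ 3 ^ 1 := by
    rw [pow_one]
    exact orderOf_dvd_of_pow_eq_one hx3
  obtain ⟨k, -, hk⟩ := (Nat.dvd_prime_pow Nat.prime_three).1 h4
  exact ⟨k, hk⟩

end Coord

end Cfsg.Agent.H452.FprPsuN
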