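import Cfsg.Agent.H452.FprTTRow

/-!
# `PSp_{2m}(2)`, `m ≥ 3`, `p = 3`
-/

set_option autoImplicit false
open Subgroup MulAction

namespace Cfsg.Agent.H452.FprSpSix

open Cfsg Cfsg.Agent.H398.FPR Cfsg.Agent.H452.FprHeis Cfsg.Agent.H452.FprTT
open Cfsg.Agent.H452.FprPsuN Cfsg.Agent.H110.Fpr Cfsg.Agent.H409
open Cfsg.Agent.TitsThree.Siegel Cfsg.Agent.TitsThree.SiegelGen

section abstract

variable {G X : Type*} [Group G] [MulAction G X] {x : G} {Q Z : Subgroup G}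

/-- The group `S W`, `W` central in `Q`. -/
def SW {W : Subgroup G} (hc : ∀ w ∈ W, ∀ g ∈ Q, w * g = g * w) (S : Subgroup G) (hS : S ≤ Q) :
    Subgroup G where
  carrier := {g | ∃ s ∈ S, ∃ z ∈ W, g = s * z}
  one_mem' := ⟨1, one_mem _, 1, one_mem _, (one_mul 1).symm⟩
  mul_mem' := by
    rintro _ _ ⟨a, ha, z, hz, rfl⟩ ⟨b, hb, w, hw, rfl⟩
    refine ⟨a * b, mul_mem ha hb, z * w, mul_mem hz hw, ?_⟩
    have h2 := hc z hz b (hS hb)
    calc a * z * (b * w) = a * (z * b) * w := by group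
      _ = a * (b * z) * w := by rw [h2]
      _ = a * b * (z * w) := by group
  inv_mem' := by
    rintro _ ⟨a, ha, z, hz, rfl⟩
    refine ⟨a⁻¹, inv_mem ha, z⁻¹, inv_mem hz, ?_⟩
    rw [mul_inv_rev]
    exact hc _ (inv_mem hz) _ (inv_mem (hS ha))

/-- The index of `S Z` in `Q` is at least `8` if `S ∩ W = 1`. -/
theorem eight_le_W [Finite G] (h : Heis x Q Z) {W : Subgroup G} (hWQ : W ≤ Q)
    (hc : ∀ w ∈ W, ∀ g ∈ Q, w * g = g * w) (hcard : 4 * Nat.card Z ≤ Nat.card W)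
    (hnc : ∃ a ∈ Q, ∃ b ∈ Q, a * b ≠ b * a) {S : Subgroup G} {hS : S ≤ Q}
    (hSW : ∀ w ∈ W, w ∈ S → w = 1) (hZW : Z ≤ W) :
    8 * Nat.card (SZ h S hS) ≤ Nat.card Q := by
  classical
  have h1 : Nat.card (SW hc S hS) = Nat.card S * Nat.card W := by
    rw [← Nat.card_prod]
    refine (Nat.card_congr (Equiv.ofBijective (fun y : S × W =>
      (⟨y.1 * y.2, y.1, y.1.2, y.2, y.2.2, rfl⟩ : SW hc S hS)) ⟨?_, ?_⟩)).symm
    · rintro ⟨s, w⟩ ⟨s', w'⟩ hsw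
      have h2 : (s : G) * w = s' * w' := congrArg Subtype.val hsw
      have h3 : (s' : G)⁻¹ * s = w' * (w : G)⁻¹ := by
        rw [inv_mul_eq_iff_eq_mul, ← mul_assoc, eq_mul_inv_iff_mul_eq]
        exact h2
      have h4 : (s' : G)⁻¹ * s = 1 := by
        apply hSW
        · rw [h3]; exact mul_mem w'.2 (inv_mem w.2)
        · exact mul_mem (inv_mem s'.2) s.2
      have h5 : (w' : G) * (w : G)⁻¹ = 1 := by rw [← h3, h4]
      have h6 : s = s' := Subtype.ext (inv_mul_eq_one.1 h4).symm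
      have h7 : w = w' := Subtype.ext (mul_inv_eq_one.1 h5).symm
      rw [h6, h7]
    · rintro ⟨_, s, hs, w, hw, rfl⟩
      exact ⟨(⟨s, hs⟩, ⟨w, hw⟩), rfl⟩
  have h2 : Nat.card (SZ h S hS) ≤ Nat.card S * Nat.card Z := by
    rw [← Nat.card_prod]
    refine Nat.card_le_card_of_surjective (fun y : S × Z =>
      (⟨y.1 * y.2, y.1, y.1.2, y.2, y.2.2, rfl⟩ : SZ h S hS)) ?_
    rintro ⟨_, s, hs, w, hw, rfl⟩
    exact ⟨(⟨s, hs⟩, ⟨w, hw⟩), rfl⟩
  have h3 : SW hc S hS ≤ Q := by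
    rintro _ ⟨s, hs, w, hw, rfl⟩
    exact mul_mem (hS hs) (hWQ hw)
  have hcommS : ∀ a ∈ S, ∀ b ∈ S, a * b = b * a := by
    intro a ha b hb
    have h2 := hSW _ (hZW (h.der a (hS ha) b (hS hb)))
      (mul_mem (mul_mem (mul_mem ha hb) (inv_mem ha)) (inv_mem hb))
    rw [mul_inv_eq_one, mul_inv_eq_iff_eq_mul] at h2
    exact h2
  have h4 : SW hc S hS < Q := by
    refine lt_of_le_of_ne h3 ?_
    intro heq
    obtain ⟨a, ha, b, hb, hab⟩ := hnc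
    rw [← heq] at ha hb
    obtain ⟨s, hs, z1, hz1, rfl⟩ := ha
    obtain ⟨t, ht, z2, hz2, rfl⟩ := hb
    apply hab
    have e1 := hc z1 hz1 t (hS ht)
    have e2 := hc z2 hz2 s (hS hs)
    have e3 := hc z1 hz1 z2 (hWQ hz2)
    calc s * z1 * (t * z2) = s * (z1 * t) * z2 := by group
      _ = (s * t) * (z1 * z2) := by rw [e1]; group
      _ = (t * s) * (z2 * z1) := by rw [hcommS s hs t ht, e3]
      _ = t * (s * z2) * z1 := by group
      _ = t * z2 * (s * z1) := by rw [← e2]; group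
  have h5 := two_mul_card_le h4
  rw [h1] at h5
  calc 8 * Nat.card (SZ h S hS) ≤ 8 * (Nat.card S * Nat.card Z) := Nat.mul_le_mul_left _ h2
    _ = 2 * (Nat.card S * (4 * Nat.card Z)) := by ring
    _ ≤ 2 * (Nat.card S * Nat.card W) := by gcongr
    _ ≤ _ := h5

theorem eight_le_wt_W [Finite G] [Finite X] (h : Heis x Q Z) {W : Subgroup G} (hWQ : W ≤ Q)
    (hc : ∀ w ∈ W, ∀ g ∈ Q, w * g = g * w) (hcard : 4 * Nat.card Z ≤ Nat.card W)
    (hnc : ∃ a ∈ Q, ∃ b ∈ Q, a * b ≠ b * a) (hZW : Z ≤ W) {ω : X}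
    (hSW : ∀ w ∈ W, w ∈ stabilizer G ω → w = 1) : 8 ≤ wt Q Z ω := by
  obtain ⟨S, hS⟩ : ∃ S : Subgroup G, S = Q ⊓ stabilizer G ω := ⟨_, rfl⟩
  have hSQ : S ≤ Q := by rw [hS]; exact inf_le_left
  have hcard := eight_le_W h hWQ hc hcard hnc (S := S) (hS := hSQ) (fun z hz hzS => by
    rw [hS] at hzS
    exact hSW z hz hzS.2) hZW
  have h2 := card_orbit_mul (T := Q) hS hSQ le_rfl
  have h3 := card_orbit_mul (T := SZ h S hSQ) hS le_SZ SZ_le
  rw [orbit_SZ (by rw [hS]; exact inf_le_right)] at h3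
  rw [← h2, ← h3] at hcard
  have h4 : 8 * (orbit Z ω).ncard ≤ (orbit Q ω).ncard := by
    have h5 : 0 < Nat.card S := Nat.card_pos
    apply Nat.le_of_mul_le_mul_right _ h5
    calc 8 * (orbit Z ω).ncard * Nat.card S = 8 * ((orbit Z ω).ncard * Nat.card S) := by ring
      _ ≤ _ := hcard
  rw [wt, le_div_iff₀ (by exact_mod_cast orbit_ncard_pos Z ω)]
  exact_mod_cast h4

/-- **The ratio `1 / 4`**, third version. -/
theorem heis_quarter_W [Finite G] {x : G} {Q1 Q2 Z1 Z2 W1 W2 : Subgroup G} {k : ℕ}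
    (hx : x ^ 3 ^ k = 1) (h1 : Heis x Q1 Z1) (h2 : Heis x Q2 Z2)
    (hcomm1 : ∀ z ∈ Z1, ∃ a ∈ Q1, ∃ b ∈ Q1, z = a * b * a⁻¹ * b⁻¹)
    (hcomm2 : ∀ z ∈ Z2, ∃ a ∈ Q2, ∃ b ∈ Q2, z = a * b * a⁻¹ * b⁻¹)
    (hW1 : W1 ≤ Q1) (hW2 : W2 ≤ Q2) (hZW1 : Z1 ≤ W1) (hZW2 : Z2 ≤ W2)
    (hc1 : ∀ w ∈ W1, ∀ g ∈ Q1, w * g = g * w) (hc2 : ∀ w ∈ W2, ∀ g ∈ Q2, w * g = g * w)
    (hcard1 : 4 * Nat.card Z1 ≤ Nat.card W1) (hcard2 : 4 * Nat.card Z2 ≤ Nat.card W2)
    (hnc1 : ∃ a ∈ Q1, ∃ b ∈ Q1, a * b ≠ b * a) (hnc2 : ∃ a ∈ Q2, ∃ b ∈ Q2, a * b ≠ b * a)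
    (hg1 : ∀ H : Subgroup G, Q1 ≤ H → x ∈ H → ∀ z ∈ W2, z ≠ 1 → z ∈ H → H = ⊤)
    (hg2 : ∀ H : Subgroup G, Q2 ≤ H → x ∈ H → ∀ z ∈ W1, z ≠ 1 → z ∈ H → H = ⊤) :
    UGood 1 4 x := by
  classical
  intro H hH
  have := Fintype.ofFinite (G ⧸ H)
  have a1 := h1.sum_wt (X := G ⧸ H)
  have a2 := h2.sum_wt (X := G ⧸ H)
  have hw : ∀ ω ∈ Finset.univ.filter (fun ω : G ⧸ H => x • ω = ω),
      (8 : ℚ) ≤ wt Q1 Z1 ω + wt Q2 Z2 ω := by
    intro ω hω
    have hxω : x • ω = ω := (Finset.mem_filter.1 hω).2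
    have hst := stabilizer_ne_top' hH ω
    have w1 := one_le_wt h1.le ω
    have w2 := one_le_wt h2.le ω
    by_cases b1 : Q1 ≤ stabilizer G ω
    · have := eight_le_wt_W h2 hW2 hc2 hcard2 hnc2 hZW2 (ω := ω) (fun z hz hzH => by
        by_contra hz1
        exact hst (hg1 _ b1 hxω z hz hz1 hzH))
      linarith
    · by_cases b2 : Q2 ≤ stabilizer G ω
      · have := eight_le_wt_W h1 hW1 hc1 hcard1 hnc1 hZW1 (ω := ω) (fun z hz hzH => by
          by_contra hz1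
          exact hst (hg2 _ b2 hxω z hz hz1 hzH))
        linarith
      · have c1 := h1.four_le_wt hx hcomm1 hxω b1
        have c2 := h2.four_le_wt hx hcomm2 hxω b2
        linarith
  have h3 := Finset.sum_le_sum hw
  rw [Finset.sum_add_distrib, Finset.sum_const, nsmul_eq_mul] at h3
  have h4 : (Finset.univ.filter (fun ω : G ⧸ H => x • ω = ω)).card =
      Nat.card (fixedBy (G ⧸ H) x) := by
    rw [Nat.card_coe_set_eq, Set.ncard_eq_toFinset_card']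
    congr 1
    ext y
    simp [mem_fixedBy]
  rw [h4] at h3
  rw [← Nat.card_eq_fintype_card] at a1 a2
  have h5 : (Nat.card (fixedBy (G ⧸ H) x) : ℚ) * 8 ≤ 2 * (Nat.card (G ⧸ H) : ℚ) := by linarith
  have h6 : Nat.card (fixedBy (G ⧸ H) x) * 8 ≤ 2 * Nat.card (G ⧸ H) := by exact_mod_cast h5
  omega

end abstract

variable {F : Type*} [Field F] {V : Type*} [AddCommGroup V] [Module F V]
variable {H : HForm F V} {P : PQ H} {e1 e2 f1 f2 : V}

/-- Generation by the radical and an element with invertible block. -/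
theorem genD (hA : Alt2 H) (h : Fr P e1 e2 f1 f2) (hND : ∀ v : V, v ≠ 0 → ∃ w, H.h v w ≠ 0)
    {m m' : V} (hm : InM H e1 e2 f1 f2 m) (hm' : InM H e1 e2 f1 f2 m') (hmm : H.h m m' ≠ 0)
    (D : Subgroup (V ≃ₗ[F] V)) (hQ : QT hA P e1 e2 f1 f2 ≤ D) {z : V ≃ₗ[F] V} (hzS : z ∈ SG P)
    (hzD : z ∈ D) {a b c d : F} (hz : Dat H f1 f2 e1 e2 z 0 0 a b c d) (hdet : a * d - b * c ≠ 0) :
    SG P ≤ D := by
  obtain ⟨hzi, hzok, hzok'⟩ := SG_iso hzS
  have hz_e1 : z e1 = e1 + a • f1 + b • f2 := by rw [hz.gf1, add_zero]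
  have hz_e2 : z e2 = e2 + c • f1 + d • f2 := by rw [hz.gf2, add_zero]
  have hz_m : ∀ n, InM H e1 e2 f1 f2 n → z n = n := by
    intro n hn
    rw [hz.gm n hn.symm, H.zero_right]
    module
  obtain ⟨T, hT⟩ : ∃ T, T = Submodule.span F ({e1, e2} : Set V) := ⟨_, rfl⟩
  obtain ⟨T', hT'⟩ : ∃ T', T' = Submodule.span F ({z e1, z e2} : Set V) := ⟨_, rfl⟩
  obtain ⟨M, hM⟩ : ∃ M, M = perp H ({e1, e2, f1, f2} : Set V) := ⟨_, rfl⟩
  have memT : ∀ v, v ∈ T ↔ ∃ a b : F, a • e1 + b • e2 = v := by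
    intro v; rw [hT, Submodule.mem_span_pair]
  have memT' : ∀ v, v ∈ T' ↔ ∃ a b : F, a • z e1 + b • z e2 = v := by
    intro v; rw [hT', Submodule.mem_span_pair]
  have memM : ∀ v, v ∈ M ↔ InM H e1 e2 f1 f2 v := by
    intro v
    rw [hM, mem_perp]
    simp only [Set.mem_insert_iff, Set.mem_singleton_iff, forall_eq_or_imp, forall_eq]
    rfl
  have hTs : ∀ u ∈ T, P.ok u 0 := by
    intro u hu
    obtain ⟨a, b, rfl⟩ := (memT u).1 hu
    exact okT hA h a b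
  have hTT : ∀ u ∈ T, ∀ u' ∈ T, H.h u u' = 0 := by
    intro u hu u' hu'
    obtain ⟨a, b, rfl⟩ := (memT u).1 hu
    obtain ⟨c, d, rfl⟩ := (memT u').1 hu'
    simp only [H.add_left, H.add_right, H.smul_left, H.smul_right, P.iso h.se1, P.iso h.se2,
      h.hee, sw hA e1 e2, mul_zero, add_zero]
  have hTM : ∀ u ∈ T, ∀ w ∈ M, H.h u w = 0 := by
    intro u hu w hw
    obtain ⟨a, b, rfl⟩ := (memT u).1 hu
    have hw' := (memM w).1 hw
    simp only [H.add_left, H.smul_left, hw'.le1 hA, hw'.le2 hA, mul_zero, add_zero]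
  have himg : ∀ u ∈ T', ∃ u0 ∈ T, z u0 = u := by
    intro u hu
    obtain ⟨a, b, rfl⟩ := (memT' u).1 hu
    exact ⟨a • e1 + b • e2, (memT _).2 ⟨a, b, rfl⟩, by rw [map_add, map_smul, map_smul]⟩
  have himgW : ∀ w ∈ T' ⊔ M, ∃ w0 ∈ T ⊔ M, z w0 = w := by
    intro w hw
    obtain ⟨u, hu, n, hn, rfl⟩ := Submodule.mem_sup.1 hw
    obtain ⟨u0, hu0, rfl⟩ := himg u hu
    exact ⟨u0 + n, Submodule.add_mem_sup hu0 hn, by rw [map_add, hz_m n ((memM n).1 hn)]⟩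
  have hrad : rad P T (T ⊔ M) ≤ D := by
    apply rad_le
    intro u w c hu hw huT hwW hc
    apply hQ
    refine ⟨sie_mem_SG P _ _ (hTs u huT) hc, ?_⟩
    obtain ⟨a, b, hab⟩ := (memT u).1 huT
    obtain ⟨v, hv, n, hn, hvn⟩ := Submodule.mem_sup.1 hwW
    obtain ⟨a', b', hab'⟩ := (memT v).1 hv
    exact ⟨_, _, _, _, _, _, dat_sie hA h a b a' b' c ((memM n).1 hn) hab.symm
      (by rw [← hvn, ← hab']; abel) hu hw⟩
  have hrad' : rad P T' (T' ⊔ M) ≤ D := by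
    apply rad_le
    intro u w c hu hw huT hwW hc
    obtain ⟨u0, hu0, rfl⟩ := himg u huT
    obtain ⟨w0, hw0, rfl⟩ := himgW w hwW
    have h1 : H.h u0 u0 = 0 := hTT u0 hu0 u0 hu0
    have h2 : H.h u0 w0 = 0 := by rw [← hzi, hw]
    have hc0 : P.ok w0 c := by
      have := hzok' _ c hc
      have e : z⁻¹ (z w0) = w0 := z.symm_apply_apply w0
      rwa [e] at this
    exact conj_mem hzD hzi h1 h2 (hrad (sie_mem_rad h1 h2 hu0 hw0 hc0)) hu hw rfl rfl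
  -- the vectors `f₁`, `f₂`
  have hsol : ∀ s t : F, s • f1 + t • f2 ∈ T ⊔ M ⊔ T' := by
    intro s t
    obtain ⟨D0, hD0⟩ : ∃ D0, D0 = a * d - b * c := ⟨_, rfl⟩
    rw [← hD0] at hdet
    have e : s • f1 + t • f2 = ((s * d - t * c) / D0) • (z e1 - e1) +
        ((t * a - s * b) / D0) • (z e2 - e2) := by
      rw [hz_e1, hz_e2]
      have e1' : e1 + a • f1 + b • f2 - e1 = a • f1 + b • f2 := by abel
      have e2' : e2 + c • f1 + d • f2 - e2 = c • f1 + d • f2 := by abel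
      rw [e1', e2', smul_add, smul_add, smul_smul, smul_smul, smul_smul, smul_smul]
      have k1 : (s * d - t * c) / D0 * a + (t * a - s * b) / D0 * c = s := by
        field_simp
        rw [hD0]; ring
      have k2 : (s * d - t * c) / D0 * b + (t * a - s * b) / D0 * d = t := by
        field_simp
        rw [hD0]; ring
      calc s • f1 + t • f2 = ((s * d - t * c) / D0 * a + (t * a - s * b) / D0 * c) • f1 +
            ((s * d - t * c) / D0 * b + (t * a - s * b) / D0 * d) • f2 := by rw [k1, k2]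
        _ = _ := by module
    rw [e]
    have he1 : e1 ∈ T ⊔ M ⊔ T' := (le_sup_left.trans le_sup_left : T ≤ _) ((memT _).2
      ⟨1, 0, by module⟩)
    have he2 : e2 ∈ T ⊔ M ⊔ T' := (le_sup_left.trans le_sup_left : T ≤ _) ((memT _).2
      ⟨0, 1, by module⟩)
    exact Submodule.add_mem _
      (Submodule.smul_mem _ _ (Submodule.sub_mem _ ((le_sup_right : T' ≤ _) ((memT' _).2
        ⟨1, 0, by module⟩)) he1))
      (Submodule.smul_mem _ _ (Submodule.sub_mem _ ((le_sup_right : T' ≤ _) ((memT' _).2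
        ⟨0, 1, by module⟩)) he2))
  have hpair : ∃ p ∈ T, ∃ r ∈ T', H.h r p ≠ 0 := by
    by_contra hcon
    push Not at hcon
    have k : ∀ i j : F, H.h (z e1) (i • e1 + j • e2) = 0 ∧ H.h (z e2) (i • e1 + j • e2) = 0 := by
      intro i j
      exact ⟨hcon _ ((memT _).2 ⟨i, j, rfl⟩) _ ((memT' _).2 ⟨1, 0, by module⟩),
        hcon _ ((memT _).2 ⟨i, j, rfl⟩) _ ((memT' _).2 ⟨0, 1, by module⟩)⟩
    have k1 := k 1 0
    have k2 := k 0 1
    have e1' : (1 : F) • e1 + (0 : F) • e2 = e1 := by module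
    have e2' : (0 : F) • e1 + (1 : F) • e2 = e2 := by module
    rw [e1', hz_e1, hz_e2] at k1
    rw [e2', hz_e1, hz_e2] at k2
    simp only [H.add_left, H.smul_left, P.iso h.se1, P.iso h.se2, h.hee, sw hA e1 e2, sw hA e1 f1,
      sw hA e1 f2, sw hA e2 f1, sw hA e2 f2, h.h11, h.h12, h.h21, h.h22, mul_zero, mul_one,
      zero_add, add_zero] at k1 k2
    apply hdet
    rw [k1.1, k2.1]
    ring
  refine radI_gen hrad hrad' ?_ hTs hTT ?_ ?_ hTM ?_ ⟨m, (memM m).2 hm, m', (memM m').2 hm', hmm⟩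
    hpair (fun v _ hv => hND v hv)
  · rw [eq_top_iff]
    intro v _
    obtain ⟨n, hn, hv⟩ := h.proj hA v
    rw [hv]
    have he1 : e1 ∈ T ⊔ M ⊔ T' := (le_sup_left.trans le_sup_left : T ≤ _) ((memT _).2
      ⟨1, 0, by module⟩)
    have he2 : e2 ∈ T ⊔ M ⊔ T' := (le_sup_left.trans le_sup_left : T ≤ _) ((memT _).2
      ⟨0, 1, by module⟩)
    refine Submodule.add_mem _ ((le_sup_right.trans le_sup_left : M ≤ _) ((memM n).2 hn)) ?_
    rw [add_assoc (_ • e1 + _ • e2)]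
    exact Submodule.add_mem _ (Submodule.add_mem _ 
      (Submodule.smul_mem _ _ he1) (Submodule.smul_mem _ _ he2)) (hsol _ _)
  · intro u hu
    obtain ⟨u0, hu0, rfl⟩ := himg u hu
    exact hzok _ _ (hTs u0 hu0)
  · intro u hu u' hu'
    obtain ⟨u0, hu0, rfl⟩ := himg u hu
    obtain ⟨u0', hu0', rfl⟩ := himg u' hu'
    rw [hzi]
    exact hTT u0 hu0 u0' hu0'
  · intro u hu w hw
    obtain ⟨u0, hu0, rfl⟩ := himg u hu
    rw [← hz_m w ((memM w).1 hw), hzi]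
    exact hTM u0 hu0 w hw

/-- Subgroup version. -/
theorem heis_quarter_W_sub {A : Type*} [Group A] [Finite A] {K : Subgroup A} {x : A}
    (hxK : x ∈ K) {Q1 Q2 Z1 Z2 W1 W2 : Subgroup A} {k : ℕ} (hx : x ^ 3 ^ k = 1)
    (h1 : Heis x Q1 Z1) (h2 : Heis x Q2 Z2)
    (hcomm1 : ∀ z ∈ Z1, ∃ a ∈ Q1, ∃ b ∈ Q1, z = a * b * a⁻¹ * b⁻¹)
    (hcomm2 : ∀ z ∈ Z2, ∃ a ∈ Q2, ∃ b ∈ Q2, z = a * b * a⁻¹ * b⁻¹)
    (hW1 : W1 ≤ Q1) (hW2 : W2 ≤ Q2) (hZW1 : Z1 ≤ W1) (hZW2 : Z2 ≤ W2)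
    (hc1 : ∀ w ∈ W1, ∀ g ∈ Q1, w * g = g * w) (hc2 : ∀ w ∈ W2, ∀ g ∈ Q2, w * g = g * w)
    (hcard1 : 4 * Nat.card Z1 ≤ Nat.card W1) (hcard2 : 4 * Nat.card Z2 ≤ Nat.card W2)
    (hnc1 : ∃ a ∈ Q1, ∃ b ∈ Q1, a * b ≠ b * a) (hnc2 : ∃ a ∈ Q2, ∃ b ∈ Q2, a * b ≠ b * a)
    (hQ1 : Q1 ≤ K) (hQ2 : Q2 ≤ K)
    (hg1 : ∀ D : Subgroup A, Q1 ≤ D → x ∈ D → ∀ z ∈ W2, z ≠ 1 → z ∈ D → K ≤ D)
    (hg2 : ∀ D : Subgroup A, Q2 ≤ D → x ∈ D → ∀ z ∈ W1, z ≠ 1 → z ∈ D → K ≤ D) :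
    UGood 1 4 (⟨x, hxK⟩ : K) := by
  have hh : ∀ Q Z : Subgroup A, Heis x Q Z → Heis (⟨x, hxK⟩ : K) (Q.subgroupOf K)
      (Z.subgroupOf K) := by
    intro Q Z h
    exact {
      le := fun z hz => h.le hz
      cent := fun z hz g hg => Subtype.ext (h.cent z hz g hg)
      der := fun a ha b hb => h.der a ha b hb
      norm := by
        rw [mem_normalizer_iff]
        intro g
        rw [mem_subgroupOf, mem_subgroupOf]
        exact mem_normalizer_iff.1 h.norm g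
      fixZ := fun z hz => Subtype.ext (h.fixZ z hz)
      free := fun r hr hr2 => h.free r hr hr2 }
  have cc : ∀ Q Z : Subgroup A, Q ≤ K → (∀ z ∈ Z, ∃ a ∈ Q, ∃ b ∈ Q, z = a * b * a⁻¹ * b⁻¹) →
      ∀ z ∈ Z.subgroupOf K, ∃ a ∈ Q.subgroupOf K, ∃ b ∈ Q.subgroupOf K,
        z = a * b * a⁻¹ * b⁻¹ := by
    intro Q Z hQ h z hz
    obtain ⟨a, ha, b, hb, hab⟩ := h z hz
    exact ⟨⟨a, hQ ha⟩, ha, ⟨b, hQ hb⟩, hb, Subtype.ext hab⟩
  have cn : ∀ Q : Subgroup A, Q ≤ K → (∃ a ∈ Q, ∃ b ∈ Q, a * b ≠ b * a) →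
      ∃ a ∈ Q.subgroupOf K, ∃ b ∈ Q.subgroupOf K, a * b ≠ b * a := by
    rintro Q hQ ⟨a, ha, b, hb, hab⟩
    exact ⟨⟨a, hQ ha⟩, ha, ⟨b, hQ hb⟩, hb, fun h => hab (congrArg Subtype.val h)⟩
  have cb : ∀ Q Z W : Subgroup A, Q ≤ K → Z ≤ Q → W ≤ Q → 4 * Nat.card Z ≤ Nat.card W →
      4 * Nat.card (Z.subgroupOf K) ≤ Nat.card (W.subgroupOf K) := by
    intro Q Z W hQ hZ hW h
    rw [Nat.card_congr (Subgroup.subgroupOfEquivOfLe (hZ.trans hQ)).toEquiv,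
      Nat.card_congr (Subgroup.subgroupOfEquivOfLe (hW.trans hQ)).toEquiv]
    exact h
  have aux : ∀ Q W : Subgroup A, Q ≤ K →
      (∀ D : Subgroup A, Q ≤ D → x ∈ D → ∀ z ∈ W, z ≠ 1 → z ∈ D → K ≤ D) →
      ∀ H : Subgroup K, Q.subgroupOf K ≤ H → (⟨x, hxK⟩ : K) ∈ H →
        ∀ z ∈ W.subgroupOf K, z ≠ 1 → z ∈ H → H = ⊤ := by
    intro Q Z hQ hg H hQH hxH z hz hz1 hzH
    have h3 := hg (H.map K.subtype) (by
      intro a ha
      exact ⟨⟨a, hQ ha⟩, hQH ha, rfl⟩) ⟨_, hxH, rfl⟩ z hz (fun h => hz1 (Subtype.ext h))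
        ⟨z, hzH, rfl⟩
    rw [eq_top_iff]
    intro a _
    obtain ⟨b, hb, hba⟩ := h3 a.2
    have : b = a := Subtype.ext hba
    rwa [← this]
  exact heis_quarter_W (k := k) (Subtype.ext hx) (hh _ _ h1) (hh _ _ h2) (cc _ _ hQ1 hcomm1)
    (cc _ _ hQ2 hcomm2) (fun w hw => hW1 hw) (fun w hw => hW2 hw) (fun w hw => hZW1 hw)
    (fun w hw => hZW2 hw) (fun w hw g hg => Subtype.ext (hc1 w hw g hg))
    (fun w hw g hg => Subtype.ext (hc2 w hw g hg)) (cb _ _ _ hQ1 h1.le hW1 hcard1)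
    (cb _ _ _ hQ2 h2.le hW2 hcard2) (cn _ hQ1 hnc1) (cn _ hQ2 hnc2) (aux Q1 W2 hQ1 hg1)
    (aux Q2 W1 hQ2 hg2)

theorem WT_central (hA : Alt2 H) (h : Fr P e1 e2 f1 f2) : ∀ w ∈ WT hA P e1 e2 f1 f2,
    ∀ g ∈ QT hA P e1 e2 f1 f2, w * g = g * w := by
  rintro w ⟨-, a, b, c, d, hd⟩ g ⟨-, m1, m2, a', b', c', d', hd'⟩
  rw [comm_formula hA h hd hd']
  have e1' : (H.h m1 0 + H.h 0 m2) = 0 := by rw [H.zero_left, H.zero_right, add_zero]
  have e2' : H.sie e1 ((H.h m1 0 + H.h 0 m2) • e2) 0 (P.iso h.se1) (hz hA h _) = 1 := by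
    rw [← H.sie_zero e1 (P.iso h.se1)]
    apply H.sie_congr _ _ _ _ rfl _ rfl
    rw [e1', zero_smul]
  rw [e2', one_mul]

theorem WT_le (hA : Alt2 H) : WT hA P e1 e2 f1 f2 ≤ QT hA P e1 e2 f1 f2 :=
  fun _ hg => hg.1

theorem QT_le (hA : Alt2 H) : QT hA P e1 e2 f1 f2 ≤ SG P :=
  fun _ hg => hg.1

theorem ZT_le_WT (hA : Alt2 H) (h : Fr P e1 e2 f1 f2) : ZT hA h ≤ WT hA P e1 e2 f1 f2 := by
  intro z hz
  obtain ⟨t, rfl⟩ := hz
  exact ⟨ZT_le hA h ⟨t, rfl⟩, _, _, _, _, dat_z hA h t⟩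

theorem card_WT [Finite F] [Finite (V ≃ₗ[F] V)] (hA : Alt2 H) (h : Fr P e1 e2 f1 f2)
    (hlam : ∀ c, P.ok 0 c) : 4 * Nat.card (ZT hA h) ≤ Nat.card (WT hA P e1 e2 f1 f2) := by
  have hq2 : 2 ≤ Nat.card F := by
    have := Finite.one_lt_card (α := F)
    omega
  have k1 : ∀ c : F, Dat H e1 e2 f1 f2 (H.sie e1 0 c (P.iso h.se1) (H.zero_right e1))
      0 0 c 0 0 0 := by
    intro c
    have h1 := dat_sie hA h 1 0 0 0 c (m := 0) (u := e1) (w := 0) InM.zero (by module)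
      (by module) (P.iso h.se1) (H.zero_right e1)
    rw [smul_zero, smul_zero] at h1
    have e1 : c * 1 * 1 = c := by ring
    have e2 : (1 : F) * 0 + 0 * 0 + c * 1 * 0 = 0 := by ring
    have e3 : (0 : F) * 0 + 0 * 1 + c * 0 * 1 = 0 := by ring
    have e4 : c * 0 * 0 = 0 := by ring
    rwa [e1, e2, e3, e4] at h1
  have k2 : ∀ c : F, Dat H e1 e2 f1 f2 (H.sie e2 0 c (P.iso h.se2) (H.zero_right e2))
      0 0 0 0 0 c := by
    intro c
    have h1 := dat_sie hA h 0 1 0 0 c (m := 0) (u := e2) (w := 0) InM.zero (by module)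
      (by module) (P.iso h.se2) (H.zero_right e2)
    rw [smul_zero, smul_zero] at h1
    have e1 : c * 0 * 0 = 0 := by ring
    have e2 : (0 : F) * 0 + 0 * 1 + c * 0 * 1 = 0 := by ring
    have e3 : (1 : F) * 0 + 0 * 0 + c * 1 * 0 = 0 := by ring
    have e4 : c * 1 * 1 = c := by ring
    rwa [e1, e2, e3, e4] at h1
  have w1 : ∀ c : F, H.sie e1 0 c (P.iso h.se1) (H.zero_right e1) ∈ WT hA P e1 e2 f1 f2 :=
    fun c => ⟨⟨sie_mem_SG P _ _ h.se1 (hlam c), _, _, _, _, _, _, k1 c⟩, _, _, _, _, k1 c⟩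
  have w2 : ∀ c : F, H.sie e2 0 c (P.iso h.se2) (H.zero_right e2) ∈ WT hA P e1 e2 f1 f2 :=
    fun c => ⟨⟨sie_mem_SG P _ _ h.se2 (hlam c), _, _, _, _, _, _, k2 c⟩, _, _, _, _, k2 c⟩
  calc 4 * Nat.card (ZT hA h) ≤ (Nat.card F * Nat.card F) * Nat.card (ZT hA h) := by
        gcongr
        nlinarith
    _ = Nat.card ((F × F) × ZT hA h) := by rw [Nat.card_prod, Nat.card_prod]
    _ ≤ _ := by
      refine Nat.card_le_card_of_injective (fun y : (F × F) × ZT hA h =>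
        (⟨H.sie e1 0 y.1.1 (P.iso h.se1) (H.zero_right e1) *
          H.sie e2 0 y.1.2 (P.iso h.se2) (H.zero_right e2) * y.2,
          mul_mem (mul_mem (w1 _) (w2 _)) (ZT_le_WT hA h y.2.2)⟩ : WT hA P e1 e2 f1 f2)) ?_
      rintro ⟨⟨a, d⟩, z, t, rfl⟩ ⟨⟨a', d'⟩, z', t', rfl⟩ heq
      have h1 := congrArg Subtype.val heq
      have h2 := ((k1 a).mul (k2 d)).mul (dat_z hA h t)
      have h3 := ((k1 a').mul (k2 d')).mul (dat_z hA h t')
      simp only at h1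
      rw [h1] at h2
      obtain ⟨-, -, j1, j2, j3, j4⟩ := h2.uniq hA h h3
      simp only [H.zero_right, add_zero, zero_add] at j1 j2 j3 j4
      subst j1 j2 j4
      rfl

theorem nc_QT (hA : Alt2 H) (h : Fr P e1 e2 f1 f2) {m m' : V} (hm : InM H e1 e2 f1 f2 m)
    (hm' : InM H e1 e2 f1 f2 m') (hmm : H.h m m' ≠ 0) :
    ∃ a ∈ QT hA P e1 e2 f1 f2, ∃ b ∈ QT hA P e1 e2 f1 f2, a * b ≠ b * a := by
  obtain ⟨a, ha, b, hb, hab⟩ := commT hA h hm hm' hmm _ ⟨1, rfl⟩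
  refine ⟨a, ha, b, hb, fun hcon => ?_⟩
  have h1 : a * b * a⁻¹ * b⁻¹ = 1 := by rw [hcon]; group
  rw [h1] at hab
  have h2 := dat_z hA h 1
  rw [hab] at h2
  obtain ⟨-, -, -, k, -, -⟩ := h2.uniq hA h Dat.one
  exact one_ne_zero k

/-- Generation over the field of two elements. -/
theorem genW (hA : Alt2 H) (hF2 : ∀ t : F, t = 0 ∨ t = 1) (h : Fr P e1 e2 f1 f2)
    (hND : ∀ v : V, v ≠ 0 → ∃ w, H.h v w ≠ 0)
    {m m' : V} (hm : InM H e1 e2 f1 f2 m) (hm' : InM H e1 e2 f1 f2 m') (hmm : H.h m m' ≠ 0)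
    (D : Subgroup (V ≃ₗ[F] V)) (hQ : QT hA P e1 e2 f1 f2 ≤ D) (hx : xT hA h ∈ D) :
    ∀ z ∈ WT hA P f2 f1 e2 e1, z ≠ 1 → z ∈ D → SG P ≤ D := by
  obtain ⟨h', hh'⟩ : ∃ h' : Fr P f2 f1 e2 e1, h' = (h.symm hA).swp hA := ⟨_, rfl⟩
  have hxx : xT hA h' = xT hA h := by rw [hh', xT_opp hA h]
  -- change of frame
  have sw' : ∀ {g : V ≃ₗ[F] V} {a b c d : F}, Dat H f2 f1 e2 e1 g 0 0 a b c d →
      Dat H f1 f2 e1 e2 g 0 0 d c b a := by
    intro g a b c d hg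
    refine ⟨InM.zero, InM.zero, hg.ge2, hg.ge1, ?_, ?_, ?_⟩
    · rw [hg.gf2]; abel
    · rw [hg.gf1]; abel
    · intro n hn
      rw [hg.gm n hn.swp]; abel
  rintro z ⟨⟨hzS, -⟩, a, b, c, d, hzd⟩ hz1 hzD
  by_cases hdet : a * d - b * c ≠ 0
  · exact genD hA h hND hm hm' hmm D hQ hzS hzD (sw' hzd) (by
      intro h0
      apply hdet
      linear_combination h0)
  push Not at hdet
  -- isometry
  obtain ⟨hzi, -, -⟩ := SG_iso hzS
  have h3 := hzi e2 e1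
  rw [hzd.gf1, hzd.gf2] at h3
  simp only [H.add_left, H.add_right, H.smul_left, H.smul_right, H.zero_left, H.zero_right,
      h'.hff, P.iso h'.se1, P.iso h'.se2, h'.hee, sw hA f2 f1, sw hA f2 e2, sw hA f1 e2, h'.h11,
      h'.h21, h'.h12, h'.h22, hA.sig, mul_zero, mul_one, add_zero, zero_add] at h3
  have hbc : c = b := by
    have := hA.add_self b
    linear_combination h3 - this
  subst hbc
  have hz2 := dat_conj hA h' hzd
  rw [hxx] at hz2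
  have hz3 := hzd.mul hz2
  rw [add_zero, add_zero] at hz3
  have hgD : z * (xT hA h * z * (xT hA h)⁻¹) ∈ D :=
    mul_mem hzD (mul_mem (mul_mem hx hzD) (inv_mem hx))
  have hgS : z * (xT hA h * z * (xT hA h)⁻¹) ∈ SG P :=
    mul_mem hzS (mul_mem (mul_mem (xT_mem hA h) hzS) (inv_mem (xT_mem hA h)))
  refine genD hA h hND hm hm' hmm D hQ hgS hgD (sw' hz3) ?_
  simp only [H.zero_right, add_zero]
  have ca := hA.add_self (1 : F)
  have ca2 := hA.two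
  rcases hF2 a with rfl | rfl <;> rcases hF2 d with rfl | rfl <;> rcases hF2 c with rfl | rfl
  · exfalso
    apply hz1
    exact hzd.ext hA h' Dat.one
  · exfalso
    apply one_ne_zero (α := F)
    linear_combination -hdet
  · intro h0
    apply one_ne_zero (α := F)
    linear_combination h0
  · exfalso
    apply one_ne_zero (α := F)
    linear_combination -hdet
  · intro h0
    apply one_ne_zero (α := F)
    linear_combination h0
  · exfalso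
    apply one_ne_zero (α := F)
    linear_combination -hdet
  · exfalso
    apply one_ne_zero (α := F)
    linear_combination hdet
  · intro h0
    apply one_ne_zero (α := F)
    linear_combination h0

/-- **The ratio `1 / 4`** over the field of two elements. -/
theorem uGood_two [Finite F] [Finite V] (hA : Alt2 H) (hF2 : ∀ t : F, t = 0 ∨ t = 1)
    (hlam : ∀ c, P.ok 0 c) (h : Fr P e1 e2 f1 f2)
    (hND : ∀ v : V, v ≠ 0 → ∃ w, H.h v w ≠ 0)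
    {m m' : V} (hm : InM H e1 e2 f1 f2 m) (hm' : InM H e1 e2 f1 f2 m') (hmm : H.h m m' ≠ 0) :
    UGood 1 4 (⟨xT hA h, xT_mem hA h⟩ : SG P) := by
  have hfin : Finite (V ≃ₗ[F] V) := instFin
  obtain ⟨h', hh'⟩ : ∃ h' : Fr P f2 f1 e2 e1, h' = (h.symm hA).swp hA := ⟨_, rfl⟩
  have hxx : xT hA h' = xT hA h := by rw [hh', xT_opp hA h]
  have hx2 : Heis (xT hA h) (QT hA P f2 f1 e2 e1) (ZT hA h') := by
    have := heisT hA h'
    rwa [hxx] at this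
  refine heis_quarter_W_sub (k := 1) (xT_mem hA h) (by rw [pow_one]; exact xT_three hA h)
    (heisT hA h) hx2 (commT hA h hm hm' hmm) (commT hA h' hm.symm.swp hm'.symm.swp hmm)
    (WT_le hA) (WT_le hA) (ZT_le_WT hA h) (ZT_le_WT hA h') (WT_central hA h)
    (WT_central hA h') (card_WT hA h hlam) (card_WT hA h' hlam) (nc_QT hA h hm hm' hmm)
    (nc_QT hA h' hm.symm.swp hm'.symm.swp hmm) (QT_le hA) (QT_le hA)
    (genW hA hF2 h hND hm hm' hmm) ?_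
  intro D hD hxD
  exact genW hA hF2 h' hND hm.symm.swp hm'.symm.swp hmm D hD (by rw [hxx]; exact hxD)

open Cfsg.Agent.TitsThree.SpIdent Cfsg.Agent.TitsThree.SpGen

/-- **`PSp_{2m}(2)`, `m ≥ 3`.** -/
theorem row_PSp_two {F : Type*} [Field F] [Finite F] {m : ℕ} (hF : Nat.card F = 2)
    (hm : 3 ≤ m) : FprRow 4 1 3 (PSp m F) := by
  classical
  have := Fintype.ofFinite F
  have h2 : (2 : F) = 0 := FprTTRow.two_eq_zero (by rw [hF]; exact even_two)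
  have hfin : Finite ((Fin m ⊕ Fin m → F) ≃ₗ[F] (Fin m ⊕ Fin m → F)) := instFin
  have hA := alt_form (m := m) h2
  have hF2 : ∀ t : F, t = 0 ∨ t = 1 := by
    intro t
    by_contra hcon
    push Not at hcon
    have h3 : ({0, 1, t} : Finset F).card = 3 := by
      rw [Finset.card_insert_of_notMem, Finset.card_insert_of_notMem, Finset.card_singleton]
      · rw [Finset.mem_singleton]
        exact hcon.2.symm
      · simp only [Finset.mem_insert, Finset.mem_singleton, not_or]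
        exact ⟨zero_ne_one, hcon.1.symm⟩
    have h4 := Finset.card_le_univ ({0, 1, t} : Finset F)
    rw [h3, ← Nat.card_eq_fintype_card, hF] at h4
    omega
  obtain ⟨i0, hi0⟩ : ∃ i : Fin m, i = ⟨0, by omega⟩ := ⟨_, rfl⟩
  obtain ⟨i1, hi1⟩ : ∃ i : Fin m, i = ⟨1, by omega⟩ := ⟨_, rfl⟩
  obtain ⟨i2, hi2⟩ : ∃ i : Fin m, i = ⟨2, by omega⟩ := ⟨_, rfl⟩
  have h01 : i0 ≠ i1 := by rw [hi0, hi1]; simp
  have h02 : i0 ≠ i2 := by rw [hi0, hi2]; simp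
  have h12 : i1 ≠ i2 := by rw [hi1, hi2]; simp
  have hfr : Fr (pq m F) (e m F i0) (e m F i1) (f m F i0) (f m F i1) := by
    refine ⟨trivial, trivial, trivial, trivial, ?_, ?_, ?_, ?_, ?_, ?_⟩
    · rw [form_h, ef, if_pos rfl]
    · rw [form_h, ef, if_pos rfl]
    · rw [form_h, ef, if_neg h01]
    · rw [form_h, ef, if_neg h01.symm]
    · exact ee _ _
    · exact ff _ _
  have hm1 : InM (form m F) (e m F i0) (e m F i1) (f m F i0) (f m F i1) (e m F i2) := by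
    refine ⟨ee _ _, ee _ _, ?_, ?_⟩
    · rw [form_h, ef, if_neg h02.symm]
    · rw [form_h, ef, if_neg h12.symm]
  have hm2 : InM (form m F) (e m F i0) (e m F i1) (f m F i0) (f m F i1) (f m F i2) := by
    refine ⟨?_, ?_, ff _ _, ff _ _⟩
    · rw [form_h, fe, if_neg h02.symm]
    · rw [form_h, fe, if_neg h12.symm]
  let e : SG (pq m F) ≃* isos (form m F) := MulEquiv.subgroupCongr SG_pq
  let f : SG (pq m F) →* PSp m F := toPSp.comp e.toMonoidHom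
  have hf : Function.Surjective f := toPSp_surjective.comp e.surjective
  refine FprRow.of_surjective Nat.prime_three f hf ?_
  have hU := uGood_two hA hF2 (fun _ => trivial) hfr nd_form hm1 hm2 (by
    rw [form_h, ef, if_pos rfl]; exact one_ne_zero)
  intro D hD
  refine ⟨_, ?_, hU D hD⟩
  have h4 : orderOf (⟨xT hA hfr, xT_mem hA hfr⟩ : SG (pq m F)) ∣ 3 ^ 1 := by
    rw [pow_one]
    exact orderOf_dvd_of_pow_eq_one (Subtype.ext (xT_three hA hfr))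
  obtain ⟨k, -, hk⟩ := (Nat.dvd_prime_pow Nat.prime_three).1 h4
  exact ⟨k, hk⟩

end Cfsg.Agent.H452.FprSpSix
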