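import Cfsg.Agent.H452.FprSpFour
import Cfsg.Agent.H452.FprSpSix

/-!
# All rows `p = 3` of `PSp_{2m}(q)`, `q` even
-/

set_option autoImplicit false

namespace Cfsg.Agent.H452.FprSpAll

open Cfsg Cfsg.Agent.H398.FPR Cfsg.Agent.H409

/-- **`PSp_{2m}(q)`, `q` even, `p = 3`, `(m, q) ≠ (2, 2)`.** -/
theorem row_PSp_three {F : Type*} [Field F] [Finite F] {m : ℕ} (hm : 2 ≤ m)
    (heven : Even (Nat.card F)) (hmq : ¬ (m = 2 ∧ Nat.card F = 2)) :
    FprRow 4 1 3 (PSp m F) := by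
  have := Fintype.ofFinite F
  by_cases hd : 3 ∣ Nat.card F - 1
  · exact psp_eone hm (FprTTRow.two_eq_zero heven) Nat.prime_three (by norm_num) hd
  have hq1 : 1 < Nat.card F := Finite.one_lt_card
  have hn3 : ¬ 3 ∣ Nat.card F := by
    intro h
    obtain ⟨p, -, n, hpn, hn⟩ := FiniteField.card' F
    rw [Nat.card_eq_fintype_card, hn] at h heven
    have h3 := (Nat.prime_dvd_prime_iff_eq Nat.prime_three hpn).1 (Nat.prime_three.dvd_of_dvd_pow h)
    have h2 := (Nat.prime_dvd_prime_iff_eq Nat.prime_two hpn).1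
      (Nat.prime_two.dvd_of_dvd_pow (even_iff_two_dvd.1 heven))
    omega
  have h3q : 3 ∣ Nat.card F + 1 := by
    have h : Nat.card F % 3 = 0 ∨ Nat.card F % 3 = 1 ∨ Nat.card F % 3 = 2 := by omega
    rcases h with h | h | h
    · exact absurd (Nat.dvd_of_mod_eq_zero h) hn3
    · exact absurd (by omega) hd
    · omega
  have hq4 : Nat.card F ≠ 4 := by
    intro h
    apply hd
    rw [h]
  have hq6 : Nat.card F ≠ 6 := by
    intro h
    apply hn3
    rw [h]; norm_num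
  obtain ⟨k, hk⟩ := heven
  rcases Nat.lt_or_ge m 3 with h3 | h3
  · have hm2 : m = 2 := by omega
    refine FprSpFour.row_PSp_minus hm ⟨k, hk⟩ ?_ h3q
    have : Nat.card F ≠ 2 := fun h => hmq ⟨hm2, h⟩
    omega
  · rcases Nat.lt_or_ge (Nat.card F) 4 with h4 | h4
    · exact FprSpSix.row_PSp_two (by omega) h3
    · exact FprTTRow.row_PSp ⟨k, hk⟩ (Or.inr ⟨h3, h4⟩)

end Cfsg.Agent.H452.FprSpAll
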