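import Cfsg.Agent.H452.FprRee
import Cfsg.Agent.H101.SzSub
import Cfsg.Agent.S0324
import Cfsg.Agent.S0326
import Cfsg.Agent.S0331
import Cfsg.Agent.S0333
import Cfsg.Agent.S2251
import Cfsg.Agent.OddCyclic.ClaimC.SzIso

/-!
# Fixed point ratios of elements of odd order of the Suzuki groups
-/

set_option autoImplicit false
open Subgroup MulAction
open scoped Pointwise

namespace Cfsg.Agent.H452.FprSz

open Cfsg.Agent.H409 Cfsg.Agent.H452.FprCyc Cfsg.Agent.H452.FprTorus Cfsg.Agent.H452.FprRank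
open Cfsg.Agent.H452.FprRee

section General

variable {S : Type*} [Group S] [Finite S] {p : ℕ}

/-- The normaliser of a cyclic group normalises its subgroups. -/
theorem normalizer_le_of_cyclic {U : Subgroup S} (hU : IsCyclic U) {y : S} (hy : y ∈ U) :
    normalizer (U : Set S) ≤ normalizer ((zpowers y : Subgroup S) : Set S) := by
  classical
  intro g hg
  rw [mem_normalizer_iff_map_conj_eq]
  have h8 : (zpowers y).map (MulAut.conj g).toMonoidHom ≤ zpowers y := by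
    rw [MonoidHom.map_zpowers, zpowers_le]
    change g * y * g⁻¹ ∈ zpowers y
    obtain ⟨⟨u, hu⟩, hgen⟩ := hU.exists_generator
    have h1 : g * u * g⁻¹ ∈ U := (mem_normalizer_iff.1 hg u).1 hu
    obtain ⟨i, hi⟩ := hgen ⟨_, h1⟩
    obtain ⟨j, hj⟩ := hgen ⟨y, hy⟩
    have hi' : u ^ i = g * u * g⁻¹ := congrArg Subtype.val hi
    have hj' : u ^ j = y := congrArg Subtype.val hj
    refine ⟨i, ?_⟩
    change y ^ i = g * y * g⁻¹
    rw [← hj', ← conj_zpow, ← hi', ← zpow_mul, ← zpow_mul, mul_comm]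
  apply Subgroup.eq_of_le_of_card_ge h8
  exact (Nat.card_congr ((zpowers y).equivMapOfInjective _ (MulAut.conj g).injective).toEquiv).le

end General

section Sz

variable {F : Type*} [Field F] [Fintype F] {m : ℕ}

open Cfsg.Agent.H101.SzGeo Cfsg.Agent.H101.SzSub Cfsg.Agent.H101.SzAbs
open Cfsg.Agent.LieExceptional Cfsg.Agent.LieExceptional.SuzukiBasic
open Cfsg.Agent.LieExceptional.SuzukiSylow Cfsg.Agent.LieExceptional.SuzukiCN

theorem exists_eq_P (hm : 1 ≤ m) (hF : Fintype.card F = 2 ^ (2 * m + 1))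
    (R : Sylow 2 (Cfsg.Sz F m)) : ∃ a : Cfsg.suzukiOvoid F m, (R : Subgroup (Cfsg.Sz F m)) = P hF a := by
  have hf2 : Fact (Nat.Prime 2) := ⟨Nat.prime_two⟩
  obtain ⟨S0, hS0, -⟩ := exists_sylow hm hF (inf F m)
  obtain ⟨g, rfl⟩ := exists_smul_eq (Cfsg.Sz F m) S0 R
  refine ⟨g • inf F m, ?_⟩
  obtain ⟨S1, hS1, -⟩ := exists_sylow hm hF (g • inf F m)
  rw [← hS1]
  have hle : ((g • S0 : Sylow 2 (Cfsg.Sz F m)) : Subgroup (Cfsg.Sz F m)) ≤ S1 := by
    rw [hS1, Sylow.smul_def]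
    rintro _ ⟨x, hx, rfl⟩
    have hx' : x ∈ P hF (inf F m) := by rw [← hS0]; exact hx
    exact conj_mem_P hm hF g _ x hx'
  exact ((g • S0).is_maximal' S1.isPGroup' hle).symm

theorem sz_ti (hm : 1 ≤ m) (hF : Fintype.card F = 2 ^ (2 * m + 1))
    (R R' : Sylow 2 (Cfsg.Sz F m)) (hne : R ≠ R') :
    (R : Subgroup (Cfsg.Sz F m)) ⊓ R' = ⊥ := by
  obtain ⟨a, ha⟩ := exists_eq_P hm hF R
  obtain ⟨b, hb⟩ := exists_eq_P hm hF R'
  rw [eq_bot_iff]
  rintro x ⟨hx, hx'⟩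
  rw [mem_bot]
  by_contra hx1
  rw [SetLike.mem_coe] at hx hx'
  have hx : x ∈ P hF a := by rw [← ha]; exact hx
  have hx' : x ∈ P hF b := by rw [← hb]; exact hx'
  have h1 := (geo hm hF).le b x hx'
  have h2 := (geo hm hF).free a b x hx h1 hx1
  apply hne
  apply Sylow.ext
  rw [ha, hb, h2]

/-- elements of odd order commute with no element of a Sylow `2`-subgroup -/
theorem sz_fpf (hm : 1 ≤ m) (hF : Fintype.card F = 2 ^ (2 * m + 1)) {p : ℕ} (hp : p.Prime)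
    (hp2 : p ≠ 2) {x : Cfsg.Sz F m} (hx : orderOf x = p) (R : Sylow 2 (Cfsg.Sz F m))
    {y : Cfsg.Sz F m} (hy : y ∈ (R : Subgroup (Cfsg.Sz F m))) (hxy : x * y = y * x) : y = 1 := by
  by_contra hy1
  obtain ⟨a, ha⟩ := exists_eq_P hm hF R
  have hy' : y ∈ P hF a := by rw [← ha]; exact hy
  have h1 := (geo hm hF).cent a y hy' hy1 x hxy
  obtain ⟨k, hk⟩ := (geo hm hF).two a ⟨x, h1⟩
  have h2 : x ^ 2 ^ k = 1 := congrArg Subtype.val hk
  have h3 := orderOf_dvd_of_pow_eq_one h2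
  rw [hx] at h3
  exact hp2 ((Nat.prime_dvd_prime_iff_eq hp Nat.prime_two).1 (hp.dvd_of_dvd_pow h3))

/-- the number of fixed points on the ovoid of an element of prime order dividing `q - 1` -/
theorem card_fix_ovoid (hm : 1 ≤ m) (hF : Fintype.card F = 2 ^ (2 * m + 1)) {l : ℕ} (hl : l.Prime)
    (hl1 : l ∣ 2 ^ (2 * m + 1) - 1) {y : Cfsg.Sz F m} (hy : orderOf y = l) :
    Nat.card (fixedBy (Cfsg.suzukiOvoid F m) y) = 2 := by
  classical
  have hfin := finite_ovoid F m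
  have hlf : Fact l.Prime := ⟨hl⟩
  obtain ⟨q, hq⟩ : ∃ q, q = 2 ^ (2 * m + 1) := ⟨_, rfl⟩
  rw [← hq] at hl1
  have hq8 : 8 ≤ q := by
    rw [hq]
    calc 8 = 2 ^ 3 := by norm_num
      _ ≤ 2 ^ (2 * m + 1) := Nat.pow_le_pow_right (by norm_num) (by omega)
  have hcard : Nat.card (Cfsg.suzukiOvoid F m) = q ^ 2 + 1 := by
    rw [Cfsg.Agent.S0326.result m, hF, hq]
  have hP : IsPGroup l (zpowers y) := IsPGroup.of_card (n := 1) (by rw [Nat.card_zpowers, hy, pow_one])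
  have h1 := hP.card_modEq_card_fixedPoints (α := Cfsg.suzukiOvoid F m)
  have h2 : (fixedPoints (zpowers y) (Cfsg.suzukiOvoid F m)) = fixedBy (Cfsg.suzukiOvoid F m) y := by
    ext ω
    constructor
    · intro h
      exact h ⟨y, mem_zpowers y⟩
    · intro h
      rintro ⟨_, k, rfl⟩
      have h3 : y ∈ stabilizer (Cfsg.Sz F m) ω := h
      exact (stabilizer (Cfsg.Sz F m) ω).zpow_mem h3 k
  rw [h2, hcard] at h1
  -- at most two fixed points
  have hle : Nat.card (fixedBy (Cfsg.suzukiOvoid F m) y) ≤ 2 := by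
    by_contra hcon
    push Not at hcon
    rw [Nat.card_coe_set_eq, Set.two_lt_ncard_iff (Set.toFinite _)] at hcon
    obtain ⟨a, b, c, ha, hb, hc, hab, hac, hbc⟩ := hcon
    have h3 := (geo hm hF).three y a b c hab hbc hac ha hb hc
    rw [h3, orderOf_one] at hy
    exact hl.one_lt.ne hy
  have hl3 : 3 ≤ l := by
    have h3 := hl.two_le
    have h4 : l ≠ 2 := by
      rintro rfl
      have h5 : 2 ∣ q := hq ▸ dvd_pow_self 2 (by omega)
      omega
    omega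
  have hmod : q ^ 2 + 1 ≡ 2 [MOD l] := by
    have h3 : q ≡ 1 [MOD l] := ((Nat.modEq_iff_dvd' (by omega)).2 hl1).symm
    have h4 : q ^ 2 + 1 ≡ 1 ^ 2 + 1 [MOD l] := (h3.pow 2).add_right 1
    simpa using h4
  have h5 : Nat.card (fixedBy (Cfsg.suzukiOvoid F m) y) ≡ 2 [MOD l] := h1.symm.trans hmod
  exact Nat.ModEq.eq_of_lt_of_lt h5 (by omega) (by omega)

/-- The rank one data. -/
theorem sz_rank (hm : 1 ≤ m) (hF : Fintype.card F = 2 ^ (2 * m + 1))
    [IsSimpleGroup (Cfsg.Sz F m)] :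
    (∀ P : Sylow 2 (Cfsg.Sz F m), Nat.card P = (2 ^ (2 * m + 1)) ^ 2) ∧ 1 < (2 ^ (2 * m + 1)) ^ 2 ∧
      Nat.card (Sylow 2 (Cfsg.Sz F m)) = 1 + (2 ^ (2 * m + 1)) ^ 2 ∧
      Nat.card (Cfsg.Sz F m) = (2 ^ (2 * m + 1)) ^ 2 * (((2 ^ (2 * m + 1)) ^ 2 + 1) * (2 ^ (2 * m + 1) - 1)) := by
  have hf2 : Fact (Nat.Prime 2) := ⟨Nat.prime_two⟩
  have hcard := Cfsg.Agent.S0324.result hm hF
  obtain ⟨q, hq⟩ : ∃ q, q = 2 ^ (2 * m + 1) := ⟨_, rfl⟩
  have hQk : (2 ^ (2 * m + 1)) ^ 2 = 2 ^ (2 * (2 * m + 1)) := by rw [← pow_mul, mul_comm]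
  rw [mul_assoc] at hcard
  have hq8 : 8 ≤ q := by
    rw [hq]
    calc 8 = 2 ^ 3 := by norm_num
      _ ≤ 2 ^ (2 * m + 1) := Nat.pow_le_pow_right (by norm_num) (by omega)
  have h2q : 2 ∣ q := hq ▸ dvd_pow_self 2 (by omega)
  obtain ⟨h1, h2, h3⟩ := rank_one_data (sz_ti hm hF) hQk (by omega) hcard (by
    rw [← hq]
    omega) (by
    rw [← hq]
    have : q ≤ q ^ 2 := Nat.le_self_pow (by norm_num) q
    omega)
  exact ⟨h1, h2, h3, hcard⟩

/-- Prime divisors of `q² + 1` and the torus of order `q - 1`. -/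
theorem not_dvd_norm_torus (hm : 1 ≤ m) (hF : Fintype.card F = 2 ^ (2 * m + 1))
    [IsSimpleGroup (Cfsg.Sz F m)]
    {U : Subgroup (Cfsg.Sz F m)} (hU : IsCyclic U) (hUc : Nat.card U = 2 ^ (2 * m + 1) - 1)
    {p : ℕ} (hp : p.Prime) (hp2 : p ≠ 2) (hpq : p ∣ (2 ^ (2 * m + 1)) ^ 2 + 1) :
    ¬ p ∣ Nat.card (normalizer (U : Set (Cfsg.Sz F m))) := by
  classical
  intro hdvd
  have hpf : Fact p.Prime := ⟨hp⟩
  have hf2 : Fact (Nat.Prime 2) := ⟨Nat.prime_two⟩
  have hfin := finite_ovoid F m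
  obtain ⟨hQ, hQ1, hcount, hord⟩ := sz_rank hm hF
  obtain ⟨q, hq⟩ : ∃ q, q = 2 ^ (2 * m + 1) := ⟨_, rfl⟩
  rw [← hq] at hpq hUc
  have hq8 : 8 ≤ q := by
    rw [hq]
    calc 8 = 2 ^ 3 := by norm_num
      _ ≤ 2 ^ (2 * m + 1) := Nat.pow_le_pow_right (by norm_num) (by omega)
  obtain ⟨⟨x, hxN⟩, hx⟩ := exists_prime_orderOf_dvd_card' (G := normalizer (U : Set (Cfsg.Sz F m))) p hdvd
  rw [Subgroup.orderOf_mk] at hx
  -- an element of prime order of `U`
  obtain ⟨l, hl, hlq⟩ := Nat.exists_prime_and_dvd (n := q - 1) (by omega)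
  have hlf : Fact l.Prime := ⟨hl⟩
  obtain ⟨⟨y, hyU⟩, hy⟩ := exists_prime_orderOf_dvd_card' (G := U) l (by rw [hUc]; exact hlq)
  rw [Subgroup.orderOf_mk] at hy
  have hfix := card_fix_ovoid hm hF hl (by rw [← hq]; exact hlq) hy
  have hxy := normalizer_le_of_cyclic hU hyU hxN
  -- `x` permutes the fixed points of `y`
  have hperm : ∀ a : Cfsg.suzukiOvoid F m, y • a = a → y • x • a = x • a := by
    intro a ha
    have h1 : x⁻¹ * y * x ∈ zpowers y := by
      have := (mem_normalizer_iff.1 (inv_mem hxy) y).1 (mem_zpowers y)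
      rwa [inv_inv] at this
    have h2 : (x⁻¹ * y * x) • a = a := by
      have h3 : zpowers y ≤ stabilizer (Cfsg.Sz F m) a := by
        rw [zpowers_le]; exact ha
      exact h3 h1
    have h4 : x • ((x⁻¹ * y * x) • a) = x • a := by rw [h2]
    rwa [smul_smul, show x * (x⁻¹ * y * x) = y * x by group, mul_smul] at h4
  rw [Nat.card_coe_set_eq, Set.ncard_eq_two] at hfix
  obtain ⟨a, b, hab, hfab⟩ := hfix
  have hmem : ∀ c : Cfsg.suzukiOvoid F m, y • c = c ↔ c = a ∨ c = b := by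
    intro c
    have : c ∈ fixedBy (Cfsg.suzukiOvoid F m) y ↔ c ∈ ({a, b} : Set _) := by rw [hfab]
    simpa using this
  have hfixed : ∃ c : Cfsg.suzukiOvoid F m, x • c = c := by
    by_contra hcon
    push Not at hcon
    have h1 : x • a = b := by
      rcases (hmem _).1 (hperm a ((hmem a).2 (Or.inl rfl))) with h | h
      · exact absurd h (hcon a)
      · exact h
    have h2 : x • b = a := by
      rcases (hmem _).1 (hperm b ((hmem b).2 (Or.inr rfl))) with h | h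
      · exact h
      · exact absurd h (hcon b)
    have h3 : ∀ j : ℕ, (x ^ 2) ^ j • a = a := by
      intro j
      induction j with
      | zero => simp
      | succ j ih => rw [pow_succ', mul_smul, ih, pow_two, mul_smul, h1, h2]
    have h4 : p % 2 = 1 := by
      rcases hp.eq_two_or_odd with h7 | h7
      · exact absurd h7 hp2
      · exact h7
    have h5 : x ^ p = 1 := by rw [← hx]; exact pow_orderOf_eq_one x
    have h6 : x ^ p = x * (x ^ 2) ^ (p / 2) := by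
      rw [← pow_mul, ← pow_succ']
      congr 1
      omega
    have h7 : x ^ p • a = b := by rw [h6, mul_smul, h3, h1]
    rw [h5, one_smul] at h7
    exact hab h7
  obtain ⟨c, hc⟩ := hfixed
  obtain ⟨R, -, hR⟩ := exists_sylow hm hF c
  have h1 : p ∣ Nat.card (normalizer ((R : Subgroup (Cfsg.Sz F m)) : Set (Cfsg.Sz F m))) := by
    have h2 : x ∈ normalizer ((R : Subgroup (Cfsg.Sz F m)) : Set (Cfsg.Sz F m)) := hR hc
    have h3 := orderOf_dvd_natCard (⟨x, h2⟩ : normalizer ((R : Subgroup (Cfsg.Sz F m)) : Set (Cfsg.Sz F m)))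
    rwa [Subgroup.orderOf_mk, hx] at h3
  rw [card_norm_sylow hcount hord R, ← hq] at h1
  rcases (hp.dvd_mul).1 h1 with h2 | h2
  · exact hp.one_lt.ne' (Nat.dvd_one.1 ((Nat.dvd_add_right h2).1 hpq))
  · have h3 : q ^ 2 + 1 = (q - 1) * (q + 1) + 2 := by
      obtain ⟨t, ht⟩ : ∃ t, q = t + 1 := ⟨q - 1, by omega⟩
      rw [ht, Nat.add_sub_cancel]
      ring
    rw [h3] at hpq
    have h4 := (Nat.dvd_add_right (h2.mul_right (q + 1))).1 hpq
    exact hp2 ((Nat.prime_dvd_prime_iff_eq hp Nat.prime_two).1 h4)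

/-- The normalisers of the other tori. -/
theorem card_norm_torus (hm : 1 ≤ m) (hF : Fintype.card F = 2 ^ (2 * m + 1)) {k : ℕ}
    (hk : k ∈ ({2 ^ (2 * m + 1) + 2 ^ (m + 1) + 1, 2 ^ (2 * m + 1) - 2 ^ (m + 1) + 1} : Set ℕ))
    {l : ℕ} (hl : l.Prime) (hl2 : l ≠ 2) (hlk : l ∣ k) {y : Cfsg.Sz F m} (hy : orderOf y = l) :
    Nat.card (normalizer ((zpowers y : Subgroup (Cfsg.Sz F m)) : Set (Cfsg.Sz F m))) ≤ 4 * k := by
  classical
  have hlf : Fact l.Prime := ⟨hl⟩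
  obtain ⟨U, -, hUk, hcent, hnorm⟩ := Cfsg.Agent.S0333.result hm hF k hk
  obtain ⟨⟨u, huU⟩, hu⟩ := exists_prime_orderOf_dvd_card' (G := U) l (by rw [hUk]; exact hlk)
  rw [Subgroup.orderOf_mk] at hu
  have hc : ∀ P : Sylow l (Cfsg.Sz F m), IsCyclic P := fun P => Cfsg.Agent.S0331.result hm hF hl2 P
  rw [card_normalizer_eq hc hy hu, ← hnorm]
  apply Subgroup.card_le_of_le
  intro g hg
  have hu1 : u ≠ 1 := by
    rintro rfl
    rw [orderOf_one] at hu
    exact hl.one_lt.ne hu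
  have h1 : g * u * g⁻¹ ∈ zpowers u := (mem_normalizer_iff.1 hg u).1 (mem_zpowers u)
  have h2 : g * u * g⁻¹ ∈ U := (zpowers_le.2 huU) h1
  have h3 : g * u * g⁻¹ ≠ 1 := by
    intro h
    apply hu1
    have : u = g⁻¹ * (g * u * g⁻¹) * g := by group
    rw [this, h]; group
  have e1 := hcent u huU hu1
  have e2 := hcent _ h2 h3
  rw [mem_normalizer_iff]
  intro v
  have hv1 : ∀ w, w ∈ U ↔ w * u = u * w := by
    intro w
    rw [← e1, mem_centralizer_iff]
    constructor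
    · intro h; exact (h u rfl).symm
    · rintro h _ rfl; exact h.symm
  have hv2 : ∀ w, w ∈ U ↔ w * (g * u * g⁻¹) = (g * u * g⁻¹) * w := by
    intro w
    conv_lhs => rw [← e2]
    rw [mem_centralizer_iff]
    constructor
    · intro h; exact (h _ rfl).symm
    · rintro h _ rfl; exact h.symm
  rw [hv1, hv2]
  constructor
  · intro h
    calc g * v * g⁻¹ * (g * u * g⁻¹) = g * (v * u) * g⁻¹ := by group
      _ = g * (u * v) * g⁻¹ := by rw [h]
      _ = g * u * g⁻¹ * (g * v * g⁻¹) := by group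
  · intro h
    calc v * u = g⁻¹ * (g * v * g⁻¹ * (g * u * g⁻¹)) * g := by group
      _ = g⁻¹ * (g * u * g⁻¹ * (g * v * g⁻¹)) * g := by rw [h]
      _ = u * v := by group

theorem row_sz_model (hm : 1 ≤ m) (hF : Fintype.card F = 2 ^ (2 * m + 1))
    [IsSimpleGroup (Cfsg.Sz F m)] {p : ℕ} [hp : Fact p.Prime] (hp2 : p ≠ 2)
    (hpT : p ∣ Nat.card (Cfsg.Sz F m)) : FprRow (p + 1) 1 p (Cfsg.Sz F m) := by
  classical
  have hf2 : Fact (Nat.Prime 2) := ⟨Nat.prime_two⟩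
  obtain ⟨hQ, hQ1, hcount, hord⟩ := sz_rank hm hF
  obtain ⟨q, hq⟩ : ∃ q, q = 2 ^ (2 * m + 1) := ⟨_, rfl⟩
  obtain ⟨s, hs⟩ : ∃ s, s = 2 ^ (m + 1) := ⟨_, rfl⟩
  have hq8 : 8 ≤ q := by
    rw [hq]
    calc 8 = 2 ^ 3 := by norm_num
      _ ≤ 2 ^ (2 * m + 1) := Nat.pow_le_pow_right (by norm_num) (by omega)
  have hs2 : 2 * s ≤ q := by
    rw [hs, hq, ← pow_succ']
    exact Nat.pow_le_pow_right (by norm_num) (by omega)
  have hss : s * s = 2 * q := by
    rw [hs, hq, ← pow_add, ← pow_succ']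
    congr 1
    omega
  have h2q : 2 ∣ q := hq ▸ dvd_pow_self 2 (by omega)
  have h2s : 2 ∣ s := hs ▸ dvd_pow_self 2 (by omega)
  have hc : ∀ P : Sylow p (Cfsg.Sz F m), IsCyclic P := fun P => Cfsg.Agent.S0331.result hm hF hp2 P
  have hQk : (2 ^ (2 * m + 1)) ^ 2 = 2 ^ (2 * (2 * m + 1)) := by rw [← pow_mul, mul_comm]
  have hqq : q ≤ q ^ 2 := Nat.le_self_pow (by norm_num) q
  have hpq : ¬ p ∣ q := by
    intro h1
    rw [hq] at h1
    exact hp2 ((Nat.prime_dvd_prime_iff_eq hp.out Nat.prime_two).1 (hp.out.dvd_of_dvd_pow h1))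
  by_cases hp1 : p ∣ q - 1
  · -- the split torus
    obtain ⟨P⟩ : Nonempty (Sylow 2 (Cfsg.Sz F m)) := inferInstance
    have h1 : p ∣ Nat.card (normalizer ((P : Subgroup (Cfsg.Sz F m)) : Set (Cfsg.Sz F m))) := by
      rw [card_norm_sylow hcount hord P, ← hq]
      exact hp1.mul_left _
    obtain ⟨⟨x, hxN⟩, hx⟩ := exists_prime_orderOf_dvd_card'
      (G := normalizer ((P : Subgroup (Cfsg.Sz F m)) : Set (Cfsg.Sz F m))) p h1
    rw [Subgroup.orderOf_mk] at hx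
    refine row_ti_torus' hp2 (sz_ti hm hF) hQk hQ hQ1 hcount ?_ (x := x) ⟨1, by rw [hx, pow_one]⟩
      (P₁ := P) hxN ?_
    · rw [← hq]
      intro h2
      have h3 := Nat.le_of_dvd (by omega) hp1
      have h4 : 8 * q ≤ q ^ 2 := by rw [pow_two]; exact Nat.mul_le_mul_right _ hq8
      omega
    · intro R _ y hy hxy
      exact sz_fpf hm hF hp.out hp2 hx R hy hxy
  -- the other tori
  have hpq1 : p ∣ q ^ 2 + 1 := by
    rw [hord, ← hq] at hpT
    rcases (hp.out.dvd_mul).1 hpT with h1 | h1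
    · exact absurd (hp.out.dvd_of_dvd_pow h1) hpq
    rcases (hp.out.dvd_mul).1 h1 with h2 | h2
    · exact h2
    · exact absurd h2 hp1
  have hfac : q ^ 2 + 1 = (q + s + 1) * (q - s + 1) := by
    have h1 : s ≤ q := by omega
    zify [h1]
    have h2 : (s : ℤ) * s = 2 * q := by exact_mod_cast hss
    linear_combination h2
  obtain ⟨k, hk, hpk, hkle⟩ : ∃ k, k ∈ ({2 ^ (2 * m + 1) + 2 ^ (m + 1) + 1,
      2 ^ (2 * m + 1) - 2 ^ (m + 1) + 1} : Set ℕ) ∧ p ∣ k ∧ k ≤ q + s + 1 := by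
    rw [hfac] at hpq1
    rcases (hp.out.dvd_mul).1 hpq1 with h1 | h1
    · exact ⟨q + s + 1, by rw [hq, hs]; simp, h1, le_rfl⟩
    · exact ⟨q - s + 1, by rw [hq, hs]; simp, h1, by omega⟩
  obtain ⟨x, hx⟩ := exists_prime_orderOf_dvd_card' (G := Cfsg.Sz F m) p hpT
  refine row_cyclic hc hx (N := 4 * (q + s + 1))
    ((card_norm_torus hm hF hk hp.out hp2 hpk hx).trans (Nat.mul_le_mul_left _ hkle)) ?_
  intro H hH hpH
  -- a bound for the order suffices
  have hfin : ∀ B : ℕ, Nat.card H ≤ B → 8 * (q + s + 1) * B ≤ q ^ 2 * ((q ^ 2 + 1) * (q - 1)) →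
      (p + 1) * (4 * (q + s + 1)) ≤ p * H.index := by
    intro B hB hle
    have h1 := H.card_mul_index
    rw [hord, ← hq] at h1
    have h0 : 0 < Nat.card H := Nat.card_pos
    apply Nat.le_of_mul_le_mul_right _ h0
    have hp1' : p + 1 ≤ 2 * p := by have := hp.out.one_lt; omega
    calc (p + 1) * (4 * (q + s + 1)) * Nat.card H ≤ (2 * p) * (4 * (q + s + 1)) * B :=
          Nat.mul_le_mul (Nat.mul_le_mul_right _ hp1') hB
      _ = p * (8 * (q + s + 1) * B) := by ring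
      _ ≤ p * (q ^ 2 * ((q ^ 2 + 1) * (q - 1))) := Nat.mul_le_mul_left _ hle
      _ = p * H.index * Nat.card H := by rw [← h1]; ring
  have hnum : ∀ c : ℕ, c ≤ 455 → c * q ≤ q * ((q ^ 2 + 1) * (q - 1)) := by
    intro c hc'
    have h1 : 65 ≤ q ^ 2 + 1 := by nlinarith
    have h2 : 65 * 7 ≤ (q ^ 2 + 1) * (q - 1) := Nat.mul_le_mul h1 (by omega)
    rw [mul_comm c q]
    exact Nat.mul_le_mul_left _ (by omega)
  rcases Cfsg.Agent.S2251.result hm hF H hH with ⟨R, hR⟩ | ⟨U, hU, hUc, hUN⟩ | ⟨K, iK, iK', k', hk', hkm, hKc, hdvd, R, ⟨e⟩, hR⟩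
  · exfalso
    have h1 : p ∣ Nat.card (normalizer ((R : Subgroup (Cfsg.Sz F m)) : Set (Cfsg.Sz F m))) :=
      hpH.trans (Subgroup.card_dvd_of_le hR)
    rw [card_norm_sylow hcount hord R, ← hq] at h1
    rcases (hp.out.dvd_mul).1 h1 with h2 | h2
    · exact hpq (hp.out.dvd_of_dvd_pow h2)
    · exact hp1 h2
  · rcases hUc with hUc | hUc
    · exfalso
      exact not_dvd_norm_torus hm hF hU hUc hp.out hp2 (by rw [← hq]; exact hpq1)
        (hpH.trans (Subgroup.card_dvd_of_le hUN))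
    · have hUle : Nat.card U ≤ q + s + 1 := by
        rcases hUc with h1 | h1
        · rw [h1, hq, hs]
        · have h1' : Nat.card U = 2 ^ (2 * m + 1) - 2 ^ (m + 1) + 1 := h1
          rw [h1', ← hq, ← hs]
          omega
      have hUodd : ¬ 2 ∣ Nat.card U ∧ 1 < Nat.card U := by
        rcases hUc with h1 | h1
        · rw [h1, ← hq, ← hs]
          omega
        · have h1' : Nat.card U = 2 ^ (2 * m + 1) - 2 ^ (m + 1) + 1 := h1
          rw [h1', ← hq, ← hs]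
          omega
      obtain ⟨l, hl, hlU⟩ := Nat.exists_prime_and_dvd (n := Nat.card U) (by omega)
      have hl2 : l ≠ 2 := by
        rintro rfl
        exact hUodd.1 hlU
      have hlf : Fact l.Prime := ⟨hl⟩
      obtain ⟨⟨y, hyU⟩, hy⟩ := exists_prime_orderOf_dvd_card' (G := U) l hlU
      rw [Subgroup.orderOf_mk] at hy
      have h1 := card_norm_torus hm hF hUc hl hl2 hlU hy
      have h2 : Nat.card H ≤ 4 * (q + s + 1) := by
        calc Nat.card H ≤ Nat.card (normalizer (U : Set (Cfsg.Sz F m))) := Subgroup.card_le_of_le hUN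
          _ ≤ _ := Subgroup.card_le_of_le (normalizer_le_of_cyclic hU hyU)
          _ ≤ 4 * Nat.card U := h1
          _ ≤ 4 * (q + s + 1) := Nat.mul_le_mul_left _ hUle
      refine hfin _ h2 ?_
      have h3 : q + s + 1 ≤ 2 * q := by omega
      calc 8 * (q + s + 1) * (4 * (q + s + 1)) ≤ 8 * (2 * q) * (4 * (2 * q)) :=
            Nat.mul_le_mul (Nat.mul_le_mul_left _ h3) (Nat.mul_le_mul_left _ h3)
        _ = q * (128 * q) := by ring
        _ ≤ q * (q * ((q ^ 2 + 1) * (q - 1))) := Nat.mul_le_mul_left _ (hnum 128 (by norm_num))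
        _ = q ^ 2 * ((q ^ 2 + 1) * (q - 1)) := by ring
  · have h1 : Nat.card H ≤ Nat.card (Cfsg.Sz K k') := by
      rw [← Nat.card_congr e.toEquiv]
      exact Subgroup.card_le_of_le hR
    rw [Cfsg.Agent.S0324.result hk' hKc] at h1
    obtain ⟨t, ht⟩ : ∃ t, t = 2 ^ (2 * k' + 1) := ⟨_, rfl⟩
    rw [← ht] at h1
    have ht3 : t ^ 3 ≤ q := by
      rw [ht, hq, ← pow_mul]
      apply Nat.pow_le_pow_right (by norm_num)
      obtain ⟨c, hc'⟩ := hdvd
      have hc1 : c ≠ 0 := by rintro rfl; omega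
      have hc2 : c ≠ 1 := by rintro rfl; omega
      have hc3 : c ≠ 2 := by rintro rfl; omega
      rw [hc']
      exact Nat.mul_le_mul_left _ (by omega)
    have ht1 : 1 ≤ t := by rw [ht]; exact Nat.one_le_two_pow
    have h2 : Nat.card H ≤ 2 * q ^ 2 := by
      refine h1.trans ?_
      have h3 : t ^ 2 + 1 ≤ 2 * t ^ 2 := by nlinarith
      have h4 : t - 1 ≤ t := Nat.sub_le _ _
      calc t ^ 2 * (t ^ 2 + 1) * (t - 1) ≤ t ^ 2 * (2 * t ^ 2) * t :=
            Nat.mul_le_mul (Nat.mul_le_mul_left _ h3) h4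
        _ = 2 * (t ^ 5 * 1) := by ring
        _ ≤ 2 * (t ^ 5 * t) := Nat.mul_le_mul_left _ (Nat.mul_le_mul_left _ ht1)
        _ = 2 * (t ^ 3 * t ^ 3) := by ring
        _ ≤ 2 * (q * q) := Nat.mul_le_mul_left _ (Nat.mul_le_mul ht3 ht3)
        _ = 2 * q ^ 2 := by ring
    refine hfin _ h2 ?_
    have h3 : q + s + 1 ≤ 2 * q := by omega
    calc 8 * (q + s + 1) * (2 * q ^ 2) ≤ 8 * (2 * q) * (2 * q ^ 2) :=
          Nat.mul_le_mul_right _ (Nat.mul_le_mul_left _ h3)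
      _ = q ^ 2 * (32 * q) := by ring
      _ ≤ q ^ 2 * ((q ^ 2 + 1) * (q - 1)) := by
          apply Nat.mul_le_mul_left
          have h5 : 8 * q ≤ q ^ 2 + 1 := by nlinarith
          calc 32 * q ≤ (q ^ 2 + 1) * 7 := by omega
            _ ≤ (q ^ 2 + 1) * (q - 1) := Nat.mul_le_mul_left _ (by omega)

end Sz

/-- **The Suzuki groups**, odd primes. -/
theorem row_sz {T : Type*} [Group T] [Finite T] [IsSimpleGroup T] (h : Cfsg.Lie.IsoSuzuki T)
    {p : ℕ} [hp : Fact p.Prime] (hp2 : p ≠ 2) (hpT : p ∣ Nat.card T) :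
    FprRow (p + 1) 1 p T := by
  obtain ⟨F, iF, iF', m, hm, hF, ⟨e⟩⟩ := h
  obtain ⟨f⟩ := OddCyclic.ClaimC.SzIso.iso (F := F) hm hF
  let e' : T ≃* ↥(Cfsg.Sz F m) := e.trans f.symm
  have hf : Finite ↥(Cfsg.Sz F m) := Finite.of_equiv T e'.toEquiv
  have hs : IsSimpleGroup ↥(Cfsg.Sz F m) := by
    have : Nontrivial ↥(Cfsg.Sz F m) := e'.symm.toEquiv.nontrivial
    exact IsSimpleGroup.isSimpleGroup_of_surjective e'.toMonoidHom e'.surjective
  refine FprRow.of_mulEquiv hp.out e'.symm ?_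
  rw [Nat.card_congr e'.toEquiv] at hpT
  exact row_sz_model hm hF hp2 hpT

end Cfsg.Agent.H452.FprSz
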