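import Cfsg.Agent.H452.FprPsl2
import Cfsg.Agent.H398.FPR.Tools

/-!
# Fixed point ratios: elements of order 3 in `SL₂(q)`, `q` even, `3 ∣ q + 1`: ratio at most `1/7`
-/

set_option autoImplicit false
open Subgroup MulAction Matrix

namespace Cfsg.Agent.H452.FprJ1

open Cfsg.Agent.H409 Cfsg.Agent.H452.FprCyc Cfsg.Agent.H452.FprRank Cfsg.Agent.H452.FprPsl2
open Cfsg.Agent.H398.FPR (UGood)

/-- In a maximal dihedral subgroup: normalisers of subgroups of odd prime order. -/
theorem normalizer_of_dihedral {S : Type*} [Group S] [Finite S] [IsSimpleGroup S] {p : ℕ}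
    [Fact p.Prime] (hp2 : p ≠ 2) {k : ℕ} {M : Subgroup S}
    (hM : IsCoatom M) (e : M ≃* DihedralGroup k) (hcard : Nat.card S ≠ p) {z : S} (hz : z ∈ M)
    (hzo : orderOf z = p) : normalizer ((zpowers z : Subgroup S) : Set S) = M := by
  have hp : p.Prime := Fact.out
  have hy : orderOf (e ⟨z, hz⟩) = p := by
    rw [MulEquiv.orderOf_eq, Subgroup.orderOf_mk, hzo]
  have h1 : M ≤ normalizer ((zpowers z : Subgroup S) : Set S) := by
    intro g hg
    have h2 : g * z * g⁻¹ ∈ zpowers z := by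
      have h3 := dihedral_zpowers_normal hp hp2 hy (e ⟨g, hg⟩)
      obtain ⟨j, hj⟩ := h3
      refine ⟨j, ?_⟩
      have h4 : (⟨z, hz⟩ : M) ^ j = ⟨g, hg⟩ * ⟨z, hz⟩ * ⟨g, hg⟩⁻¹ := by
        apply e.injective
        rw [map_zpow, map_mul, map_mul, map_inv]
        exact hj
      have h5 := congrArg (fun a : M => (a : S)) h4
      simpa using h5
    rw [mem_normalizer_iff_map_conj_eq]
    have h8 : (zpowers z).map (MulAut.conj g).toMonoidHom ≤ zpowers z := by
      rw [MonoidHom.map_zpowers, zpowers_le]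
      exact h2
    apply Subgroup.eq_of_le_of_card_ge h8
    exact (Nat.card_congr ((zpowers z).equivMapOfInjective _ (MulAut.conj g).injective).toEquiv).le
  rcases h1.eq_or_lt with h2 | h2
  · exact h2.symm
  · exfalso
    have h3 := hM.2 _ h2
    have h4 : (zpowers z).Normal := normalizer_eq_top_iff.1 h3
    have h5 : Nat.card (zpowers z) = p := by rw [Nat.card_zpowers, hzo]
    rcases h4.eq_bot_or_eq_top with h6 | h6
    · rw [h6, Subgroup.card_bot] at h5
      exact hp.one_lt.ne h5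
    · rw [h6, Subgroup.card_top] at h5
      exact hcard h5

/-- An element of odd prime order fixes at most one coset of a maximal dihedral subgroup. -/
theorem fix_le_one {S : Type*} [Group S] [Finite S] [IsSimpleGroup S] {p : ℕ}
    [Fact p.Prime] (hp2 : p ≠ 2) {k : ℕ} {M : Subgroup S}
    (hM : IsCoatom M) (e : M ≃* DihedralGroup k) (hcard : Nat.card S ≠ p) {x : S}
    (hx : orderOf x = p) : Nat.card (fixedBy (S ⧸ M) x) ≤ 1 := by
  have hp : p.Prime := Fact.out
  rw [Finite.card_le_one_iff_subsingleton]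
  have hmem : ∀ g : S, x • (g : S ⧸ M) = (g : S ⧸ M) → g⁻¹ * x * g ∈ M := by
    intro g hg
    have h2 : ((x * g : S) : S ⧸ M) = (g : S ⧸ M) := hg
    rw [eq_comm, QuotientGroup.eq] at h2
    rwa [mul_assoc]
  have hord : ∀ g : S, orderOf (g⁻¹ * x * g) = p := by
    intro g
    rw [← hx]
    have h5 : g⁻¹ * x * g = MulAut.conj g⁻¹ x := by simp [MulAut.conj_apply]
    rw [h5]
    exact orderOf_injective (MulAut.conj g⁻¹).toMonoidHom (MulAut.conj g⁻¹).injective x
  have hnorm : ∀ g : S, x • (g : S ⧸ M) = (g : S ⧸ M) →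
      normalizer ((zpowers x : Subgroup S) : Set S) = M.map (MulAut.conj g).toMonoidHom := by
    intro g hg
    have h1 := normalizer_of_dihedral hp2 hM e hcard (hmem g hg) (hord g)
    have h2 := map_equiv_normalizer_eq (zpowers (g⁻¹ * x * g)) (MulAut.conj g)
    rw [MonoidHom.map_zpowers] at h2
    have h3 : (MulAut.conj g).toMonoidHom (g⁻¹ * x * g) = x := by
      change g * (g⁻¹ * x * g) * g⁻¹ = x
      group
    rw [h3] at h2
    rw [← h2]
    exact congrArg (Subgroup.map (MulAut.conj g).toMonoidHom) h1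
  have hNM : normalizer (M : Set S) = M := by
    have h1 : M ≤ normalizer (M : Set S) := le_normalizer
    rcases h1.eq_or_lt with h2 | h2
    · exact h2.symm
    · exfalso
      have h3 := hM.2 _ h2
      have h4 : M.Normal := normalizer_eq_top_iff.1 h3
      rcases h4.eq_bot_or_eq_top with h6 | h6
      · -- `M = ⊥` is maximal: then `S` is cyclic of prime order
        have h7 : (zpowers x : Subgroup S) = ⊤ := by
          apply hM.2
          rw [h6, bot_lt_iff_ne_bot]
          intro h8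
          have h9 := congrArg (fun K : Subgroup S => Nat.card K) h8
          simp only [Nat.card_zpowers, hx, Subgroup.card_bot] at h9
          exact hp.one_lt.ne' h9
        apply hcard
        rw [← hx, ← Nat.card_zpowers, h7, Subgroup.card_top]
      · exact hM.1 h6
  constructor
  rintro ⟨w₁, hw₁⟩ ⟨w₂, hw₂⟩
  obtain ⟨g₁, rfl⟩ := QuotientGroup.mk_surjective w₁
  obtain ⟨g₂, rfl⟩ := QuotientGroup.mk_surjective w₂
  have h1 := hnorm g₁ hw₁
  have h2 := hnorm g₂ hw₂
  apply Subtype.ext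
  change (g₁ : S ⧸ M) = (g₂ : S ⧸ M)
  rw [QuotientGroup.eq, ← hNM, mem_normalizer_iff_map_conj_eq]
  have h3 : M.map (MulAut.conj g₂).toMonoidHom = M.map (MulAut.conj g₁).toMonoidHom := by
    rw [← h1, ← h2]
  have h4 := congrArg (Subgroup.map (MulAut.conj g₁⁻¹).toMonoidHom) h3
  rw [Subgroup.map_map, Subgroup.map_map] at h4
  have h5 : (MulAut.conj g₁⁻¹).toMonoidHom.comp (MulAut.conj g₂).toMonoidHom =
      (MulAut.conj (g₁⁻¹ * g₂)).toMonoidHom := by
    ext1 z
    change g₁⁻¹ * (g₂ * z * g₂⁻¹) * g₁⁻¹⁻¹ = (g₁⁻¹ * g₂) * z * (g₁⁻¹ * g₂)⁻¹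
    group
  have h6 : (MulAut.conj g₁⁻¹).toMonoidHom.comp (MulAut.conj g₁).toMonoidHom = MonoidHom.id S := by
    ext1 z
    change g₁⁻¹ * (g₁ * z * g₁⁻¹) * g₁⁻¹⁻¹ = z
    group
  rw [h5, h6, Subgroup.map_id] at h4
  exact h4

theorem UGood.of_coatom {a b : ℕ} {S : Type*} [Group S] [Finite S] {x : S}
    (h : ∀ H : Subgroup S, IsCoatom H →
      b * Nat.card (fixedBy (S ⧸ H) x) ≤ a * Nat.card (S ⧸ H)) : UGood a b x := by
  intro H hH
  obtain ⟨K, hK, hHK⟩ := (eq_top_or_exists_le_coatom H).resolve_left hH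
  exact fix_mono hHK x (h K hK)

theorem UGood.of_mulEquiv {a b : ℕ} {G S : Type*} [Group G] [Finite G] [Group S] [Finite S]
    (e : G ≃* S) {x : G} (h : UGood a b (e x)) : UGood a b x := by
  intro H hH
  have hH' : H.map e.toMonoidHom ≠ ⊤ := by
    intro h1
    apply hH
    rw [eq_top_iff]
    intro g _
    have h2 : e g ∈ H.map e.toMonoidHom := by rw [h1]; trivial
    obtain ⟨g', hg', hgg⟩ := h2
    have h3 : g' = g := e.injective hgg
    rwa [← h3]
  let φ : (G ⧸ H) → (S ⧸ H.map e.toMonoidHom) := Quotient.map' e (fun g g' hg => by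
    rw [QuotientGroup.leftRel_apply] at hg ⊢
    exact ⟨_, hg, by rw [map_mul, map_inv]; rfl⟩)
  refine fix_le_of_map (Ω := G ⧸ H) e.toMonoidHom e.surjective φ ?_ x (h _ hH')
  intro g ω
  obtain ⟨w, rfl⟩ := QuotientGroup.mk_surjective ω
  change ((e (g * w) : S) : S ⧸ H.map e.toMonoidHom) = ((e g * e w : S) : S ⧸ H.map e.toMonoidHom)
  rw [map_mul]

/-- `PSL₂(q)`, `q ≥ 8` even, `3 ∣ q + 1`. -/
theorem psl_ugood {F : Type*} [Field F] [Fintype F] (heven : Even (Fintype.card F))
    (h8 : 8 ≤ Fintype.card F) (h3 : 3 ∣ Fintype.card F + 1)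
    {x : Matrix.ProjectiveSpecialLinearGroup (Fin 2) F} (hx : orderOf x = 3) : UGood 1 7 x := by
  have hp3 : Fact (Nat.Prime 3) := ⟨Nat.prime_three⟩
  have hfin := pfin (F := F)
  have hs : IsSimpleGroup (Matrix.ProjectiveSpecialLinearGroup (Fin 2) F) :=
    Matrix.ProjectiveSpecialLinearGroup.rank_two_simple (by rw [Nat.card_eq_fintype_card]; omega)
  have hnq : ¬ 3 ∣ Fintype.card F := by omega
  have hcyc := fun P => psl_cyclic (F := F) (p := 3) (by norm_num) hnq P
  have hcard := Cfsg.Agent.H394.SqPsl2.card_psl (F := F)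
  have hfac := Cfsg.Agent.H394.SqPsl2.sub_mul_self (q := Fintype.card F) (by omega)
  obtain ⟨M, hM, ⟨e⟩⟩ := Cfsg.Agent.S0811.result (F := F) rfl (by
    simp only [Finset.mem_insert, Finset.mem_singleton, not_or]
    obtain ⟨a, ha⟩ := heven
    omega)
  have h5893 := Cfsg.Agent.S5893.result (F := F)
  obtain ⟨q, hq⟩ : ∃ q, Fintype.card F = q := ⟨_, rfl⟩
  rw [hq] at heven h8 h3 hnq hcard hfac e h5893
  obtain ⟨c, hc1, hc2⟩ : ∃ c, q - 1 = c ∧ q = c + 1 := ⟨q - 1, rfl, by omega⟩
  have hg : Nat.gcd 2 (q - 1) = 1 := by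
    rw [← Nat.coprime_iff_gcd_eq_one, Nat.coprime_two_left]
    exact Nat.Even.sub_odd (by omega) heven odd_one
  rw [hg, one_mul, hfac] at hcard
  rw [hg, Nat.div_one] at e
  have hcardne : Nat.card (Matrix.ProjectiveSpecialLinearGroup (Fin 2) F) ≠ 3 := by
    intro h
    rw [h] at hcard
    have h3 : 1 * ((q + 1) * 2) ≤ q * ((q + 1) * (q - 1)) :=
      Nat.mul_le_mul (by omega) (Nat.mul_le_mul_left _ (by omega))
    omega
  obtain ⟨x', hx', hN'⟩ := exists_of_dihedral (p := 3) (by norm_num) (by omega) h3 hM e hcardne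
  have hN : Nat.card (normalizer ((zpowers x : Subgroup (Matrix.ProjectiveSpecialLinearGroup (Fin 2) F)) :
      Set (Matrix.ProjectiveSpecialLinearGroup (Fin 2) F))) = 2 * (q + 1) := by
    rw [← hN']
    exact card_normalizer_eq hcyc hx hx'
  apply UGood.of_coatom
  intro H hH
  rw [one_mul]
  have hmul := H.card_mul_index
  rw [hcard] at hmul
  have hind : Nat.card (Matrix.ProjectiveSpecialLinearGroup (Fin 2) F ⧸ H) = H.index := rfl
  rw [hind]
  have h3p : Nat.Prime 3 := Nat.prime_three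
  rcases h5893 heven (by omega) H hH with h | ⟨⟨f⟩⟩ | ⟨⟨f⟩⟩ | ⟨K, _, _, r, hr, hK2, hKr, ⟨f⟩⟩
  · rw [fixedBy_empty h3p hx]
    · simp
    · rw [h, h3p.dvd_mul]
      omega
  · rw [fixedBy_empty h3p hx]
    · simp
    · rw [Nat.card_congr f.toEquiv, DihedralGroup.nat_card, h3p.dvd_mul]
      omega
  · have h1 := fix_le_one (p := 3) (by norm_num) hH f hcardne hx
    rw [Nat.card_congr f.toEquiv, DihedralGroup.nat_card] at hmul
    have h2 : 2 * H.index = q * (q - 1) := by
      apply Nat.eq_of_mul_eq_mul_left (show 0 < q + 1 by omega)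
      linarith
    have h4 : 8 * 7 ≤ q * (q - 1) := Nat.mul_le_mul h8 (by omega)
    omega
  · have h1 := Cfsg.Agent.H394.SqPsl2.card_psl (F := K)
    obtain ⟨q0, hq0⟩ : ∃ q0, Fintype.card K = q0 := ⟨_, rfl⟩
    have hq01 : 1 < q0 := hq0 ▸ Fintype.one_lt_card
    rw [hq0] at h1 hK2 hKr
    have hg0 : Nat.gcd 2 (q0 - 1) = 1 := by
      rw [← Nat.coprime_iff_gcd_eq_one, Nat.coprime_two_left]
      refine Nat.Even.sub_odd (by omega) ?_ odd_one
      rw [hKr] at heven
      exact (Nat.even_pow.1 heven).1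
    rw [hg0, one_mul, ← Nat.card_congr f.toEquiv] at h1
    by_cases hr2 : r = 2
    · subst hr2
      rw [fixedBy_empty h3p hx]
      · simp
      · rw [h1, ← hKr, h3p.dvd_mul, not_or]
        refine ⟨?_, by omega⟩
        intro h2
        exact hnq (hKr ▸ h2.trans (dvd_pow_self q0 (by norm_num)))
    · have hr3 : 3 ≤ r := by
        have := hr.two_le
        omega
      have h2 : Nat.card H ≤ q := by
        rw [h1, hKr]
        calc q0 * (q0 ^ 2 - 1) ≤ q0 * q0 ^ 2 := Nat.mul_le_mul_left _ (Nat.sub_le _ _)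
          _ = q0 ^ 3 := by ring
          _ ≤ q0 ^ r := Nat.pow_le_pow_right (by omega) hr3
      have h4 : (q + 1) * (q - 1) ≤ H.index := by
        apply Nat.le_of_mul_le_mul_left _ (show 0 < q by omega)
        rw [← hmul]
        exact Nat.mul_le_mul_right _ h2
      have h5 := cyclic_fix hcyc hx H
      rw [hN] at h5
      have h6 : (q + 1) * 7 ≤ (q + 1) * (q - 1) := Nat.mul_le_mul_left _ (by omega)
      omega

/-- **(J1)** `SL₂(q)`, `q ≥ 8` even, `3 ∣ q + 1`: the elements of order `3` have fixed point ratio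
at most `1/7`. -/
theorem sl_ugood {F : Type*} [Field F] [Fintype F] [CharP F 2]
    (h8 : 8 ≤ Fintype.card F) (h3 : 3 ∣ Fintype.card F + 1)
    {x : Matrix.SpecialLinearGroup (Fin 2) F} (hx : orderOf x = 3) : UGood 1 7 x := by
  have heven : Even (Fintype.card F) := by
    obtain ⟨n, -, hn⟩ := FiniteField.card F 2
    rw [hn]
    exact (Nat.even_pow.2 ⟨even_two, n.2.ne'⟩)
  have hfin := pfin (F := F)
  -- the center is trivial
  let f : Matrix.SpecialLinearGroup (Fin 2) F →* Matrix.ProjectiveSpecialLinearGroup (Fin 2) F :=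
    QuotientGroup.mk' (center (SpecialLinearGroup (Fin 2) F))
  have hinj : Function.Injective f := by
    rw [injective_iff_map_eq_one]
    intro g hg
    have h1 : g ∈ center (SpecialLinearGroup (Fin 2) F) := (QuotientGroup.eq_one_iff g).1 hg
    rw [Matrix.SpecialLinearGroup.mem_center_iff] at h1
    obtain ⟨r, hr, hrg⟩ := h1
    rw [Fintype.card_fin] at hr
    have h2 : r = 1 := by
      have h4 : (2 : F) = 0 := by
        have := CharP.cast_eq_zero F 2
        exact_mod_cast this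
      have h3 : (r - 1) ^ 2 = 0 := by linear_combination hr + (1 - r) * h4
      exact sub_eq_zero.1 (pow_eq_zero_iff (by norm_num) |>.1 h3)
    apply Subtype.ext
    rw [← hrg, h2, map_one]
    rfl
  let e : Matrix.SpecialLinearGroup (Fin 2) F ≃* Matrix.ProjectiveSpecialLinearGroup (Fin 2) F :=
    MulEquiv.ofBijective f ⟨hinj, QuotientGroup.mk'_surjective _⟩
  apply UGood.of_mulEquiv e
  exact psl_ugood heven h8 h3 (by rw [MulEquiv.orderOf_eq, hx])

end Cfsg.Agent.H452.FprJ1
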