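import Cfsg.Agent.H400.FprD4H
import Cfsg.Agent.H400.FprSharpRgd
import Cfsg.Agent.H398.FPR.FamEOne

/-!
# `³D₄(q)`, `q ≥ 4` even, the prime `7` dividing `q² + q + 1`
-/

set_option autoImplicit false
set_option linter.unusedSectionVars false
set_option linter.unusedVariables false

namespace Cfsg.Agent.H452.D4M

open CoxeterSystem Cfsg.Agent.ChevalleyStructure.CoxeterGeom Cfsg.Agent.Tits.Roots Cfsg.Agent.Tits.Core
  Cfsg.Agent.Nodes.Reps Cfsg.Agent.Nodes.BNOf Cfsg.Agent.Nodes.RGDTwGen Cfsg.Agent.Nodes.RGDChev Cfsg.Agent.Nodes.RGDFold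
  Cfsg.Agent.Nodes.KindChev Cfsg.Agent.Nodes.Coroot Cfsg.Agent.Nodes.PosPair Cfsg.Agent.Nodes.LeviDec
  Cfsg.Agent.Nodes.StabComb Cfsg.Agent.Nodes.Bruhat Cfsg.Agent.Nodes.Unique
open Cfsg.Lie Cfsg.Agent.ChevalleyStructure
open Cfsg.Agent.ChevalleyStructure.TwistedU Cfsg.Agent.ChevalleyStructure.D4U
  Cfsg.Agent.ChevalleyStructure.D4Comm Cfsg.Agent.ChevalleyStructure.D4RGD Cfsg.Agent.ChevalleyStructure.D4Twisted
open Cfsg.Agent.ChevalleyStructure.D4NConj (nR nR_def nG nG_def nG_conj hR hR_def)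
open Cfsg.Agent.Nodes.RGDTwD4 (A isCartan foldData hp)
open Cfsg.Agent.Hexagon.TwD4Par Cfsg.Agent.Hexagon.TwD4Rel
open Cfsg.Agent.SplitTwo
open Cfsg.Agent.Omega.EH3.Kf
open Cfsg.Agent.H400.TwoExc Cfsg.Agent.H400.TwoExc.TwD
open Cfsg.Agent.H398.FPR (CommFull UGood Pair)
open Cfsg.Agent.Nodes.RGDFoldSL
open Cfsg.Agent.H400.Fpr Cfsg.Agent.H400.Fpr.D4
open scoped commutatorElement MatrixGroups

universe u

section Hex

variable {E : Type*} [Field E] {σ : E ≃+* E} {G : Type*} [Group G] {XX : ZMod (2 * 6) → Subgroup G}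
  {x1 x2 x3 x4 x5 x6 : E → G} (P : HexPar σ XX x1 x2 x3 x4 x5 x6)

include P

theorem com35 (a b : E) : ⁅x3 a, x5 b⁆ = x4 (trc σ a b) := by
  have h1 := P.rel.c35 (-a) (-b)
  rw [FamD4.kk_eq, x3_neg P, x5_neg P, inv_inv, inv_inv] at h1
  rw [h1]
  unfold trc
  rw [neg_mul_neg]

omit P in
/-- the trace form is nondegenerate -/
theorem trc_inj (h2 : (2 : E) = 0) {a b : E} (h : ∀ c, trc σ a c = trc σ b c) : a = b := by
  by_contra hne
  have hd : a - b ≠ 0 := sub_ne_zero.2 hne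
  have h1 := h (a - b)⁻¹
  unfold trc at h1
  have h3 : (a - b) * (a - b)⁻¹ = 1 := mul_inv_cancel₀ hd
  have h4 : a * (a - b)⁻¹ = 1 + b * (a - b)⁻¹ := by linear_combination h3
  rw [h4, map_add, map_add, map_one, map_one] at h1
  have h5 : (3 : E) = 0 := by linear_combination h1
  have h6 : (1 : E) = 0 := by linear_combination h5 - h2
  exact one_ne_zero h6

omit P in
theorem trc_comm (a b : E) : trc σ a b = trc σ b a := by
  unfold trc
  rw [mul_comm a b]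

/-- a group containing `X 3`, `X 4`, `X 5` is large -/
theorem card_ge [Finite G] (h2 : (2 : E) = 0) {V : Subgroup G} (h3 : ∀ a, x3 a ∈ V) (h4 : XX 4 ≤ V)
    (h5 : ∀ b, x5 b ∈ V) : Nat.card E * Nat.card E * Nat.card (XX 4) ≤ Nat.card V := by
  have hc := P.rel.cube
  rw [← Nat.card_prod, ← Nat.card_prod]
  refine Nat.card_le_card_of_injective (fun u : (E × E) × XX 4 =>
    (⟨x3 u.1.1 * x5 u.1.2 * (u.2 : G), mul_mem (mul_mem (h3 _) (h5 _)) (h4 u.2.2)⟩ : V)) ?_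
  rintro ⟨⟨a, b⟩, z⟩ ⟨⟨a', b'⟩, z'⟩ h
  have h6 : x3 a * x5 b * (z : G) = x3 a' * x5 b' * (z' : G) := congrArg Subtype.val h
  have m3 : ∀ a, x3 a ∈ XX 3 := fun a => (P.mem3 _).2 ⟨a, rfl⟩
  have m5 : ∀ a, x5 a ∈ XX 5 := fun a => (P.mem5 _).2 ⟨a, rfl⟩
  have k5 : ∀ (a b c : E) (z : XX 4), ⁅x3 a * x5 b * (z : G), x5 c⁆ = x4 (trc σ a c) := by
    intro a b c z
    rw [← com35 P a c, commutatorElement_def, commutatorElement_def]
    have e1 : x5 b * x5 c = x5 c * x5 b := nil55 P (m5 b) (m5 c)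
    have e2 : (z : G) * x5 c = x5 c * z := nil45 P z.2 (m5 c)
    calc x3 a * x5 b * (z : G) * x5 c * (x3 a * x5 b * (z : G))⁻¹ * (x5 c)⁻¹ =
        x3 a * x5 b * ((z : G) * x5 c) * (z : G)⁻¹ * (x5 b)⁻¹ * (x3 a)⁻¹ * (x5 c)⁻¹ := by group
      _ = x3 a * (x5 b * x5 c) * (x5 b)⁻¹ * (x3 a)⁻¹ * (x5 c)⁻¹ := by rw [e2]; group
      _ = x3 a * x5 c * (x3 a)⁻¹ * (x5 c)⁻¹ := by rw [e1]; group
  have ha : a = a' := by
    apply trc_inj h2
    intro c
    have h7 := k5 a b c z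
    rw [h6, k5 a' b' c z'] at h7
    exact (P.inj4 _ _ (map_trc hc _ _) (map_trc hc _ _) h7).symm
  subst ha
  have h8 : x5 b * (z : G) = x5 b' * (z' : G) := by
    apply mul_left_cancel (a := x3 a)
    rw [← mul_assoc, ← mul_assoc]
    exact h6
  have k3 : ∀ (b c : E) (z : XX 4), ⁅x3 c, x5 b * (z : G)⁆ = x4 (trc σ c b) := by
    intro b c z
    rw [← com35 P c b, commutatorElement_def, commutatorElement_def]
    have e2 : x3 c * (z : G) = z * x3 c := nil34 P (m3 c) z.2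
    have e3 : (z : G) * (x3 c)⁻¹ = (x3 c)⁻¹ * z := by
      rw [eq_inv_mul_iff_mul_eq, ← mul_assoc, e2]; group
    calc x3 c * (x5 b * (z : G)) * (x3 c)⁻¹ * (x5 b * (z : G))⁻¹ =
        x3 c * x5 b * ((z : G) * (x3 c)⁻¹) * (z : G)⁻¹ * (x5 b)⁻¹ := by group
      _ = _ := by rw [e3]; group
  have hb : b = b' := by
    apply trc_inj h2
    intro c
    have h7 := k3 b c z
    rw [h8, k3 b' c z'] at h7
    rw [trc_comm b c, trc_comm b' c]
    exact (P.inj4 _ _ (map_trc hc _ _) (map_trc hc _ _) h7).symm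
  subst hb
  have h9 : (z : G) = z' := mul_left_cancel h8
  rw [Subtype.ext h9]

end Hex

variable {K : Type u} [Field K] [Fintype K] {q : ℕ} {φ : K →+* K}

theorem hβ_x3 (hφ : ∀ x, φ x = x ^ q) (hle : twistedD4 K q ≤ D4Fixed.fix φ) {σ : K ≃+* K} (hσ : ∀ x, σ x = φ x)
    (hK : Fintype.card K = q ^ 3) {y : K} (hN : y * φ y * φ (φ y) = 1) (a : K) :
    hβ hφ hle hK y * ev (X3 σ) a * (hβ hφ hle hK y)⁻¹ = ev (X3 σ) ((y ^ 2)⁻¹ * a) := by
  have hy : y ≠ 0 := by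
    rintro rfl
    simp at hN
  have hy1 : φ y ≠ 0 := (map_ne_zero φ).2 hy
  have hy2 : φ (φ y) ≠ 0 := (map_ne_zero φ).2 hy1
  apply Subtype.ext
  rw [Subgroup.coe_mul, Subgroup.coe_mul, Subgroup.coe_inv, coe_hβ, c3 hφ hσ, c3 hφ hσ, X3, X3, w3_eq, w3_eq, conj3,
    hb_c hy (r := 17) (c1 := 0) (c2 := -1) (c3 := 1) (c4 := 1) (by norm_num) (by decide +kernel),
    hb_c hy (r := 20) (c1 := 0) (c2 := 1) (c3 := -1) (c4 := 1) (by norm_num) (by decide +kernel),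
    hb_c hy (r := 21) (c1 := 0) (c2 := 1) (c3 := 1) (c4 := -1) (by norm_num) (by decide +kernel)]
  simp only [zpow_neg_one, zpow_one, hσ, map_mul, map_pow, map_inv₀]
  congr 2
  · field_simp
    linear_combination (-a) * hN
  · congr 1
    field_simp
    linear_combination (φ a) * hN
  · congr 1
    field_simp
    linear_combination (φ (φ a)) * hN

/-- **`³D₄(q)`, `q ≥ 4` even, `7 ∣ q² + q + 1`.** -/
theorem exists_uGood (hs : IsSimpleGroup ↥(twistedD4 K q)) (hcen : Subgroup.center ↥(twistedD4 K q) = ⊥)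
    (hK : Fintype.card K = q ^ 3) (hφ : ∀ x, φ x = x ^ q) [CharP K 2] (h4 : 4 ≤ q) (h7 : 7 ∣ q ^ 2 + q + 1) :
    ∃ x : ↥(twistedD4 K q), x ^ 7 = 1 ∧ UGood 1 8 x := by
  have : Fact (Nat.Prime 2) := ⟨Nat.prime_two⟩
  have h2 : (2 : K) = 0 := by
    have := CharP.cast_eq_zero K 2
    exact_mod_cast this
  obtain ⟨σ, hσ, hB, P⟩ := exists_sigma hK hφ
  let cs : CoxeterSystem CoxeterMatrix.G₂ _ := CoxeterMatrix.G₂.toCoxeterSystem
  have hW : Finite CoxeterMatrix.G₂.Group := Nodes.RGDFold.finite_W (hp := Nodes.RGDTwD4.hp) cs isCartan foldData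
  have R := Nodes.RGDTwD4.rgd cs hK hφ 2
  have hG1 := Nodes.RGDTwD4.G1_eq_top cs hK hφ
  have hle := D4Fixed.twisted_le_fix hK hφ
  have h7p : Nat.Prime 7 := by norm_num
  have : Fact (Nat.Prime 7) := ⟨h7p⟩
  have hq1 : 1 < q := by omega
  have H := (gi (cs := cs) 2 hK hφ).hs
  have hfin : Finite ↥(twistedD4 K q) := inferInstance
  -- the scalar element
  obtain ⟨t, ht, ht0, hto⟩ := exists_gen (natCard_Fk hK hφ hσ hq1) hq1
  have htφ : φ t = t := by rw [← hσ, ht]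
  have S : ScR R (toV [2, 3]) q (⟨hR 23 t, hr_tw hφ hσ htφ⟩ : ↥(twistedD4 K q)) :=
    scR_of_par (by omega) (hr_mem hφ hle hσ htφ) (fun s hs hsr => spar hφ hle hσ P htφ ht0 hs hsr)
      (spar_r hφ hle hσ P htφ ht0) (fun i hi hiq h1 => by
        have := Nat.le_of_dvd hi (orderOf_dvd_of_pow_eq_one h1)
        omega)
  -- the element of order `7` of the field
  have hd3 : 7 ∣ Nat.card Kˣ := by
    rw [Nat.card_units, Nat.card_eq_fintype_card, hK]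
    refine h7.trans ⟨q - 1, ?_⟩
    obtain ⟨m, rfl⟩ : ∃ m, q = m + 1 := ⟨q - 1, by omega⟩
    rw [Nat.add_sub_cancel]
    have e : (m + 1) ^ 3 = ((m + 1) ^ 2 + (m + 1) + 1) * m + 1 := by ring
    rw [e, Nat.add_sub_cancel]
  obtain ⟨v, hv⟩ := exists_prime_orderOf_dvd_card' 7 hd3
  have hv1 : (v : K) ^ 7 = 1 := by
    rw [← Units.val_pow_eq_pow_val, ← hv, pow_orderOf_eq_one, Units.val_one]
  have hv0 : (v : K) ≠ 0 := v.ne_zero
  have hN : (v : K) * φ v * φ (φ v) = 1 := by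
    rw [hφ, hφ, ← pow_mul, ← pow_succ', ← pow_add]
    have e : q + 1 + q * q = q ^ 2 + q + 1 := by ring
    obtain ⟨c, hc⟩ := h7
    rw [e, hc, pow_mul, hv1, one_pow]
  have hv2 : (v : K) ^ 2 ≠ 1 := by
    intro h
    have h1 : v ^ 2 = 1 := Units.ext (by rw [Units.val_pow_eq_pow_val, h, Units.val_one])
    have h2 := orderOf_dvd_of_pow_eq_one h1
    rw [hv] at h2
    have := Nat.le_of_dvd (by norm_num) h2
    omega
  have hv2' : ((v : K) ^ 2)⁻¹ ≠ 1 := by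
    intro h
    exact hv2 (inv_eq_one.1 h)
  have hx7 : hβ hφ hle hK (v : K) ^ 7 = 1 := hβ_pow hφ hle hK hv0 hv1
  have hxL : hβ hφ hle hK (v : K) ∈ Nodes.RGDTwD4.X φ q (sr 1) ⊔ Nodes.RGDTwD4.X φ q (-sr 1) := Ph_mem hφ hle hK 1 _
  have e3 := hβ_x3 hφ hle hσ hK hN
  have e5 := hβ_x5 hφ hle hσ hK hN
  revert hx7 hxL e3 e5
  generalize hβ hφ hle hK (v : K) = x
  intro hx7 hxL' e3 e5
  have hx1 : x ≠ 1 := by
    rintro rfl
    have h5 := e5 1
    rw [one_mul, inv_one, mul_one, mul_one] at h5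
    exact hv2 (P.inj5 _ _ h5).symm
  have hxL : x ∈ L0 cs isCartan (Nodes.RGDTwD4.X φ q) (toV [2, 3]) := by
    have hc : cpr cs isCartan (sr 1) (toV [2, 3]) = 0 :=
      cpr_val (gr (cs := cs)).hd (gr (cs := cs)).rr (by decide +kernel) (by decide +kernel)
    have hr := isRoot_sr cs isCartan 1
    refine (sup_le ?_ ?_ : Nodes.RGDTwD4.X φ q (sr 1) ⊔ Nodes.RGDTwD4.X φ q (-sr 1) ≤ _) hxL'
    · exact RGD.le_Sup (S := {s | IsRoot cs isCartan s ∧ cpr cs isCartan s (toV [2, 3]) = 0}) ⟨hr, hc⟩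
    · refine RGD.le_Sup (S := {s | IsRoot cs isCartan s ∧ cpr cs isCartan s (toV [2, 3]) = 0}) ⟨hr.neg, ?_⟩
      rw [← neg_one_smul ℤ (sr 1), cpr_smul cs isCartan _ _ (gr (cs := cs)).rr, hc, mul_zero]
  have hcr := card_X (cs := cs) 2 hK hφ hq1 (gr (cs := cs)).rr
  have he1 : eG2t (toV [2, 3]) = 1 := by decide +kernel
  rw [he1, pow_one] at hcr
  -- `X 3`, `X 5` in `QQ`
  have hGt : ∀ s : Fin 2 → ℤ, IsRoot cs isCartan s → cpr cs isCartan s (toV [2, 3]) = 1 →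
      Nodes.RGDTwD4.X φ q s ≤ QQ cs isCartan (Nodes.RGDTwD4.X φ q) (toV [2, 3]) := by
    intro s h1 h2
    exact RGD.le_Sup (S := Gt cs isCartan (toV [2, 3])) ⟨h1, by rw [h2]; norm_num⟩
  have hQ3 : ∀ a, ev (X3 σ) a ∈ QQ cs isCartan (Nodes.RGDTwD4.X φ q) (toV [2, 3]) := by
    intro a
    apply hGt (toV [1, 2]) r12 (cpr_val (gr (cs := cs)).hd (gr (cs := cs)).rr (by decide +kernel) (by decide +kernel))
    rw [X3' hle, P.mem3]
    exact ⟨a, rfl⟩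
  have hQ5 : ∀ a, ev (X5 σ) a ∈ QQ cs isCartan (Nodes.RGDTwD4.X φ q) (toV [2, 3]) := by
    intro a
    apply hGt (toV [1, 1]) r11 (cpr_val (gr (cs := cs)).hd (gr (cs := cs)).rr (by decide +kernel) (by decide +kernel))
    rw [X5' hle, P.mem5]
    exact ⟨a, rfl⟩
  refine ⟨x, hx7, ?_⟩
  refine sharp_rgd (c := 3) (D := 2) (k := 1) (M' := 8) H hs hcen hG1 S h7p (by norm_num) hxL
    (by rw [pow_one]; exact hx7) hx1 (isPGroup_QQ hK hφ hq1 2) ?_ ?_ ?_ ?_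
  · intro V hXV hVQ hVx
    have h3 : ∀ a, ev (X3 σ) a ∈ V := by
      intro a
      have h5 := hVx _ (hQ3 ((((v : K) ^ 2)⁻¹ - 1)⁻¹ * a))
      rw [commutatorElement_def, e3, ← x3_neg P, ← P.rel.add3] at h5
      have h6 : ((v : K) ^ 2)⁻¹ * ((((v : K) ^ 2)⁻¹ - 1)⁻¹ * a) + -((((v : K) ^ 2)⁻¹ - 1)⁻¹ * a) = a := by
        have h8 : ((v : K) ^ 2)⁻¹ - 1 ≠ 0 := sub_ne_zero.2 hv2'
        have h9 := mul_inv_cancel₀ h8
        linear_combination a * h9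
      rwa [h6] at h5
    have h5 : ∀ a, ev (X5 σ) a ∈ V := by
      intro a
      have h5 := hVx _ (hQ5 (((v : K) ^ 2 - 1)⁻¹ * a))
      rw [commutatorElement_def, e5, ← x5_neg P, ← P.rel.add5] at h5
      have h6 : (v : K) ^ 2 * (((v : K) ^ 2 - 1)⁻¹ * a) + -(((v : K) ^ 2 - 1)⁻¹ * a) = a := by
        have h8 : (v : K) ^ 2 - 1 ≠ 0 := sub_ne_zero.2 hv2
        have h9 := mul_inv_cancel₀ h8
        linear_combination a * h9
      rwa [h6] at h5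
    rw [X4' hle] at hXV ⊢
    have h6 := card_ge P h2 h3 hXV h5
    rw [Nat.card_eq_fintype_card (α := K), hK] at h6
    calc q ^ (2 * 3) * Nat.card (Hexagon.TwD4RGD.X K q 4) =
        q ^ 3 * q ^ 3 * Nat.card (Hexagon.TwD4RGD.X K q 4) := by ring
      _ ≤ _ := h6
  · rw [card_QQ4 hK hφ hq1 2, hcr, ← pow_succ]
  · intro t ht ht1
    have h8 : 7 ∣ 2 ^ t - 1 := (Nat.modEq_iff_dvd' (Nat.one_le_two_pow)).1 ht1.symm
    have h9 : 2 ≤ 2 ^ t := by
      calc 2 = 2 ^ 1 := rfl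
        _ ≤ 2 ^ t := Nat.pow_le_pow_right (by norm_num) (by omega)
    have := Nat.le_of_dvd (by omega) h8
    omega
  · have h8 : 4 ^ 3 ≤ q ^ 3 := Nat.pow_le_pow_left h4 3
    omega

/-- **The row.** -/
theorem row_seven (hs : IsSimpleGroup ↥(twistedD4 K q)) (hcen : Subgroup.center ↥(twistedD4 K q) = ⊥)
    (hK : Fintype.card K = q ^ 3) (hφ : ∀ x, φ x = x ^ q) [CharP K 2] (h4 : 4 ≤ q) (h7 : 7 ∣ q ^ 2 + q + 1) :
    Cfsg.Agent.H409.FprRow (7 + 1) 1 7 ↥(twistedD4 K q) := by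
  obtain ⟨x, hx, hU⟩ := exists_uGood hs hcen hK hφ h4 h7
  exact Cfsg.Agent.H398.FPR.row_of_uGood (k := 1) (by norm_num) (by rw [pow_one]; exact hx) hU

end Cfsg.Agent.H452.D4M
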