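import Cfsg.Agent.H398.FPR.Tools

/-!
# Two Heisenberg radicals, exact ratio

`x` centralises `Z`, normalises the Heisenberg group `Q` and has no fixed points on `Q / Z`. Then
the fixed points of `x` in a `Q`-orbit form one `Z`-orbit. With two opposite radicals the ratio of
an element `x` of `3`-power order is at most `1 / 4`.
-/

set_option autoImplicit false
open Subgroup MulAction
open scoped Pointwise

namespace Cfsg.Agent.H452.FprHeis

open Cfsg.Agent.H398.FPR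

/-- `x` acts on the Heisenberg group `Q`, trivially on `Z` and freely on `Q / Z`. -/
structure Heis {G : Type*} [Group G] (x : G) (Q Z : Subgroup G) : Prop where
  le : Z ≤ Q
  cent : ∀ z ∈ Z, ∀ g ∈ Q, z * g = g * z
  der : ∀ a ∈ Q, ∀ b ∈ Q, a * b * a⁻¹ * b⁻¹ ∈ Z
  norm : x ∈ normalizer (Q : Set G)
  fixZ : ∀ z ∈ Z, x * z = z * x
  free : ∀ r ∈ Q, x * r * x⁻¹ * r⁻¹ ∈ Z → r ∈ Z

section

variable {G X : Type*} [Group G] [MulAction G X] {x : G} {Q Z : Subgroup G}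

/-- The group `S Z`. -/
def SZ (h : Heis x Q Z) (S : Subgroup G) (hS : S ≤ Q) : Subgroup G where
  carrier := {g | ∃ s ∈ S, ∃ z ∈ Z, g = s * z}
  one_mem' := ⟨1, one_mem _, 1, one_mem _, (one_mul 1).symm⟩
  mul_mem' := by
    rintro _ _ ⟨a, ha, z, hz, rfl⟩ ⟨b, hb, w, hw, rfl⟩
    refine ⟨a * b, mul_mem ha hb, z * w, mul_mem hz hw, ?_⟩
    have h2 := h.cent z hz b (hS hb)
    calc a * z * (b * w) = a * (z * b) * w := by group
      _ = a * (b * z) * w := by rw [h2]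
      _ = a * b * (z * w) := by group
  inv_mem' := by
    rintro _ ⟨a, ha, z, hz, rfl⟩
    refine ⟨a⁻¹, inv_mem ha, z⁻¹, inv_mem hz, ?_⟩
    rw [mul_inv_rev]
    exact h.cent _ (inv_mem hz) _ (inv_mem (hS ha))

theorem mem_SZ {h : Heis x Q Z} {S : Subgroup G} {hS : S ≤ Q} {g : G} :
    g ∈ SZ h S hS ↔ ∃ s ∈ S, ∃ z ∈ Z, g = s * z := Iff.rfl

theorem SZ_le {h : Heis x Q Z} {S : Subgroup G} {hS : S ≤ Q} : SZ h S hS ≤ Q := by
  rintro _ ⟨s, hs, z, hz, rfl⟩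
  exact mul_mem (hS hs) (h.le hz)

theorem le_SZ {h : Heis x Q Z} {S : Subgroup G} {hS : S ≤ Q} : S ≤ SZ h S hS :=
  fun s hs => ⟨s, hs, 1, one_mem _, (mul_one s).symm⟩

theorem Z_le_SZ {h : Heis x Q Z} {S : Subgroup G} {hS : S ≤ Q} : Z ≤ SZ h S hS :=
  fun z hz => ⟨1, one_mem _, z, hz, (one_mul z).symm⟩

/-- `r ↦ [x, r]` is surjective modulo `Z`. -/
theorem Heis.surj [Finite G] (h : Heis x Q Z) {B : Subgroup G} (hZB : Z ≤ B) (hB : B ≤ Q)
    (hx : x ∈ normalizer (B : Set G)) {b : G} (hb : b ∈ B) :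
    ∃ c ∈ B, (x * c * x⁻¹ * c⁻¹)⁻¹ * b ∈ Z := by
  classical
  have hmem : ∀ c : B, x * c * x⁻¹ * (c : G)⁻¹ ∈ B := fun c =>
    mul_mem ((mem_normalizer_iff.1 hx _).1 c.2) (inv_mem c.2)
  let N : Subgroup B := Z.subgroupOf B
  let f : B ⧸ N → B ⧸ N := Quotient.map' (fun c : B => ⟨x * c * x⁻¹ * (c : G)⁻¹, hmem c⟩)
    (by
      intro a c hac
      rw [QuotientGroup.leftRel_apply] at hac ⊢
      rw [mem_subgroupOf] at hac ⊢
      have hz : (a : G)⁻¹ * c ∈ Z := hac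
      obtain ⟨z, hzdef⟩ : ∃ z, z = (a : G)⁻¹ * c := ⟨_, rfl⟩
      rw [← hzdef] at hz
      have hc : (c : G) = a * z := by rw [hzdef]; group
      have hxz : x * z * x⁻¹ = z := by rw [h.fixZ z hz]; group
      have e : x * (c : G) * x⁻¹ * (c : G)⁻¹ = x * (a : G) * x⁻¹ * (a : G)⁻¹ := by
        rw [hc]
        calc x * (a * z) * x⁻¹ * (a * z)⁻¹ = x * a * x⁻¹ * (x * z * x⁻¹) * z⁻¹ * (a : G)⁻¹ := by
              group
          _ = x * (a : G) * x⁻¹ * (a : G)⁻¹ := by rw [hxz]; group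
      have e2 : (((⟨x * a * x⁻¹ * (a : G)⁻¹, hmem a⟩ : B)⁻¹ *
          ⟨x * c * x⁻¹ * (c : G)⁻¹, hmem c⟩ : B) : G) = 1 := by
        push_cast
        rw [e]
        group
      rw [e2]
      exact one_mem _)
  have hinj : Function.Injective f := by
    intro u v huv
    obtain ⟨a, rfl⟩ := QuotientGroup.mk_surjective u
    obtain ⟨c, rfl⟩ := QuotientGroup.mk_surjective v
    have h1 : (((⟨x * a * x⁻¹ * (a : G)⁻¹, hmem a⟩ : B) : B ⧸ N)) =
      ((⟨x * c * x⁻¹ * (c : G)⁻¹, hmem c⟩ : B) : B ⧸ N) := huv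
    rw [QuotientGroup.eq, mem_subgroupOf] at h1
    have h2 : (x * a * x⁻¹ * (a : G)⁻¹)⁻¹ * (x * c * x⁻¹ * (c : G)⁻¹) ∈ Z := h1
    rw [QuotientGroup.eq, mem_subgroupOf]
    change (a : G)⁻¹ * c ∈ Z
    apply h.free _ (mul_mem (inv_mem (hB a.2)) (hB c.2))
    obtain ⟨z, hzdef⟩ : ∃ z, z = (x * a * x⁻¹ * (a : G)⁻¹)⁻¹ * (x * c * x⁻¹ * (c : G)⁻¹) := ⟨_, rfl⟩
    rw [← hzdef] at h2
    have e1 : x * ((a : G)⁻¹ * c) * x⁻¹ * ((a : G)⁻¹ * c)⁻¹ = (a : G)⁻¹ * z * a := by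
      rw [hzdef]; group
    rw [e1, mul_assoc, h.cent z h2 a (hB a.2), inv_mul_cancel_left]
    exact h2
  have hsurj := Finite.injective_iff_surjective.1 hinj
  obtain ⟨v, hv⟩ := hsurj ((⟨b, hb⟩ : B) : B ⧸ N)
  obtain ⟨c, rfl⟩ := QuotientGroup.mk_surjective v
  have h1 : (((⟨x * c * x⁻¹ * (c : G)⁻¹, hmem c⟩ : B) : B ⧸ N)) = ((⟨b, hb⟩ : B) : B ⧸ N) := hv
  rw [QuotientGroup.eq, mem_subgroupOf] at h1
  exact ⟨c, c.2, h1⟩

/-- No fixed points modulo invariant subgroups over `Z`. -/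
theorem Heis.free_mod [Finite G] (h : Heis x Q Z) {B : Subgroup G} (hZB : Z ≤ B) (hB : B ≤ Q)
    (hx : x ∈ normalizer (B : Set G)) {r : G} (hr : r ∈ Q) (hrB : x * r * x⁻¹ * r⁻¹ ∈ B) :
    r ∈ B := by
  obtain ⟨c, hc, hcz⟩ := h.surj hZB hB hx hrB
  have h1 : c⁻¹ * r ∈ Z := by
    apply h.free _ (mul_mem (inv_mem (hB hc)) hr)
    obtain ⟨z, hzdef⟩ : ∃ z, z = (x * c * x⁻¹ * c⁻¹)⁻¹ * (x * r * x⁻¹ * r⁻¹) := ⟨_, rfl⟩
    rw [← hzdef] at hcz
    have e1 : x * (c⁻¹ * r) * x⁻¹ * (c⁻¹ * r)⁻¹ = c⁻¹ * z * c := by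
      rw [hzdef]; group
    rw [e1, mul_assoc, h.cent z hcz c (hB hc), inv_mul_cancel_left]
    exact hcz
  have h2 : r = c * (c⁻¹ * r) := by group
  rw [h2]
  exact mul_mem hc (hZB h1)

/-- The stabilizer in `Q`. -/
theorem norm_inf {ω : X} (h : Heis x Q Z) (hω : x • ω = ω) :
    x ∈ normalizer ((Q ⊓ stabilizer G ω : Subgroup G) : Set G) := by
  have hxω : x ∈ stabilizer G ω := hω
  rw [mem_normalizer_iff]
  intro g
  rw [mem_inf, mem_inf]
  constructor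
  · rintro ⟨h1, h2⟩
    exact ⟨(mem_normalizer_iff.1 h.norm g).1 h1, mul_mem (mul_mem hxω h2) (inv_mem hxω)⟩
  · rintro ⟨h1, h2⟩
    refine ⟨(mem_normalizer_iff.1 h.norm g).2 h1, ?_⟩
    have h3 := mul_mem (mul_mem (inv_mem hxω) h2) hxω
    have h4 : x⁻¹ * (x * g * x⁻¹) * x = g := by group
    rwa [h4] at h3

theorem norm_SZ {h : Heis x Q Z} {S : Subgroup G} {hS : S ≤ Q}
    (hx : x ∈ normalizer (S : Set G)) : x ∈ normalizer ((SZ h S hS : Subgroup G) : Set G) := by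
  rw [mem_normalizer_iff]
  intro g
  constructor
  · rintro ⟨s, hs, z, hz, rfl⟩
    refine ⟨x * s * x⁻¹, (mem_normalizer_iff.1 hx s).1 hs, z, hz, ?_⟩
    calc x * (s * z) * x⁻¹ = x * s * x⁻¹ * (x * z * x⁻¹) := by group
      _ = x * s * x⁻¹ * (z * x * x⁻¹) := by rw [h.fixZ z hz]
      _ = _ := by group
  · rintro ⟨s, hs, z, hz, hsz⟩
    refine ⟨x⁻¹ * s * x, ?_, z, hz, ?_⟩
    · have := (mem_normalizer_iff.1 (inv_mem hx) s).1 hs
      rwa [inv_inv] at this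
    · have e1 : g = x⁻¹ * (x * g * x⁻¹) * x := by group
      rw [e1, hsz]
      calc x⁻¹ * (s * z) * x = x⁻¹ * s * (z * x) := by group
        _ = x⁻¹ * s * (x * z) := by rw [h.fixZ z hz]
        _ = _ := by group

/-- Fixed points in a `Q`-orbit lie in one `Z`-orbit. -/
theorem Heis.fix_sub [Finite G] (h : Heis x Q Z) {ω : X} (hω : x • ω = ω) :
    fixedBy X x ∩ orbit Q ω ⊆ orbit Z ω := by
  rintro _ ⟨hz, ⟨r, rfl⟩⟩
  have hz' : x • ((r : G) • ω) = (r : G) • ω := hz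
  obtain ⟨S, hS⟩ : ∃ S : Subgroup G, S = Q ⊓ stabilizer G ω := ⟨_, rfl⟩
  have hSQ : S ≤ Q := by rw [hS]; exact inf_le_left
  have h1 : (r : G)⁻¹ * (x * r * x⁻¹) ∈ S := by
    rw [hS, mem_inf]
    refine ⟨mul_mem (inv_mem r.2) ((mem_normalizer_iff.1 h.norm _).1 r.2), ?_⟩
    rw [mem_stabilizer_iff]
    have h2 : ((r : G)⁻¹ * (x * r * x⁻¹)) • ω = (r : G)⁻¹ • (x • ((r : G) • (x⁻¹ • ω))) := by
      simp only [smul_smul, mul_assoc]
    have h3 : x⁻¹ • ω = ω := by rw [inv_smul_eq_iff, hω]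
    rw [h2, h3, hz', inv_smul_smul]
  obtain ⟨s, hsdef⟩ : ∃ s, s = (r : G)⁻¹ * (x * r * x⁻¹) := ⟨_, rfl⟩
  rw [← hsdef] at h1
  have h2 : x * r * x⁻¹ * (r : G)⁻¹ ∈ SZ h S hSQ := by
    refine ⟨s, h1, _, h.der s⁻¹ (inv_mem (hSQ h1)) r r.2, ?_⟩
    rw [hsdef]
    group
  have hxS : x ∈ normalizer (S : Set G) := by rw [hS]; exact norm_inf h hω
  obtain ⟨t, ht, z, hz2, hrt⟩ := h.free_mod Z_le_SZ SZ_le (norm_SZ hxS) r.2 h2
  refine ⟨⟨z, hz2⟩, ?_⟩
  change z • ω = (r : G) • ω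
  rw [hrt, ← h.cent z hz2 t (hSQ ht), mul_smul]
  have h3 : t • ω = ω := by
    rw [hS] at ht
    exact ht.2
  rw [h3]

/-- Sizes of orbits of the groups between the stabilizer and `Q`. -/
theorem card_orbit_mul [Finite G] {ω : X} {S T : Subgroup G} (hS : S = Q ⊓ stabilizer G ω)
    (h1 : S ≤ T) (h2 : T ≤ Q) : (orbit T ω).ncard * Nat.card S = Nat.card T := by
  classical
  have h3 : Nat.card (orbit T ω) * Nat.card (stabilizer T ω) = Nat.card T := by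
    have := Fintype.ofFinite T
    have : Finite (orbit T ω) := (Set.finite_range (fun m : T => m • ω)).to_subtype
    have := Fintype.ofFinite (orbit T ω)
    have := Fintype.ofFinite (stabilizer T ω)
    rw [Nat.card_eq_fintype_card, Nat.card_eq_fintype_card, Nat.card_eq_fintype_card]
    exact card_orbit_mul_card_stabilizer_eq_card_group T ω
  have h4 : Nat.card (stabilizer T ω) = Nat.card S := by
    have h5 : (stabilizer T ω).map T.subtype = S := by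
      ext g
      rw [mem_map]
      constructor
      · rintro ⟨t, ht, rfl⟩
        rw [hS]
        exact ⟨h2 t.2, ht⟩
      · intro hg
        refine ⟨⟨g, h1 hg⟩, ?_, rfl⟩
        rw [hS] at hg
        exact hg.2
    rw [← h5]
    exact Nat.card_congr (Subgroup.equivMapOfInjective _ _ T.subtype_injective).toEquiv
  rw [h4, Nat.card_coe_set_eq] at h3
  exact h3

theorem orbit_SZ {h : Heis x Q Z} {ω : X} {S : Subgroup G} {hS : S ≤ Q}
    (hSω : S ≤ stabilizer G ω) : orbit (SZ h S hS) ω = orbit Z ω := by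
  ext y
  constructor
  · rintro ⟨⟨g, s, hs, z, hz, rfl⟩, rfl⟩
    refine ⟨⟨z, hz⟩, ?_⟩
    change z • ω = (s * z) • ω
    rw [← h.cent z hz s (hS hs), mul_smul]
    have h3 : s • ω = ω := hSω hs
    rw [h3]
  · rintro ⟨⟨z, hz⟩, rfl⟩
    exact ⟨⟨z, Z_le_SZ hz⟩, rfl⟩

/-- The weight of a point. -/
noncomputable def wt (Q Z : Subgroup G) (ω : X) : ℚ :=
  ((orbit Q ω).ncard : ℚ) / ((orbit Z ω).ncard : ℚ)

theorem orbit_ncard_pos [Finite X] (T : Subgroup G) (ω : X) : 0 < (orbit T ω).ncard := by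
  rw [Set.ncard_pos]
  exact ⟨ω, mem_orbit_self ω⟩

/-- The sum of the weights of the fixed points is at most the number of points. -/
theorem Heis.sum_wt [Finite G] [Fintype X] [DecidableEq X] (h : Heis x Q Z) :
    ∑ ω ∈ Finset.univ.filter (fun ω : X => x • ω = ω), wt Q Z ω ≤ (Fintype.card X : ℚ) := by
  classical
  have h1 : ∀ ω : X, wt Q Z ω = ∑ y : X, if y ∈ orbit Q ω then
      (1 : ℚ) / ((orbit Z ω).ncard : ℚ) else 0 := by
    intro ω
    rw [← Finset.sum_filter, Finset.sum_const, nsmul_eq_mul, wt]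
    have : (Finset.univ.filter (fun y : X => y ∈ orbit Q ω)).card = (orbit Q ω).ncard := by
      rw [Set.ncard_eq_toFinset_card']
      congr 1
      ext y
      simp
    rw [this]
    ring
  have h2 : ∑ ω ∈ Finset.univ.filter (fun ω : X => x • ω = ω), wt Q Z ω =
      ∑ y : X, ∑ ω ∈ Finset.univ.filter (fun ω : X => x • ω = ω), if y ∈ orbit Q ω then
      (1 : ℚ) / ((orbit Z ω).ncard : ℚ) else 0 := by
    rw [Finset.sum_comm]
    exact Finset.sum_congr rfl fun ω _ => h1 ω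
  rw [h2]
  have h3 : ∀ y : X, (∑ ω ∈ Finset.univ.filter (fun ω : X => x • ω = ω), if y ∈ orbit Q ω then
      (1 : ℚ) / ((orbit Z ω).ncard : ℚ) else 0) ≤ 1 := by
    intro y
    rw [← Finset.sum_filter]
    obtain ⟨A, hA⟩ : ∃ A : Finset X, A = Finset.filter (fun a : X => y ∈ orbit Q a)
      (Finset.univ.filter (fun ω : X => x • ω = ω)) := ⟨_, rfl⟩
    rw [← hA]
    rcases A.eq_empty_or_nonempty with h0 | ⟨ω0, hω0⟩
    · rw [h0, Finset.sum_empty]; exact zero_le_one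
    · have hω0' := hω0
      rw [hA, Finset.mem_filter, Finset.mem_filter] at hω0'
      obtain ⟨⟨-, hx0⟩, hy0⟩ := hω0'
      have h4 : ∀ ω ∈ A, ω ∈ orbit Z ω0 := by
        intro ω hω
        rw [hA, Finset.mem_filter, Finset.mem_filter] at hω
        obtain ⟨⟨-, hxω⟩, hyω⟩ := hω
        apply h.fix_sub hx0
        refine ⟨hxω, ?_⟩
        have e1 : orbit Q y = orbit Q ω0 := orbit_eq_iff.2 hy0
        have e2 : orbit Q y = orbit Q ω := orbit_eq_iff.2 hyω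
        rw [← e1, e2]
        exact mem_orbit_self ω
      have h5 : ∀ ω ∈ A, (1 : ℚ) / ((orbit Z ω).ncard : ℚ) = 1 / ((orbit Z ω0).ncard : ℚ) := by
        intro ω hω
        rw [orbit_eq_iff.2 (h4 ω hω)]
      rw [Finset.sum_congr rfl h5, Finset.sum_const, nsmul_eq_mul]
      have h6 : A.card ≤ (orbit Z ω0).ncard := by
        rw [Set.ncard_eq_toFinset_card']
        apply Finset.card_le_card
        intro ω hω
        rw [Set.mem_toFinset]
        exact h4 ω hω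
      have h7 : (0 : ℚ) < ((orbit Z ω0).ncard : ℚ) := by
        exact_mod_cast orbit_ncard_pos Z ω0
      rw [mul_one_div, div_le_one h7]
      exact_mod_cast h6
  calc ∑ y : X, _ ≤ ∑ y : X, (1 : ℚ) := Finset.sum_le_sum fun y _ => h3 y
    _ = (Fintype.card X : ℚ) := by rw [Finset.sum_const, nsmul_eq_mul, mul_one, Finset.card_univ]

/-- If `S Z = Q` then `S = Q`. -/
theorem le_of_SZ_eq {h : Heis x Q Z} {S : Subgroup G} {hS : S ≤ Q}
    (hcomm : ∀ z ∈ Z, ∃ a ∈ Q, ∃ b ∈ Q, z = a * b * a⁻¹ * b⁻¹) (hQ : Q ≤ SZ h S hS) : Q ≤ S := by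
  have hZ : Z ≤ S := by
    intro z hz
    obtain ⟨a, ha, b, hb, rfl⟩ := hcomm z hz
    obtain ⟨s, hs, z1, hz1, rfl⟩ := hQ ha
    obtain ⟨t, ht, z2, hz2, rfl⟩ := hQ hb
    have e1 := h.cent z1 hz1 t (hS ht)
    have e2 := h.cent z2 hz2 s (hS hs)
    have e3 := h.cent z1 hz1 z2 (h.le hz2)
    have e4 : s * z1 * (t * z2) = s * t * (z1 * z2) := by
      calc s * z1 * (t * z2) = s * (z1 * t) * z2 := by group
        _ = s * (t * z1) * z2 := by rw [e1]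
        _ = _ := by group
    have e5 : t * z2 * (s * z1) = t * s * (z1 * z2) := by
      calc t * z2 * (s * z1) = t * (z2 * s) * z1 := by group
        _ = t * (s * z2) * z1 := by rw [e2]
        _ = t * s * (z2 * z1) := by group
        _ = _ := by rw [e3]
    have e6 : s * z1 * (t * z2) * (s * z1)⁻¹ * (t * z2)⁻¹ = s * t * s⁻¹ * t⁻¹ := by
      have : s * z1 * (t * z2) * (s * z1)⁻¹ * (t * z2)⁻¹ =
          s * z1 * (t * z2) * (t * z2 * (s * z1))⁻¹ := by group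
      rw [this, e4, e5]
      group
    rw [e6]
    exact mul_mem (mul_mem (mul_mem hs ht) (inv_mem hs)) (inv_mem ht)
  intro g hg
  obtain ⟨s, hs, z, hz, rfl⟩ := hQ hg
  exact mul_mem hs (hZ hz)

/-- The weight is at least `4` unless `Q` fixes the point. -/
theorem Heis.four_le_wt [Finite G] [Finite X] (h : Heis x Q Z) {k : ℕ} (hx : x ^ 3 ^ k = 1)
    (hcomm : ∀ z ∈ Z, ∃ a ∈ Q, ∃ b ∈ Q, z = a * b * a⁻¹ * b⁻¹) {ω : X} (hω : x • ω = ω)
    (hQ : ¬ Q ≤ stabilizer G ω) : 4 ≤ wt Q Z ω := by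
  obtain ⟨S, hS⟩ : ∃ S : Subgroup G, S = Q ⊓ stabilizer G ω := ⟨_, rfl⟩
  have hSQ : S ≤ Q := by rw [hS]; exact inf_le_left
  have hxS : x ∈ normalizer (S : Set G) := by rw [hS]; exact norm_inf h hω
  have hxB := norm_SZ (h := h) (hS := hSQ) hxS
  have h1 : ∃ r ∈ Q, r ∉ SZ h S hSQ := by
    by_contra hcon
    push Not at hcon
    apply hQ
    have := le_of_SZ_eq (h := h) (hS := hSQ) hcomm hcon
    rw [hS] at this
    exact this.trans inf_le_right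
  obtain ⟨r, hrQ, hrB⟩ := h1
  have hQB : Q ≤ normalizer ((SZ h S hSQ : Subgroup G) : Set G) := by
    have aux : ∀ g ∈ Q, ∀ b ∈ SZ h S hSQ, g * b * g⁻¹ ∈ SZ h S hSQ := by
      intro g hg b hb
      have h2 := mul_mem (Z_le_SZ (h := h) (hS := hSQ) (h.der g hg b (SZ_le hb))) hb
      have h3 : g * b * g⁻¹ * b⁻¹ * b = g * b * g⁻¹ := by group
      rwa [h3] at h2
    intro g hg
    rw [mem_normalizer_iff]
    intro b
    constructor
    · exact aux g hg b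
    · intro hb
      have h2 := aux g⁻¹ (inv_mem hg) _ hb
      have h3 : g⁻¹ * (g * b * g⁻¹) * g⁻¹⁻¹ = b := by group
      rwa [h3] at h2
  have hcard := card_coset_ge (j := 0) Nat.prime_three hx SZ_le h.norm hxB hQB hrQ (by
    intro h2
    rw [pow_zero, pow_one] at h2
    exact hrB (h.free_mod Z_le_SZ SZ_le hxB hrQ h2.2))
  have h2 := card_orbit_mul (T := Q) hS hSQ le_rfl
  have h3 := card_orbit_mul (T := SZ h S hSQ) hS le_SZ SZ_le
  rw [orbit_SZ (by rw [hS]; exact inf_le_right)] at h3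
  rw [← h2, ← h3] at hcard
  have h4 : 4 * (orbit Z ω).ncard ≤ (orbit Q ω).ncard := by
    have h5 : 0 < Nat.card S := Nat.card_pos
    apply Nat.le_of_mul_le_mul_right _ h5
    calc 4 * (orbit Z ω).ncard * Nat.card S = (3 ^ (0 + 1) + 1) * ((orbit Z ω).ncard * Nat.card S) := by
          ring
      _ ≤ _ := hcard
  rw [wt, le_div_iff₀ (by exact_mod_cast orbit_ncard_pos Z ω)]
  exact_mod_cast h4

theorem two_mul_card_le [Finite G] {A B : Subgroup G} (h : A < B) :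
    2 * Nat.card A ≤ Nat.card B := by
  obtain ⟨c, hc⟩ := card_dvd_of_le h.le
  have h1 : Nat.card A < Nat.card B := by
    by_contra hcon
    push Not at hcon
    exact h.ne (Subgroup.eq_of_le_of_card_ge h.le hcon)
  rcases Nat.lt_or_ge c 2 with h2 | h2
  · exfalso
    have h3 : c = 0 ∨ c = 1 := by omega
    rcases h3 with h3 | h3
    · rw [h3, mul_zero] at hc; omega
    · rw [h3, mul_one] at hc; omega
  · rw [hc, mul_comm]
    exact Nat.mul_le_mul_left _ h2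

/-- A subgroup of index less than `8` and two elements generate. -/
theorem exists_two_gen [Finite G] {B Q : Subgroup G} (hB : B ≤ Q)
    (hlt : Nat.card Q < 8 * Nat.card B) :
    ∃ g1 ∈ Q, ∃ g2 ∈ Q, Q ≤ B ⊔ zpowers g1 ⊔ zpowers g2 := by
  by_cases h1 : Q ≤ B
  · exact ⟨1, one_mem _, 1, one_mem _, (h1.trans le_sup_left).trans le_sup_left⟩
  obtain ⟨g1, hg1, hg1B⟩ := SetLike.not_le_iff_exists.1 h1
  have hB1 : B < B ⊔ zpowers g1 := by
    refine lt_of_le_of_ne le_sup_left ?_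
    intro h
    apply hg1B
    rw [h]
    exact (le_sup_right : zpowers g1 ≤ _) (mem_zpowers g1)
  have hB1Q : B ⊔ zpowers g1 ≤ Q := sup_le hB (by rwa [zpowers_le])
  by_cases h2 : Q ≤ B ⊔ zpowers g1
  · exact ⟨g1, hg1, 1, one_mem _, h2.trans le_sup_left⟩
  obtain ⟨g2, hg2, hg2B⟩ := SetLike.not_le_iff_exists.1 h2
  have hB2 : B ⊔ zpowers g1 < B ⊔ zpowers g1 ⊔ zpowers g2 := by
    refine lt_of_le_of_ne le_sup_left ?_
    intro h
    apply hg2B
    rw [h]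
    exact (le_sup_right : zpowers g2 ≤ _) (mem_zpowers g2)
  have hB2Q : B ⊔ zpowers g1 ⊔ zpowers g2 ≤ Q := sup_le hB1Q (by rwa [zpowers_le])
  refine ⟨g1, hg1, g2, hg2, ?_⟩
  by_contra h3
  have hlt3 : B ⊔ zpowers g1 ⊔ zpowers g2 < Q :=
    lt_of_le_of_ne hB2Q (fun h => h3 h.ge)
  have a1 := two_mul_card_le hB1
  have a2 := two_mul_card_le hB2
  have a3 := two_mul_card_le hlt3
  omega

/-- The index of `S Z` in `Q` is at least `8` if `S ∩ Z = 1`. -/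
theorem Heis.eight_le [Finite G] (h : Heis x Q Z) {Z0 : Subgroup G}
    (hcen : ∀ g ∈ Q, (∀ a ∈ Q, g * a = a * g) → g ∈ Z0)
    (hbig : 8 * (Nat.card Z ^ 2 * Nat.card Z0) ≤ Nat.card Q) {S : Subgroup G} {hS : S ≤ Q}
    (hSZ : ∀ z ∈ Z, z ∈ S → z = 1) : 8 * Nat.card (SZ h S hS) ≤ Nat.card Q := by
  classical
  by_contra hcon
  push Not at hcon
  obtain ⟨g1, hg1, g2, hg2, hgen⟩ := exists_two_gen SZ_le hcon
  obtain ⟨B, hBdef⟩ : ∃ B, B = SZ h S hS := ⟨_, rfl⟩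
  rw [← hBdef] at hcon hgen
  have hBQ : B ≤ Q := by rw [hBdef]; exact SZ_le
  have hcommS : ∀ a ∈ S, ∀ b ∈ S, a * b = b * a := by
    intro a ha b hb
    have h2 := hSZ _ (h.der a (hS ha) b (hS hb))
      (mul_mem (mul_mem (mul_mem ha hb) (inv_mem ha)) (inv_mem hb))
    rw [mul_inv_eq_one, mul_inv_eq_iff_eq_mul] at h2
    exact h2
  have hcommB : ∀ a ∈ B, ∀ b ∈ B, a * b = b * a := by
    rw [hBdef]
    rintro _ ⟨s, hs, z1, hz1, rfl⟩ _ ⟨t, ht, z2, hz2, rfl⟩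
    have e1 := h.cent z1 hz1 t (hS ht)
    have e2 := h.cent z2 hz2 s (hS hs)
    have e3 := h.cent z1 hz1 z2 (h.le hz2)
    calc s * z1 * (t * z2) = s * (z1 * t) * z2 := by group
      _ = (s * t) * (z1 * z2) := by rw [e1]; group
      _ = (t * s) * (z2 * z1) := by rw [hcommS s hs t ht, e3]
      _ = t * (s * z2) * z1 := by group
      _ = t * z2 * (s * z1) := by rw [← e2]; group
  -- central elements
  have hC : ∀ b ∈ B, b * g1 = g1 * b → b * g2 = g2 * b → b ∈ Z0 := by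
    intro b hb hb1 hb2
    apply hcen b (hBQ hb)
    intro a ha
    have h1 : B ⊔ zpowers g1 ⊔ zpowers g2 ≤ Subgroup.centralizer {b} := by
      refine sup_le (sup_le ?_ ?_) ?_
      · intro c hc
        rw [mem_centralizer_singleton_iff]
        exact hcommB c hc b hb
      · rw [zpowers_le, mem_centralizer_singleton_iff]
        exact hb1.symm
      · rw [zpowers_le, mem_centralizer_singleton_iff]
        exact hb2.symm
    have h2 := h1 (hgen ha)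
    rw [mem_centralizer_singleton_iff] at h2
    exact h2.symm
  -- counting
  let f : B → Z × Z := fun b => (⟨b * g1 * (b : G)⁻¹ * g1⁻¹, h.der b (hBQ b.2) g1 hg1⟩,
    ⟨b * g2 * (b : G)⁻¹ * g2⁻¹, h.der b (hBQ b.2) g2 hg2⟩)
  have := Fintype.ofFinite B
  have := Fintype.ofFinite Z
  have := Fintype.ofFinite Z0
  have hfib : ∀ v ∈ (Finset.univ : Finset B).image f,
      (Finset.univ.filter fun b : B => f b = v).card ≤ Nat.card Z0 := by
    intro v hv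
    obtain ⟨b0, -, rfl⟩ := Finset.mem_image.1 hv
    rw [Nat.card_eq_fintype_card, ← Finset.card_univ]
    apply Finset.card_le_card_of_injOn (fun b : B => if hb : (b0 : G)⁻¹ * b ∈ Z0 then
      (⟨(b0 : G)⁻¹ * b, hb⟩ : Z0) else 1) (fun _ _ => Finset.mem_univ _)
    have key : ∀ b : B, f b = f b0 → (b0 : G)⁻¹ * b ∈ Z0 := by
      intro b hb
      have e1 : (b : G) * g1 * (b : G)⁻¹ * g1⁻¹ = b0 * g1 * (b0 : G)⁻¹ * g1⁻¹ :=
        congrArg (fun v : Z × Z => (v.1 : G)) hb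
      have e2 : (b : G) * g2 * (b : G)⁻¹ * g2⁻¹ = b0 * g2 * (b0 : G)⁻¹ * g2⁻¹ :=
        congrArg (fun v : Z × Z => (v.2 : G)) hb
      have aux : ∀ g : G, (b : G) * g * (b : G)⁻¹ * g⁻¹ = b0 * g * (b0 : G)⁻¹ * g⁻¹ →
          (b0 : G)⁻¹ * b * g = g * ((b0 : G)⁻¹ * b) := by
        intro g hg
        have h1 : (b : G) * g * (b : G)⁻¹ = b0 * g * (b0 : G)⁻¹ := mul_right_cancel hg
        calc (b0 : G)⁻¹ * b * g = (b0 : G)⁻¹ * (b * g * (b : G)⁻¹) * b := by group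
          _ = (b0 : G)⁻¹ * (b0 * g * (b0 : G)⁻¹) * b := by rw [h1]
          _ = _ := by group
      exact hC _ (mul_mem (inv_mem b0.2) b.2) (aux g1 e1) (aux g2 e2)
    intro b hb c hc hbc
    have hb' := key b (Finset.mem_filter.1 hb).2
    have hc' := key c (Finset.mem_filter.1 hc).2
    simp only [hb', hc', dif_pos] at hbc
    have h1 : (b0 : G)⁻¹ * b = (b0 : G)⁻¹ * c := congrArg Subtype.val hbc
    exact Subtype.ext (mul_left_cancel h1)
  have h1 := Finset.card_le_mul_card_image (Finset.univ : Finset B) _ hfib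
  have h2 : ((Finset.univ : Finset B).image f).card ≤ Nat.card Z * Nat.card Z := by
    calc ((Finset.univ : Finset B).image f).card ≤ (Finset.univ : Finset (Z × Z)).card :=
          Finset.card_le_card (Finset.subset_univ _)
      _ = Nat.card Z * Nat.card Z := by
        rw [Finset.card_univ, Fintype.card_prod, Nat.card_eq_fintype_card]
  rw [Finset.card_univ, ← Nat.card_eq_fintype_card] at h1
  have h3 : Nat.card B ≤ Nat.card Z ^ 2 * Nat.card Z0 := by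
    calc Nat.card B ≤ _ := h1
      _ ≤ Nat.card Z0 * (Nat.card Z * Nat.card Z) := Nat.mul_le_mul_left _ h2
      _ = _ := by ring
  omega

theorem Heis.eight_le_wt [Finite G] [Finite X] (h : Heis x Q Z) {Z0 : Subgroup G}
    (hcen : ∀ g ∈ Q, (∀ a ∈ Q, g * a = a * g) → g ∈ Z0)
    (hbig : 8 * (Nat.card Z ^ 2 * Nat.card Z0) ≤ Nat.card Q) {ω : X}
    (hSZ : ∀ z ∈ Z, z ∈ stabilizer G ω → z = 1) : 8 ≤ wt Q Z ω := by
  obtain ⟨S, hS⟩ : ∃ S : Subgroup G, S = Q ⊓ stabilizer G ω := ⟨_, rfl⟩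
  have hSQ : S ≤ Q := by rw [hS]; exact inf_le_left
  have hcard := h.eight_le hcen hbig (S := S) (hS := hSQ) (fun z hz hzS => by
    rw [hS] at hzS
    exact hSZ z hz hzS.2)
  have h2 := card_orbit_mul (T := Q) hS hSQ le_rfl
  have h3 := card_orbit_mul (T := SZ h S hSQ) hS le_SZ SZ_le
  rw [orbit_SZ (by rw [hS]; exact inf_le_right)] at h3
  rw [← h2, ← h3] at hcard
  have h4 : 8 * (orbit Z ω).ncard ≤ (orbit Q ω).ncard := by
    have h5 : 0 < Nat.card S := Nat.card_pos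
    apply Nat.le_of_mul_le_mul_right _ h5
    calc 8 * (orbit Z ω).ncard * Nat.card S = 8 * ((orbit Z ω).ncard * Nat.card S) := by ring
      _ ≤ _ := hcard
  rw [wt, le_div_iff₀ (by exact_mod_cast orbit_ncard_pos Z ω)]
  exact_mod_cast h4

theorem one_le_wt [Finite X] (hZQ : Z ≤ Q) (ω : X) : 1 ≤ wt Q Z ω := by
  rw [wt, le_div_iff₀ (by exact_mod_cast orbit_ncard_pos Z ω), one_mul]
  have : (orbit Z ω).ncard ≤ (orbit Q ω).ncard := by
    apply Set.ncard_le_ncard _ (Set.toFinite _)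
    rintro _ ⟨z, rfl⟩
    exact ⟨⟨z, hZQ z.2⟩, rfl⟩
  exact_mod_cast this

end

theorem stabilizer_ne_top' {G : Type*} [Group G] {H : Subgroup G} (hH : H ≠ ⊤) (z : G ⧸ H) :
    stabilizer G z ≠ ⊤ := by
  intro hz
  apply hH
  obtain ⟨g, rfl⟩ := QuotientGroup.mk_surjective z
  rw [eq_top_iff]
  intro h _
  have h1 : g * h * g⁻¹ ∈ stabilizer G ((g : G) : G ⧸ H) := by rw [hz]; trivial
  have h2 : (g * h * g⁻¹) • ((g : G) : G ⧸ H) = ((g : G) : G ⧸ H) := h1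
  have h3 : ((g * h * g⁻¹ * g : G) : G ⧸ H) = ((g : G) : G ⧸ H) := h2
  rw [inv_mul_cancel_right, eq_comm, QuotientGroup.eq] at h3
  have h4 : g⁻¹ * (g * h) = h := by group
  rwa [h4] at h3

/-- **The ratio `1 / 4` from two opposite Heisenberg radicals.** -/
theorem heis_quarter' {G : Type*} [Group G] [Finite G] {x : G} {Q1 Q2 Z1 Z2 W1 W2 : Subgroup G}
    {k : ℕ}
    (hx : x ^ 3 ^ k = 1) (h1 : Heis x Q1 Z1) (h2 : Heis x Q2 Z2)
    (hcomm1 : ∀ z ∈ Z1, ∃ a ∈ Q1, ∃ b ∈ Q1, z = a * b * a⁻¹ * b⁻¹)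
    (hcomm2 : ∀ z ∈ Z2, ∃ a ∈ Q2, ∃ b ∈ Q2, z = a * b * a⁻¹ * b⁻¹)
    (hcen1 : ∀ g ∈ Q1, (∀ a ∈ Q1, g * a = a * g) → g ∈ W1)
    (hcen2 : ∀ g ∈ Q2, (∀ a ∈ Q2, g * a = a * g) → g ∈ W2)
    (hbig1 : 8 * (Nat.card Z1 ^ 2 * Nat.card W1) ≤ Nat.card Q1)
    (hbig2 : 8 * (Nat.card Z2 ^ 2 * Nat.card W2) ≤ Nat.card Q2)
    (hg1 : ∀ H : Subgroup G, Q1 ≤ H → ∀ z ∈ Z2, z ≠ 1 → z ∈ H → H = ⊤)
    (hg2 : ∀ H : Subgroup G, Q2 ≤ H → ∀ z ∈ Z1, z ≠ 1 → z ∈ H → H = ⊤) : UGood 1 4 x := by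
  classical
  intro H hH
  have := Fintype.ofFinite (G ⧸ H)
  have a1 := h1.sum_wt (X := G ⧸ H)
  have a2 := h2.sum_wt (X := G ⧸ H)
  have hw : ∀ ω ∈ Finset.univ.filter (fun ω : G ⧸ H => x • ω = ω),
      (8 : ℚ) ≤ wt Q1 Z1 ω + wt Q2 Z2 ω := by
    intro ω hω
    have hxω : x • ω = ω := (Finset.mem_filter.1 hω).2
    have hst := stabilizer_ne_top' hH ω
    have w1 := one_le_wt h1.le ω
    have w2 := one_le_wt h2.le ω
    by_cases b1 : Q1 ≤ stabilizer G ω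
    · have := h2.eight_le_wt hcen2 hbig2 (ω := ω) (fun z hz hzH => by
        by_contra hz1
        exact hst (hg1 _ b1 z hz hz1 hzH))
      linarith
    · by_cases b2 : Q2 ≤ stabilizer G ω
      · have := h1.eight_le_wt hcen1 hbig1 (ω := ω) (fun z hz hzH => by
          by_contra hz1
          exact hst (hg2 _ b2 z hz hz1 hzH))
        linarith
      · have c1 := h1.four_le_wt hx hcomm1 hxω b1
        have c2 := h2.four_le_wt hx hcomm2 hxω b2
        linarith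
  have h3 := Finset.sum_le_sum hw
  rw [Finset.sum_add_distrib, Finset.sum_const, nsmul_eq_mul] at h3
  have h4 : (Finset.univ.filter (fun ω : G ⧸ H => x • ω = ω)).card =
      Nat.card (fixedBy (G ⧸ H) x) := by
    rw [Nat.card_coe_set_eq, Set.ncard_eq_toFinset_card']
    congr 1
    ext y
    simp [mem_fixedBy]
  rw [h4] at h3
  rw [← Nat.card_eq_fintype_card] at a1 a2
  have h5 : (Nat.card (fixedBy (G ⧸ H) x) : ℚ) * 8 ≤ 2 * (Nat.card (G ⧸ H) : ℚ) := by linarith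
  have h6 : Nat.card (fixedBy (G ⧸ H) x) * 8 ≤ 2 * Nat.card (G ⧸ H) := by exact_mod_cast h5
  omega

/-- The ratio `1 / 4` when `Z` is the whole centre. -/
theorem heis_quarter {G : Type*} [Group G] [Finite G] {x : G} {Q1 Q2 Z1 Z2 : Subgroup G} {k : ℕ}
    (hx : x ^ 3 ^ k = 1) (h1 : Heis x Q1 Z1) (h2 : Heis x Q2 Z2)
    (hcomm1 : ∀ z ∈ Z1, ∃ a ∈ Q1, ∃ b ∈ Q1, z = a * b * a⁻¹ * b⁻¹)
    (hcomm2 : ∀ z ∈ Z2, ∃ a ∈ Q2, ∃ b ∈ Q2, z = a * b * a⁻¹ * b⁻¹)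
    (hcen1 : ∀ g ∈ Q1, (∀ a ∈ Q1, g * a = a * g) → g ∈ Z1)
    (hcen2 : ∀ g ∈ Q2, (∀ a ∈ Q2, g * a = a * g) → g ∈ Z2)
    (hbig1 : 8 * Nat.card Z1 ^ 3 ≤ Nat.card Q1) (hbig2 : 8 * Nat.card Z2 ^ 3 ≤ Nat.card Q2)
    (hg1 : ∀ H : Subgroup G, Q1 ≤ H → ∀ z ∈ Z2, z ≠ 1 → z ∈ H → H = ⊤)
    (hg2 : ∀ H : Subgroup G, Q2 ≤ H → ∀ z ∈ Z1, z ≠ 1 → z ∈ H → H = ⊤) : UGood 1 4 x :=
  heis_quarter' hx h1 h2 hcomm1 hcomm2 hcen1 hcen2 (by rw [← pow_succ]; exact hbig1)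
    (by rw [← pow_succ]; exact hbig2) hg1 hg2

end Cfsg.Agent.H452.FprHeis
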