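import Mathlib
import Cfsg.Agent.H452.TopN
import Cfsg.Agent.H452.MinAct
import Cfsg.Agent.H452.Ext
import Cfsg.Agent.Lib.CoprimeHyperplane

/-!
# Height of `⁅G, D⁆` at most two from the three-step property `T3`

`T3 p PP` : if `A` acts without fixed points on the `r`-group `P`, the `s`-group `Q` (`P` normalises `Q`) and on
the module `V`, then `⁅P, D⁆` commutes with `Q` on `V`. Then `⁅G, D⁆` has a nilpotent subgroup `N`, normal in the
whole group, with nilpotent quotient (`height_two`).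
-/

set_option autoImplicit false

namespace Cfsg.Agent.H452.TopH2

open Module
open scoped commutatorElement
open Cfsg.Agent.Lib.CoprimeCommutator
open Cfsg.Agent.H452.Base Cfsg.Agent.H452.TopN Cfsg.Agent.H452.MinAct Cfsg.Agent.H452.Ext

universe u

/-- The three-step property. -/
def T3 (p : ℕ) (PP : Pr.{u}) : Prop :=
  ∀ (Γ : Type u) [Group Γ] [Finite Γ] (A D P Q : Subgroup Γ) (r s : ℕ) (F : Type) [Field F]
    [IsAlgClosed F] (V : Type u) [AddCommGroup V] [Module F V] [FiniteDimensional F V]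
    (ρ : Representation F Γ V),
    PP Γ A D → IsPGroup p A → r.Prime → s.Prime → r ≠ p → s ≠ p → r ≠ s → IsPGroup r P →
    IsPGroup s Q → A ≤ Subgroup.normalizer (P : Set Γ) → A ≤ Subgroup.normalizer (Q : Set Γ) →
    P ≤ Subgroup.normalizer (Q : Set Γ) →
    (∀ x ∈ P, (∀ a ∈ A, a * x = x * a) → x = 1) → (∀ x ∈ Q, (∀ a ∈ A, a * x = x * a) → x = 1) →
    (p : F) ≠ 0 → (s : F) ≠ 0 → (∀ v, (∀ a ∈ A, ρ a v = v) → v = 0) →
    ∀ u ∈ (⁅P, D⁆ : Subgroup Γ), ∀ y ∈ Q, ρ (u * y) = ρ (y * u)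

theorem chief_commutator_le {Γ : Type*} [Group Γ] {U V H U₀ X : Subgroup Γ} (h : Chief U V)
    (hH : H.Normal) (hU : U ≤ V ⊔ U₀) (hU₀U : U₀ ≤ U) (hU₀H : U₀ ≤ H) {k : ℕ}
    (hX : H.lowerCentralSeries k ≤ X) (hUX : U ⊓ X ≤ V) : ⁅U, H⁆ ≤ V := by
  obtain ⟨hUn, hVn, hlt, hch⟩ := h
  by_contra hcon
  have hUH : ⁅U, H⁆ ≤ U := Subgroup.commutator_le_left U H
  have hkey : V ⊔ ⁅U, H⁆ = U := by
    rcases hch (V ⊔ ⁅U, H⁆) inferInstance le_sup_left (sup_le hlt.le hUH) with h1 | h1
    · exfalso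
      apply hcon
      rw [← h1]; exact le_sup_right
    · exact h1
  have hstep : ∀ Y : Subgroup Γ, U ≤ V ⊔ Y → U ≤ V ⊔ ⁅Y, H⁆ := by
    intro Y hY
    conv_lhs => rw [← hkey]
    refine sup_le le_sup_left ?_
    rw [Subgroup.commutator_le]
    intro g hg x hx
    obtain ⟨v, hv, y, hy, rfl⟩ := Subgroup.mem_sup_of_normal_left.1 (hY hg)
    have h1 : ⁅v * y, x⁆ = v * ⁅y, x⁆ * (x * v⁻¹ * x⁻¹) := by
      rw [commutatorElement_def, commutatorElement_def]; group
    rw [h1]
    refine Subgroup.mul_mem _ (Subgroup.mul_mem _ (Subgroup.mem_sup_left hv) ?_) ?_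
    · exact Subgroup.mem_sup_right (Subgroup.commutator_mem_commutator hy hx)
    · exact Subgroup.mem_sup_left (hVn.conj_mem _ (V.inv_mem hv) x)
  have hall : ∀ n : ℕ, ∃ Y : Subgroup Γ, Y ≤ U ∧ Y ≤ H.lowerCentralSeries n ∧ U ≤ V ⊔ Y := by
    intro n
    induction n with
    | zero => exact ⟨U₀, hU₀U, hU₀H, hU⟩
    | succ n ih =>
      obtain ⟨Y, h1, h2, h3⟩ := ih
      refine ⟨⁅Y, H⁆, (Subgroup.commutator_mono h1 le_rfl).trans hUH, ?_, hstep Y h3⟩
      rw [Subgroup.lowerCentralSeries_succ]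
      exact Subgroup.commutator_mono h2 le_rfl
  obtain ⟨Y, h1, h2, h3⟩ := hall k
  have h4 : Y ≤ V := (le_inf h1 (h2.trans hX)).trans hUX
  rw [sup_eq_left.2 h4] at h3
  exact hlt.not_ge h3

theorem isNilpotent_of_le {Γ : Type*} [Group Γ] {H K : Subgroup Γ} (h : H ≤ K)
    (hK : Group.IsNilpotent K) : Group.IsNilpotent H := by
  rw [Subgroup.isNilpotent_iff_lowerCentralSeries] at hK ⊢
  obtain ⟨k, hk⟩ := hK
  refine ⟨k, ?_⟩
  rw [eq_bot_iff, ← hk]
  exact lcs_mono h k

theorem mem_of_coprime_pow {Γ : Type*} [Group Γ] {V : Subgroup Γ} {x : Γ} {a b : ℕ}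
    (ha : x ^ a ∈ V) (hb : x ^ b ∈ V) (hab : a.Coprime b) : x ∈ V := by
  have h1 : ((a : ℤ) * a.gcdA b + b * a.gcdB b) = 1 := by
    rw [← Nat.gcd_eq_gcd_ab, hab, Nat.cast_one]
  have h2 : x = (x ^ a) ^ (a.gcdA b) * (x ^ b) ^ (a.gcdB b) := by
    rw [← zpow_natCast, ← zpow_natCast, ← zpow_mul, ← zpow_mul, ← zpow_add, h1, zpow_one]
  rw [h2]
  exact V.mul_mem (V.zpow_mem ha _) (V.zpow_mem hb _)

theorem extH {p : ℕ} [hp : Fact p.Prime] {PP : Pr.{u}} (hc : Closed p PP) (hT : T3 p PP)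
    {Γ : Type u} [Group Γ] [Finite Γ] {G A D : Subgroup Γ} (h : Cfg p G A) (hP : PP Γ A D)
    {W : Type u} [CommGroup W] [Finite W] [Nontrivial W] {q : ℕ} [hq : Fact q.Prime]
    (hqp : q ≠ p) (hW : ∀ w : W, w ^ q = 1) (κ : Γ →* MulAut W)
    (hfix : ∀ w, (∀ a ∈ A, κ a w = w) → w = 1)
    (hirr : ∀ X : Subgroup W, (∀ g, ∀ x ∈ X, κ g x ∈ X) → X = ⊥ ∨ X = ⊤)
    (hfaith : ∀ g ∈ G, κ g = 1 → g = 1) (M : Subgroup Γ) (hM : M.Normal)
    (hML : M ≤ (⁅G, D⁆ : Subgroup Γ)) (hMn : Group.IsNilpotent M)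
    (hLM : ∃ k, (⁅G, D⁆ : Subgroup Γ).lowerCentralSeries k ≤ M) :
    Group.IsNilpotent (⁅G, D⁆ : Subgroup Γ) := by
  have hDA := hc.le Γ A D hP
  have hL : (⁅G, D⁆ : Subgroup Γ).Normal := h.commutator_normal (hc.norm Γ A D hP)
  have hLL := h.commutator_commutator hDA
  set L : Subgroup Γ := ⁅G, D⁆ with hLdef
  have hLG : L ≤ G := commutator_le_left (h.le_normalizer D)
  have hqA : ¬ q ∣ Nat.card A := by
    intro hd
    obtain ⟨k, hk⟩ := IsPGroup.iff_card.1 h.isp
    rw [hk] at hd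
    exact hqp ((Nat.prime_dvd_prime_iff_eq hq.out hp.out).1 (hq.out.dvd_of_dvd_pow hd))
  obtain ⟨F, _, _, V, _, _, _, ρ, hF, hρ, hρfix⟩ := exists_rep q hW κ A hqA hfix
  apply isNilpotent_of_chief L hL
  intro U V₁ hUV hUL
  have hUn := hUV.1
  have hVn := hUV.2.1
  have hVU : V₁ ≤ U := hUV.2.2.1.le
  obtain ⟨k, hk⟩ := hLM
  by_cases hA : U ⊓ M ≤ V₁
  · exact chief_commutator_le hUV hL le_sup_right le_rfl hUL hk hA
  have hUM : V₁ ⊔ (U ⊓ M) = U := by
    rcases hUV.2.2.2 (V₁ ⊔ (U ⊓ M)) inferInstance le_sup_left (sup_le hVU inf_le_left) with h1 | h1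
    · exfalso; apply hA; rw [← h1]; exact le_sup_right
    · exact h1
  have hVG : V₁ ≤ G := hVU.trans (hUL.trans hLG)
  -- the minimal normal subgroup of `Γ ⧸ V₁`
  have h1 := h.map V₁ hVG
  have hmin := hUV.isMin
  set W₁ : Subgroup (Γ ⧸ V₁) := U.map (QuotientGroup.mk' V₁) with hW₁
  have hW₁G : W₁ ≤ G.map (QuotientGroup.mk' V₁) := Subgroup.map_mono (hUL.trans hLG)
  have hGs := h1.sol
  have hWs : Group.IsSolvable W₁ :=
    Group.isSolvable_of_isSolvable_injective (f := Subgroup.inclusion hW₁G)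
      (Subgroup.inclusion_injective hW₁G)
  obtain ⟨hcomm, s, hs, hWq⟩ := hmin.elementary hWs
  have hsf : Fact s.Prime := ⟨hs⟩
  have hW₁n : W₁.Normal := hmin.1
  have hUs : ∀ x ∈ U, x ^ s ∈ V₁ := by
    intro x hx
    have h2 := hWq (QuotientGroup.mk' V₁ x) ⟨x, hx, rfl⟩
    rw [← map_pow] at h2
    exact (QuotientGroup.eq_one_iff _).1 h2
  have hL₁n : (L.map (QuotientGroup.mk' V₁)).Normal := hL.map _ (QuotientGroup.mk'_surjective V₁)
  have hcn : (Subgroup.centralizer (W₁ : Set (Γ ⧸ V₁))).Normal := inferInstance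
  -- the quotient acting on `W₁`
  let C₁ : Subgroup (Γ ⧸ V₁) := L.map (QuotientGroup.mk' V₁) ⊓ Subgroup.centralizer (W₁ : Set (Γ ⧸ V₁))
  have hC₁n : C₁.Normal := inferInstance
  let φ : Γ →* (Γ ⧸ V₁) ⧸ C₁ := (QuotientGroup.mk' C₁).comp (QuotientGroup.mk' V₁)
  have hφs : Function.Surjective φ :=
    (QuotientGroup.mk'_surjective C₁).comp (QuotientGroup.mk'_surjective V₁)
  have hφker : ∀ g ∈ L, (∀ y ∈ U, y * g * y⁻¹ * g⁻¹ ∈ V₁) → φ g = 1 := by
    intro g hg hy
    refine (QuotientGroup.eq_one_iff _).2 ⟨⟨g, hg, rfl⟩, Subgroup.mem_centralizer_iff.2 ?_⟩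
    rintro _ ⟨y, hyU, rfl⟩
    have h2 := (QuotientGroup.eq_one_iff _).2 (hy y hyU)
    have h3 : QuotientGroup.mk' V₁ (y * g * y⁻¹ * g⁻¹) = 1 := h2
    rw [map_mul, map_mul, map_mul, map_inv, map_inv, mul_inv_eq_one, mul_inv_eq_iff_eq_mul] at h3
    exact h3
  have hφker' : ∀ g ∈ L, φ g = 1 → ∀ y ∈ U, y * g * y⁻¹ * g⁻¹ ∈ V₁ := by
    intro g hg hg1 y hy
    have h2 := (QuotientGroup.eq_one_iff _).1 hg1
    have h3 := Subgroup.mem_centralizer_iff.1 h2.2 _ ⟨y, hy, rfl⟩
    refine (QuotientGroup.eq_one_iff _).1 ?_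
    show QuotientGroup.mk' V₁ (y * g * y⁻¹ * g⁻¹) = 1
    rw [map_mul, map_mul, map_mul, map_inv, map_inv, h3, mul_inv_cancel_right, mul_inv_cancel]
  set L₂ : Subgroup ((Γ ⧸ V₁) ⧸ C₁) := L.map φ with hL₂
  have hL₂n : L₂.Normal := hL.map _ hφs
  -- `M` centralises `U / V₁`
  have hMU : ⁅U, M⁆ ≤ V₁ := by
    rw [Subgroup.isNilpotent_iff_lowerCentralSeries] at hMn
    obtain ⟨j, hj⟩ := hMn
    exact chief_commutator_le (U₀ := U ⊓ M) (X := ⊥) hUV hM hUM.ge inf_le_left inf_le_right hj.le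
      (by rw [inf_bot_eq]; exact bot_le)
  have hMφ : M.map φ = ⊥ := by
    rw [eq_bot_iff]
    rintro _ ⟨m, hm, rfl⟩
    rw [Subgroup.mem_bot]
    apply hφker m (hML hm)
    intro y hy
    have := hMU (Subgroup.commutator_mem_commutator hy hm)
    rwa [commutatorElement_def] at this
  have hL₂nil : Group.IsNilpotent L₂ := by
    rw [Subgroup.isNilpotent_iff_lowerCentralSeries]
    refine ⟨k, ?_⟩
    rw [hL₂, ← Subgroup.map_lowerCentralSeries, eq_bot_iff, ← hMφ]
    exact Subgroup.map_mono hk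
  -- the action on `W₁`
  let cg : CommGroup W₁ :=
    { (inferInstance : Group W₁) with mul_comm := fun a b => Subtype.ext (hcomm a a.2 b b.2) }
  have hnt : Nontrivial W₁ := (Subgroup.nontrivial_iff_ne_bot W₁).2 hmin.2.1
  have hker : ∀ g ∈ C₁, MulAut.conjNormal (H := W₁) g = 1 := by
    intro g hg
    have hg' := Subgroup.mem_centralizer_iff.1 hg.2
    ext w
    rw [MulAut.conjNormal_apply, ← hg' w w.2, mul_inv_cancel_right]
    rfl
  let κ₂ : (Γ ⧸ V₁) ⧸ C₁ →* MulAut W₁ := QuotientGroup.lift _ (MulAut.conjNormal (H := W₁)) hker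
  have hκ₂ : ∀ g : Γ ⧸ V₁, ∀ w : W₁, ((κ₂ (QuotientGroup.mk' _ g) w : W₁) : Γ ⧸ V₁) = g * w * g⁻¹ :=
    fun g w => MulAut.conjNormal_apply g w
  have hirr₂ : ∀ X : Subgroup W₁, (∀ g, ∀ x ∈ X, κ₂ g x ∈ X) → X = ⊥ ∨ X = ⊤ := by
    intro X hX
    have hXn : (X.map W₁.subtype).Normal := by
      constructor
      rintro _ ⟨x, hx, rfl⟩ g
      exact ⟨κ₂ (QuotientGroup.mk' _ g) x, hX _ x hx, hκ₂ g x⟩
    rcases hmin.2.2 _ hXn (Subgroup.map_subtype_le X) with h1 | h1
    · left
      exact (Subgroup.map_eq_bot_iff_of_injective _ W₁.subtype_injective).1 h1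
    · right
      apply Subgroup.map_injective W₁.subtype_injective
      rw [h1, ← MonoidHom.range_eq_map, Subgroup.range_subtype]
  -- it suffices that `D` centralises `L₂`
  have hD₂ : ∀ x ∈ L₂, ∀ d ∈ D, x * φ d = φ d * x := by
    let X₂ : Subgroup ((Γ ⧸ V₁) ⧸ C₁) := L₂ ⊓ Subgroup.centralizer (D.map φ : Set ((Γ ⧸ V₁) ⧸ C₁))
    have hX₂ : X₂ = L₂ := by
      apply eq_of_sylow_le inf_le_left
      intro r hr
      have hrf : Fact r.Prime := ⟨hr⟩
      by_cases hrs : r = s
      · subst hrs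
        obtain ⟨T⟩ : Nonempty (Sylow r L₂) := inferInstance
        refine ⟨T, ?_⟩
        have hTn := sylow_map_normal hL₂n hL₂nil T
        have hTp : IsPGroup r ((T : Subgroup L₂).map L₂.subtype) := T.isPGroup'.map _
        have h5 := trivial_of_isPGroup (fun w => Subtype.ext (hWq w w.2)) κ₂ hirr₂ _ hTp
        intro x hx
        have h6 := h5 x hx
        have h7 : x ∈ L₂ := Subgroup.map_subtype_le _ hx
        obtain ⟨g, hg, rfl⟩ := h7
        have h8 : φ g = 1 := by
          refine (QuotientGroup.eq_one_iff _).2 ⟨⟨g, hg, rfl⟩, Subgroup.mem_centralizer_iff.2 ?_⟩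
          intro w hw
          have h9 := congrArg Subtype.val (DFunLike.congr_fun h6 (⟨w, hw⟩ : W₁))
          have h10 : (κ₂ (QuotientGroup.mk' _ (QuotientGroup.mk' V₁ g)) (⟨w, hw⟩ : W₁) : Γ ⧸ V₁) = w := h9
          rw [hκ₂] at h10
          exact (mul_inv_eq_iff_eq_mul.1 h10).symm
        rw [h8]
        exact Subgroup.one_mem _
      · obtain ⟨T, hAT⟩ := Cfsg.Agent.Lib.CoprimeHyperplane.exists_invariant_sylow (A := A) (Q := L)
          h.isp (by rw [Subgroup.normalizer_eq_top_iff.2 hL]; exact le_top)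
          (fun hd => h.ndvd (hd.trans (Subgroup.card_dvd_of_le hLG))) r
        set P₀ : Subgroup Γ := (T : Subgroup L).map L.subtype with hP₀
        have hP₀L : P₀ ≤ L := Subgroup.map_subtype_le _
        have hP₀p : IsPGroup r P₀ := T.isPGroup'.map _
        refine ⟨T.mapSurjective (f := φ.subgroupMap L) (φ.subgroupMap_surjective L), ?_⟩
        have hTe : ((T.mapSurjective (f := φ.subgroupMap L) (φ.subgroupMap_surjective L) :
            Sylow r L₂) : Subgroup L₂).map L₂.subtype = P₀.map φ := by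
          rw [Sylow.coe_mapSurjective, Subgroup.map_map, hP₀, Subgroup.map_map]
          rfl
        rw [hTe]
        refine le_inf (Subgroup.map_mono hP₀L) ?_
        rintro _ ⟨x, hx, rfl⟩
        rw [Subgroup.mem_centralizer_iff]
        rintro _ ⟨d, hd, rfl⟩
        -- elements of `⁅P₀, D⁆` centralise `U / V₁`
        by_cases hrp : r = p
        · subst hrp
          have h3 := eq_bot_of_isPGroup hP₀p (fun hd => h.ndvd
            (hd.trans (Subgroup.card_dvd_of_le (hP₀L.trans hLG))))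
          rw [h3] at hx
          have hx1 : x = 1 := Subgroup.mem_bot.1 hx
          rw [hx1, map_one, one_mul, mul_one]
        have hu : ∀ u ∈ (⁅P₀, D⁆ : Subgroup Γ), ∀ y ∈ U, y * u * y⁻¹ * u⁻¹ ∈ V₁ := by
          intro u hu
          have huG : u ∈ G := (hP₀L.trans hLG) (commutator_le_left (hDA.trans hAT) hu)
          let Y : Subgroup Γ := (U ⊓ M) ⊓ (Subgroup.centralizer ({QuotientGroup.mk' V₁ u} :
            Set (Γ ⧸ V₁))).comap (QuotientGroup.mk' V₁)
          have hY : Y = U ⊓ M := by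
            apply eq_of_sylow_le inf_le_left
            intro t ht
            have htf : Fact t.Prime := ⟨ht⟩
            obtain ⟨R⟩ : Nonempty (Sylow t (U ⊓ M : Subgroup Γ)) := inferInstance
            refine ⟨R, ?_⟩
            have hUMnil : Group.IsNilpotent (U ⊓ M : Subgroup Γ) :=
              isNilpotent_of_le (inf_le_right : U ⊓ M ≤ M) hMn
            have hRn := sylow_map_normal (L := U ⊓ M) inferInstance hUMnil R
            have hRp : IsPGroup t ((R : Subgroup (U ⊓ M : Subgroup Γ)).map (U ⊓ M).subtype) :=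
              R.isPGroup'.map _
            have hRUM : (R : Subgroup (U ⊓ M : Subgroup Γ)).map (U ⊓ M).subtype ≤ U ⊓ M :=
              Subgroup.map_subtype_le _
            have hRG : (R : Subgroup (U ⊓ M : Subgroup Γ)).map (U ⊓ M).subtype ≤ G :=
              hRUM.trans (inf_le_left.trans (hUL.trans hLG))
            set R₀ : Subgroup Γ := (R : Subgroup (U ⊓ M : Subgroup Γ)).map (U ⊓ M).subtype
            refine le_inf hRUM ?_
            intro y hy
            rw [Subgroup.mem_comap, Subgroup.mem_centralizer_iff]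
            intro u' hu'
            rw [Set.mem_singleton_iff.1 hu']
            by_cases htr : t = r
            · -- `y ∈ V₁`
              have h3 : y ∈ V₁ := by
                obtain ⟨j, hj⟩ := hRp ⟨y, hy⟩
                have hj' : y ^ t ^ j = 1 := congrArg Subtype.val hj
                refine mem_of_coprime_pow (hUs y (hRUM hy).1) (b := t ^ j)
                  (by rw [hj']; exact V₁.one_mem) ?_
                exact Nat.Coprime.pow_right j ((Nat.coprime_primes hs ht).2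
                  (fun hst => hrs (by rw [← htr, hst])))
              have h4 : QuotientGroup.mk' V₁ y = 1 := (QuotientGroup.eq_one_iff _).2 h3
              rw [h4, one_mul, mul_one]
            by_cases htp : t = p
            · subst htp
              have h3 := eq_bot_of_isPGroup hRp (fun hd => h.ndvd
                (hd.trans (Subgroup.card_dvd_of_le hRG)))
              rw [h3, Subgroup.mem_bot] at hy
              rw [hy, map_one, one_mul, mul_one]
            by_cases htq : t = q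
            · subst htq
              have h3 := trivial_of_isPGroup hW κ hirr _ hRp y hy
              have h4 := hfaith y (hRG hy) h3
              rw [h4, map_one, one_mul, mul_one]
            have h4 := hT Γ A D P₀ R₀ r t F V ρ hP h.isp hr ht hrp htp (fun h5 => htr h5.symm)
              hP₀p hRp hAT (by rw [Subgroup.normalizer_eq_top_iff.2 hRn]; exact le_top)
              (by rw [Subgroup.normalizer_eq_top_iff.2 hRn]; exact le_top)
              (fun x hx => h.fix x ((hP₀L.trans hLG) hx)) (fun x hx => h.fix x (hRG hx))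
              (hF p (fun hd => hqp ((Nat.prime_dvd_prime_iff_eq hq.out hp.out).1 hd)))
              (hF t (fun hd => htq ((Nat.prime_dvd_prime_iff_eq hq.out ht).1 hd).symm)) hρfix u hu y hy
            have h5 := hρ _ _ h4
            have h6 : κ (u * y * u⁻¹ * y⁻¹) = 1 := by
              have h7 : u * y * u⁻¹ * y⁻¹ = (u * y) * (y * u)⁻¹ := by group
              rw [h7, map_mul, map_inv, h5, mul_inv_cancel]
            have h8 : u * y * u⁻¹ * y⁻¹ ∈ G :=
              G.mul_mem (G.mul_mem (G.mul_mem huG (hRG hy)) (G.inv_mem huG)) (G.inv_mem (hRG hy))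
            have h10 := hfaith _ h8 h6
            have h11 : u * y = (u * y * u⁻¹ * y⁻¹) * (y * u) := by group
            rw [h10, one_mul] at h11
            rw [← map_mul, ← map_mul, h11]
          intro y hy
          rw [← hUM] at hy
          obtain ⟨v, hv, y', hy', rfl⟩ := Subgroup.mem_sup_of_normal_left.1 hy
          rw [← hY] at hy'
          have h12 := Subgroup.mem_centralizer_iff.1 (Subgroup.mem_comap.1 hy'.2) _ rfl
          refine (QuotientGroup.eq_one_iff _).1 ?_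
          show QuotientGroup.mk' V₁ (v * y' * u * (v * y')⁻¹ * u⁻¹) = 1
          have h13 : QuotientGroup.mk' V₁ v = 1 := (QuotientGroup.eq_one_iff _).2 hv
          rw [map_mul, map_mul, map_mul, map_mul, map_inv, map_inv, map_mul, h13, one_mul, ← h12,
            mul_inv_cancel_right, mul_inv_cancel]
        have h14 : φ ⁅x, d⁆ = 1 :=
          hφker _ (hP₀L (commutator_le_left (hDA.trans hAT) (Subgroup.commutator_mem_commutator hx hd)))
            (hu _ (Subgroup.commutator_mem_commutator hx hd))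
        rw [map_commutatorElement, commutatorElement_eq_one_iff_mul_comm] at h14
        exact h14.symm
    intro x hx d hd
    rw [← hX₂] at hx
    exact ((Subgroup.mem_centralizer_iff.1 hx.2) _ ⟨d, hd, rfl⟩).symm
  have hL₂bot : L₂ = ⊥ := by
    rw [hL₂, ← hLL, Subgroup.map_commutator, MinAct.commutator_eq_bot_iff]
    rintro x hx _ ⟨d, hd, rfl⟩
    exact hD₂ x hx d hd
  rw [Subgroup.commutator_le]
  intro y hy g hg
  rw [commutatorElement_def]
  apply hφker' g hg _ y hy
  have h15 : φ g ∈ L₂ := ⟨g, hg, rfl⟩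
  rw [hL₂bot] at h15
  exact Subgroup.mem_bot.1 h15

/-- **Height at most two of `⁅G, D⁆`** from the three-step property. -/
theorem height_two {p : ℕ} [hp : Fact p.Prime] {PP : Pr.{u}} (hc : Closed p PP)
    (hT : T3 p PP) : ∀ n : ℕ, ∀ (Γ : Type u) [Group Γ] [Finite Γ] (G A D : Subgroup Γ),
    Nat.card G = n → Cfg p G A → PP Γ A D → ∃ N : Subgroup Γ, N.Normal ∧
      N ≤ (⁅G, D⁆ : Subgroup Γ) ∧ Group.IsNilpotent N ∧
      ∃ k, (⁅G, D⁆ : Subgroup Γ).lowerCentralSeries k ≤ N := by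
  intro n
  induction n using Nat.strong_induction_on with
  | _ n ih =>
  intro Γ _ _ G A D hn h hP
  have hL : (⁅G, D⁆ : Subgroup Γ).Normal := h.commutator_normal (hc.norm Γ A D hP)
  have hLG : (⁅G, D⁆ : Subgroup Γ) ≤ G := commutator_le_left (h.le_normalizer D)
  have hkey : ∀ U V : Subgroup Γ, Chief U V → U ≤ (⁅G, D⁆ : Subgroup Γ) →
      ∃ k, ⁅U, (⁅G, D⁆ : Subgroup Γ).lowerCentralSeries k⁆ ≤ V := by
    intro U V hUV hUL
    have hVn := hUV.2.1
    have hVG : V ≤ G := hUV.2.2.1.le.trans (hUL.trans hLG)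
    have hpV : ¬ p ∣ Nat.card V := fun hd => h.ndvd (hd.trans (Subgroup.card_dvd_of_le hVG))
    have h' := h.map V hVG
    have hP' := hc.quot Γ A D V hpV hP
    have hmin := hUV.isMin
    have hWG : U.map (QuotientGroup.mk' V) ≤ G.map (QuotientGroup.mk' V) :=
      Subgroup.map_mono (hUL.trans hLG)
    obtain ⟨K, hKn, hWK, hKG, hKC, W', _, _, _, q, _, κ, hqp, hWq, hfix, hirr, hfaith⟩ :=
      min_quot h' hmin hWG
    have h'' := h'.map K hKG
    have hpK : ¬ p ∣ Nat.card K := fun hd => h'.ndvd (hd.trans (Subgroup.card_dvd_of_le hKG))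
    have hP'' := hc.quot _ _ _ K hpK hP'
    have hlt : Nat.card ((G.map (QuotientGroup.mk' V)).map (QuotientGroup.mk' K)) < n := by
      have h1 : Nat.card (G.map (QuotientGroup.mk' V)) ≤ n := by
        rw [← hn]
        exact Nat.le_of_dvd Nat.card_pos (Subgroup.card_map_dvd G _)
      refine lt_of_lt_of_le ?_ h1
      refine lt_of_le_of_ne (Nat.le_of_dvd Nat.card_pos (Subgroup.card_map_dvd _ _)) ?_
      intro heq
      have hsurj := (QuotientGroup.mk' K).subgroupMap_surjective (G.map (QuotientGroup.mk' V))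
      have hinj : Function.Injective
          ((QuotientGroup.mk' K).subgroupMap (G.map (QuotientGroup.mk' V))) :=
        ((Nat.bijective_iff_surjective_and_card _).2 ⟨hsurj, heq.symm⟩).1
      apply hmin.2.1
      rw [eq_bot_iff]
      intro w hw
      have h3 : (QuotientGroup.mk' K).subgroupMap (G.map (QuotientGroup.mk' V)) ⟨w, hWG hw⟩ =
          (QuotientGroup.mk' K).subgroupMap (G.map (QuotientGroup.mk' V)) 1 := by
        apply Subtype.ext
        show QuotientGroup.mk' K w = QuotientGroup.mk' K 1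
        rw [map_one]
        exact (QuotientGroup.eq_one_iff w).2 (hWK hw)
      exact congrArg Subtype.val (hinj h3)
    obtain ⟨M, hMn, hML, hMnil, hMk⟩ := ih _ hlt _ _ _ _ rfl h'' hP''
    have hnil := extH hc hT h'' hP'' hqp hWq κ hfix hirr hfaith M hMn hML hMnil hMk
    rw [Subgroup.isNilpotent_iff_lowerCentralSeries] at hnil
    obtain ⟨k, hk⟩ := hnil
    refine ⟨k, ?_⟩
    rw [← Subgroup.map_commutator, ← Subgroup.map_commutator, ← Subgroup.map_lowerCentralSeries,
      ← Subgroup.map_lowerCentralSeries, Subgroup.map_eq_bot_iff, QuotientGroup.ker_mk'] at hk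
    have h5 : (⁅U, (⁅G, D⁆ : Subgroup Γ).lowerCentralSeries k⁆ : Subgroup Γ).map
        (QuotientGroup.mk' V) = ⊥ := by
      rw [Subgroup.map_commutator, Subgroup.commutator_comm,
        Subgroup.commutator_eq_bot_iff_le_centralizer]
      exact hk.trans hKC
    rw [Subgroup.map_eq_bot_iff, QuotientGroup.ker_mk'] at h5
    exact h5
  -- a common `k`
  have hkey' : ∃ k, ∀ U V : Subgroup Γ, Chief U V → U ≤ (⁅G, D⁆ : Subgroup Γ) →
      ⁅U, (⁅G, D⁆ : Subgroup Γ).lowerCentralSeries k⁆ ≤ V := by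
    classical
    have := Fintype.ofFinite (Subgroup Γ)
    let f : Subgroup Γ × Subgroup Γ → ℕ := fun x =>
      if hx : Chief x.1 x.2 ∧ x.1 ≤ (⁅G, D⁆ : Subgroup Γ) then (hkey x.1 x.2 hx.1 hx.2).choose else 0
    refine ⟨Finset.univ.sup f, ?_⟩
    intro U V hUV hUL
    have h1 : f (U, V) ≤ Finset.univ.sup f := Finset.le_sup (Finset.mem_univ _)
    have h2 : f (U, V) = (hkey U V hUV hUL).choose := dif_pos ⟨hUV, hUL⟩
    have h3 := (hkey U V hUV hUL).choose_spec
    rw [← h2] at h3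
    refine (Subgroup.commutator_mono le_rfl ?_).trans h3
    exact Subgroup.lowerCentralSeries_antitone _ h1
  obtain ⟨k, hk⟩ := hkey'
  have hle : (⁅G, D⁆ : Subgroup Γ).lowerCentralSeries k ≤ (⁅G, D⁆ : Subgroup Γ) :=
    Subgroup.lowerCentralSeries_antitone _ (Nat.zero_le k)
  have hkn : ((⁅G, D⁆ : Subgroup Γ).lowerCentralSeries k).Normal := inferInstance
  refine ⟨(⁅G, D⁆ : Subgroup Γ).lowerCentralSeries k, hkn, hle, ?_, k, le_rfl⟩
  apply isNilpotent_of_chief _ hkn
  intro U V hUV hUN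
  exact hk U V hUV (hUN.trans hle)

end Cfsg.Agent.H452.TopH2
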