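import Mathlib
import Cfsg.Agent.H452.TopH2
import Cfsg.Agent.H452.Ext

/-!
# External form of `height_two`
-/

set_option autoImplicit false

namespace Cfsg.Agent.H452.ExtTwo

open SemidirectProduct
open Cfsg.Agent.Lib.CoprimeCommutator
open Cfsg.Agent.H452.Base Cfsg.Agent.H452.TopN Cfsg.Agent.H452.MinAct Cfsg.Agent.H452.Ext
open Cfsg.Agent.H452.TopH2

universe u

variable {G : Type u} [Group G] [Finite G]

/-- External form of `height_two`. -/
theorem h2_ext {p : ℕ} [Fact p.Prime] {PP : Pr.{u}} (hc : Closed p PP) (hT : T3 p PP)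
    (hG : Group.IsSolvable G) (A D : Subgroup (MulAut G)) (hDA : D ≤ A) (hA : IsPGroup p A)
    (hfpf : ∀ g : G, (∀ a ∈ A, a g = g) → g = 1)
    (hPP : PP (G ⋊[A.subtype] A) (inr : A →* G ⋊[A.subtype] A).range
      ((D.subgroupOf A).map (inr : A →* G ⋊[A.subtype] A))) :
    ∃ N L : Subgroup G, N.Normal ∧ L.Normal ∧ N ≤ L ∧ Group.IsNilpotent N ∧
      (∃ k, L.lowerCentralSeries k ≤ N) ∧ (∀ a ∈ A, ∀ g ∈ L, a g ∈ L) ∧
      (∀ d ∈ D, ∀ g, d g * g⁻¹ ∈ L) ∧ (D = A → L = ⊤) := by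
  have hfin := finite_sd A
  have hcfg := cfg_sd hG A hA hfpf
  obtain ⟨N, hN, hNL, hNn, k, hk⟩ := height_two hc hT _ _ _ _ _ rfl hcfg hPP
  have hnorm : (⁅(inl : G →* G ⋊[A.subtype] A).range, (D.subgroupOf A).map inr⁆ :
      Subgroup (G ⋊[A.subtype] A)).Normal := hcfg.commutator_normal (hc.norm _ _ _ hPP)
  have hle : (⁅(inl : G →* G ⋊[A.subtype] A).range, (D.subgroupOf A).map inr⁆ :
      Subgroup (G ⋊[A.subtype] A)) ≤ (inl : G →* G ⋊[A.subtype] A).range :=
    commutator_le_left (hcfg.le_normalizer _)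
  refine ⟨N.comap inl, (⁅(inl : G →* G ⋊[A.subtype] A).range, (D.subgroupOf A).map inr⁆ :
      Subgroup (G ⋊[A.subtype] A)).comap inl, hN.comap _, hnorm.comap _,
      Subgroup.comap_mono hNL, ?_, ⟨k, comap_lcs hle hk⟩, ?_, ?_, ?_⟩
  · rw [Subgroup.isNilpotent_iff_lowerCentralSeries] at hNn ⊢
    obtain ⟨j, hj⟩ := hNn
    refine ⟨j, ?_⟩
    rw [eq_bot_iff]
    refine (comap_lcs (N := ⊥) (hNL.trans hle) hj.le).trans ?_
    intro x hx
    rw [Subgroup.mem_comap, Subgroup.mem_bot] at hx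
    rw [Subgroup.mem_bot]
    exact SemidirectProduct.inl_injective (by rw [hx, map_one])
  · intro a ha g hg
    exact comap_inl_inv hnorm ha hg
  · intro d hd g
    exact comap_inl_comm hDA hd g
  · rintro rfl
    rw [eq_top_iff]
    intro g _
    rw [Subgroup.mem_comap]
    have h1 : (D.subgroupOf D).map (inr : D →* G ⋊[D.subtype] D) =
        (inr : D →* G ⋊[D.subtype] D).range := by
      rw [Subgroup.subgroupOf_self, ← MonoidHom.range_eq_map]
    rw [h1]
    obtain ⟨m, hm, c, hc', hmc⟩ := exists_commutator_mul_fixed_of_isPGroup p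
      (inr : D →* G ⋊[D.subtype] D).range (inl : G →* G ⋊[D.subtype] D).range hcfg.isp
      (hcfg.le_normalizer _) hcfg.ndvd (inl g) ⟨g, rfl⟩
    have h2 : c = 1 := hcfg.fix c hc'.1 (fun a ha => (Subgroup.mem_centralizer_iff.1 hc'.2) a ha)
    rw [h2, mul_one] at hmc
    rw [hmc]
    exact hm

end Cfsg.Agent.H452.ExtTwo
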