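import Cfsg.Agent.H452.FprHeisC
import Cfsg.Agent.H398.FPR.FamEOne

/-!
# Elements of order `2 ^ k - 1` of `SL_k(2)` in the Chevalley groups
-/

set_option autoImplicit false

namespace Cfsg.Agent.H452.HeisC

open Cfsg.Lie Cfsg.Agent.ChevalleyStructure Cfsg.Agent.ChevalleyStructure.Elts Cfsg.Agent.H79.SimpleGen
open Cfsg.Agent.H398.FPR Cfsg.Agent.H441.FPR Cfsg.Agent.H452.HeisT Cfsg.Agent.H452.FprHeis
open Cfsg.Agent.TitsThree.KExcRT Cfsg.Agent.ChevalleyStructure.RootVec Cfsg.Agent.Nodes.RGDChev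
open Cfsg.Agent.H162.GaussExcMain Cfsg.Agent.KFacts.RgdChevCoord
open Subgroup

universe u

/-- transvections of a word -/
def tv {n : ℕ} (F : Type*) [Field F] (e : Fin n × Fin n) : Matrix.SpecialLinearGroup (Fin n) F :=
  if h : e.1 ≠ e.2 then Matrix.SpecialLinearGroup.transvection h 1 else 1

/-- the element of a word -/
def tw {n : ℕ} (F : Type*) [Field F] (wp : List (Fin n × Fin n)) : Matrix.SpecialLinearGroup (Fin n) F :=
  (wp.map (tv F)).prod

theorem map_tv {n : ℕ} {E F : Type*} [Field E] [Field F] (f : E →+* F) (e : Fin n × Fin n) :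
    Matrix.SpecialLinearGroup.map f (tv E e) = tv F e := by
  unfold tv
  split_ifs with h
  · apply Subtype.ext
    change f.mapMatrix (Matrix.transvection e.1 e.2 1) = Matrix.transvection e.1 e.2 1
    rw [Matrix.transvection, Matrix.transvection, map_add, map_one]
    congr 1
    rw [RingHom.mapMatrix_apply, Matrix.map_single _ _ _ f, map_one]
  · rw [map_one]

theorem map_tw {n : ℕ} {E F : Type*} [Field E] [Field F] (f : E →+* F) (wp : List (Fin n × Fin n)) :
    Matrix.SpecialLinearGroup.map f (tw E wp) = tw F wp := by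
  unfold tw
  rw [map_list_prod, List.map_map]
  congr 1
  apply List.map_congr_left
  intro e _
  exact map_tv f e

theorem tw_pow {n : ℕ} {wp : List (Fin n × Fin n)} {k : ℕ}
    {B : Fin (k + 1) → Matrix (Fin n) (Fin n) (ZMod 2)}
    (h0 : (wp.map fun e => if e.1 ≠ e.2 then Matrix.transvection e.1 e.2 (1 : ZMod 2) else 1).prod = B 0)
    (hB : ∀ i : Fin k, B i.castSucc * B i.castSucc = B i.succ)
    (hk : B (Fin.last k) = B 0) : tw (ZMod 2) wp ^ (2 ^ k - 1) = 1 := by
  have h1 : ((tw (ZMod 2) wp : Matrix.SpecialLinearGroup (Fin n) (ZMod 2)) :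
      Matrix (Fin n) (Fin n) (ZMod 2)) = B 0 := by
    rw [← h0]
    unfold tw
    clear h0
    induction wp with
    | nil => rfl
    | cons e wp ih =>
      rw [List.map_cons, List.prod_cons, List.map_cons, List.prod_cons, ← ih]
      change (tv (ZMod 2) e).1 * _ = _
      congr 1
      unfold tv
      split_ifs <;> rfl
  have h2 : ∀ i : ℕ, ∀ hi : i < k + 1, ((tw (ZMod 2) wp : Matrix.SpecialLinearGroup (Fin n) (ZMod 2)) :
      Matrix (Fin n) (Fin n) (ZMod 2)) ^ 2 ^ i = B ⟨i, hi⟩ := by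
    intro i
    induction i with
    | zero =>
      intro hi
      rw [pow_zero, pow_one]
      exact h1
    | succ i ih =>
      intro hi
      rw [pow_succ, pow_mul, ih (by omega), pow_two]
      exact hB ⟨i, by omega⟩
  have h3 : tw (ZMod 2) wp ^ 2 ^ k = tw (ZMod 2) wp := by
    apply Subtype.ext
    change ((tw (ZMod 2) wp : Matrix.SpecialLinearGroup (Fin n) (ZMod 2)) :
      Matrix (Fin n) (Fin n) (ZMod 2)) ^ 2 ^ k = _
    rw [h2 k (by omega)]
    exact hk.trans h1.symm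
  have h4 : 2 ^ k = (2 ^ k - 1) + 1 := by
    have := Nat.one_le_two_pow (n := k)
    omega
  rw [h4, pow_succ] at h3
  have h5 := mul_eq_right.1 h3
  exact h5

section

variable {K : Type u} [Field K] {D : ChevalleyDatum} (hD : InList D)

theorem phi_tw {n : ℕ} {r : Fin n → Fin n → ℕ} {φ : Matrix.SpecialLinearGroup (Fin n) K →* ↥(D.group K)}
    (hφ : ∀ a b (hab : a ≠ b) c, φ (Matrix.SpecialLinearGroup.transvection hab c) = xS hD (r a b) c)
    {wp : List (Fin n × Fin n)} (hne : ∀ e ∈ wp, e.1 ≠ e.2) :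
    φ (tw K wp) = yy hD K (wp.map fun e => r e.1 e.2) := by
  unfold tw yy
  rw [map_list_prod, List.map_map, List.map_map]
  congr 1
  apply List.map_congr_left
  intro e he
  change φ (tv K e) = xS hD (r e.1 e.2) 1
  unfold tv
  rw [dif_pos (hne e he), hφ]

/-- the homomorphism -/
theorem exists_phi {l : ℕ} {M : CoxeterMatrix (Fin l)} (hp : IsType D l M)
    {n : ℕ} {r : Fin (n + 3) → Fin (n + 3) → ℕ} {ε : ℤ} (hε : ε = 1 ∨ ε = -1) (h2 : (2 : K) = 0)
    (ra : RTa D r) (rb : RTb D r fun _ _ => ε) (rc : RTc D r) (rn : ∀ i j, i ≠ j → r j i = D.neg (r i j)) :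
    ∃ φ : Matrix.SpecialLinearGroup (Fin (n + 3)) K →* ↥(D.group K),
      ∀ a b (hab : a ≠ b) c, φ (Matrix.SpecialLinearGroup.transvection hab c) = xS hp.inList (r a b) c := by
  obtain ⟨φ, hφ⟩ := exists_hom_D hp (K := K) (ε := ε) (by rcases hε with rfl | rfl <;> norm_num) ra rb rc rn
  refine ⟨φ, ?_⟩
  intro a b hab c
  have hεK : (ε : K) = 1 := by
    rcases hε with rfl | rfl
    · exact Int.cast_one
    · rw [Int.cast_neg, Int.cast_one, neg_eq_iff_add_eq_zero, one_add_one_eq_two, h2]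
  rw [hφ, hεK, one_mul]
  apply Subtype.ext
  rw [coe_xc hp (ra a b hab)]
  rfl

/-- the two homomorphisms for `ZMod 2` -/
theorem exists_phi0 [CharP K 2] {l : ℕ} {M : CoxeterMatrix (Fin l)} (hp : IsType D l M)
    {n : ℕ} {r : Fin (n + 3) → Fin (n + 3) → ℕ} {ε : ℤ} (hε : ε = 1 ∨ ε = -1)
    (ra : RTa D r) (rb : RTb D r fun _ _ => ε) (rc : RTc D r) (rn : ∀ i j, i ≠ j → r j i = D.neg (r i j)) :
    ∃ ψ : Matrix.SpecialLinearGroup (Fin (n + 3)) (ZMod 2) →* ↥(D.group K),
      ∀ wp : List (Fin (n + 3) × Fin (n + 3)), (∀ e ∈ wp, e.1 ≠ e.2) →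
        ψ (tw (ZMod 2) wp) = yy hp.inList K (wp.map fun e => r e.1 e.2) := by
  have h2 : (2 : K) = 0 := by
    have := CharP.cast_eq_zero K 2
    exact_mod_cast this
  obtain ⟨φ, hφ⟩ := exists_phi hp hε h2 ra rb rc rn
  refine ⟨φ.comp (Matrix.SpecialLinearGroup.map (ZMod.castHom (dvd_refl 2) K)), ?_⟩
  intro wp hne
  rw [MonoidHom.comp_apply, map_tw]
  exact phi_tw hp.inList hφ hne

end

end Cfsg.Agent.H452.HeisC
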