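import Cfsg.Agent.H452.FprHeis

/-!
# Two Heisenberg radicals, Mersenne primes, exact ratio

`x` is a `p`-element, `p = 2 ^ k - 1`, centralises `Z`, normalises the Heisenberg group `Q` and has no
fixed points on `Q / Z`. With two opposite such groups the ratio is at most `1 / (p + 1)`.
-/

set_option autoImplicit false
open Subgroup MulAction
open scoped Pointwise

namespace Cfsg.Agent.H452.FprHeis

open Cfsg.Agent.H398.FPR

section

variable {G X : Type*} [Group G] [MulAction G X] {x : G} {Q Z : Subgroup G}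

/-- The weight is at least `p + 1` unless `Q` fixes the point. -/
theorem Heis.succ_le_wt [Finite G] [Finite X] (h : Heis x Q Z) {p k : ℕ} (hp : p.Prime)
    (hx : x ^ p ^ k = 1)
    (hcomm : ∀ z ∈ Z, ∃ a ∈ Q, ∃ b ∈ Q, z = a * b * a⁻¹ * b⁻¹) {ω : X} (hω : x • ω = ω)
    (hQ : ¬ Q ≤ stabilizer G ω) : ((p + 1 : ℕ) : ℚ) ≤ wt Q Z ω := by
  obtain ⟨S, hS⟩ : ∃ S : Subgroup G, S = Q ⊓ stabilizer G ω := ⟨_, rfl⟩
  have hSQ : S ≤ Q := by rw [hS]; exact inf_le_left
  have hxS : x ∈ normalizer (S : Set G) := by rw [hS]; exact norm_inf h hω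
  have hxB := norm_SZ (h := h) (hS := hSQ) hxS
  have h1 : ∃ r ∈ Q, r ∉ SZ h S hSQ := by
    by_contra hcon
    push Not at hcon
    apply hQ
    have := le_of_SZ_eq (h := h) (hS := hSQ) hcomm hcon
    rw [hS] at this
    exact this.trans inf_le_right
  obtain ⟨r, hrQ, hrB⟩ := h1
  have hQB : Q ≤ normalizer ((SZ h S hSQ : Subgroup G) : Set G) := by
    have aux : ∀ g ∈ Q, ∀ b ∈ SZ h S hSQ, g * b * g⁻¹ ∈ SZ h S hSQ := by
      intro g hg b hb
      have h2 := mul_mem (Z_le_SZ (h := h) (hS := hSQ) (h.der g hg b (SZ_le hb))) hb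
      have h3 : g * b * g⁻¹ * b⁻¹ * b = g * b * g⁻¹ := by group
      rwa [h3] at h2
    intro g hg
    rw [mem_normalizer_iff]
    intro b
    constructor
    · exact aux g hg b
    · intro hb
      have h2 := aux g⁻¹ (inv_mem hg) _ hb
      have h3 : g⁻¹ * (g * b * g⁻¹) * g⁻¹⁻¹ = b := by group
      rwa [h3] at h2
  have hcard := card_coset_ge (j := 0) hp hx SZ_le h.norm hxB hQB hrQ (by
    intro h2
    rw [pow_zero, pow_one] at h2
    exact hrB (h.free_mod Z_le_SZ SZ_le hxB hrQ h2.2))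
  have h2 := card_orbit_mul (T := Q) hS hSQ le_rfl
  have h3 := card_orbit_mul (T := SZ h S hSQ) hS le_SZ SZ_le
  rw [orbit_SZ (by rw [hS]; exact inf_le_right)] at h3
  rw [← h2, ← h3] at hcard
  have h4 : (p + 1) * (orbit Z ω).ncard ≤ (orbit Q ω).ncard := by
    have h5 : 0 < Nat.card S := Nat.card_pos
    apply Nat.le_of_mul_le_mul_right _ h5
    calc (p + 1) * (orbit Z ω).ncard * Nat.card S =
          (p ^ (0 + 1) + 1) * ((orbit Z ω).ncard * Nat.card S) := by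
          ring
      _ ≤ _ := hcard
  rw [wt, le_div_iff₀ (by exact_mod_cast orbit_ncard_pos Z ω)]
  exact_mod_cast h4

/-- A subgroup of index less than `2 ^ (k + 1)` and `k` elements generate. -/
theorem exists_gens [Finite G] {Q : Subgroup G} (k : ℕ) : ∀ {B : Subgroup G}, B ≤ Q →
    Nat.card Q < 2 ^ (k + 1) * Nat.card B →
    ∃ g : Fin k → G, (∀ i, g i ∈ Q) ∧ Q ≤ B ⊔ Subgroup.closure (Set.range g) := by
  induction k with
  | zero =>
    intro B hB hlt
    refine ⟨fun _ => 1, fun i => i.elim0, ?_⟩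
    by_contra hcon
    have h1 : B < Q := lt_of_le_of_ne hB (fun h => hcon (h ▸ le_sup_left))
    have := two_mul_card_le h1
    omega
  | succ k ih =>
    intro B hB hlt
    by_cases h1 : Q ≤ B
    · exact ⟨fun _ => 1, fun _ => one_mem _, h1.trans le_sup_left⟩
    obtain ⟨g0, hg0, hg0B⟩ := SetLike.not_le_iff_exists.1 h1
    have hB1 : B < B ⊔ zpowers g0 := by
      refine lt_of_le_of_ne le_sup_left ?_
      intro h
      apply hg0B
      rw [h]
      exact (le_sup_right : zpowers g0 ≤ _) (mem_zpowers g0)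
    have hB1Q : B ⊔ zpowers g0 ≤ Q := sup_le hB (by rwa [zpowers_le])
    have a1 := two_mul_card_le hB1
    obtain ⟨g, hg, hgen⟩ := ih hB1Q (by
      calc Nat.card Q < 2 ^ (k + 1 + 1) * Nat.card B := hlt
        _ = 2 ^ (k + 1) * (2 * Nat.card B) := by ring
        _ ≤ _ := Nat.mul_le_mul_left _ a1)
    refine ⟨Fin.cons g0 g, ?_, ?_⟩
    · intro i
      refine Fin.cases hg0 (fun i => hg i) i
    · refine hgen.trans (sup_le (sup_le le_sup_left ?_) ?_)
      · rw [zpowers_le]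
        exact (le_sup_right : Subgroup.closure _ ≤ _) (subset_closure ⟨0, rfl⟩)
      · refine le_trans (closure_mono ?_) le_sup_right
        rintro _ ⟨i, rfl⟩
        exact ⟨i.succ, rfl⟩

/-- The index of `S Z` in `Q` is at least `2 ^ (k + 1)` if `S ∩ Z = 1`. -/
theorem Heis.pow_le [Finite G] (h : Heis x Q Z) {Z0 : Subgroup G} {k : ℕ}
    (hcen : ∀ g ∈ Q, (∀ a ∈ Q, g * a = a * g) → g ∈ Z0)
    (hbig : 2 ^ (k + 1) * (Nat.card Z ^ k * Nat.card Z0) ≤ Nat.card Q) {S : Subgroup G}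
    {hS : S ≤ Q}
    (hSZ : ∀ z ∈ Z, z ∈ S → z = 1) : 2 ^ (k + 1) * Nat.card (SZ h S hS) ≤ Nat.card Q := by
  classical
  by_contra hcon
  push Not at hcon
  obtain ⟨g, hg, hgen⟩ := exists_gens k SZ_le hcon
  obtain ⟨B, hBdef⟩ : ∃ B, B = SZ h S hS := ⟨_, rfl⟩
  rw [← hBdef] at hcon hgen
  have hBQ : B ≤ Q := by rw [hBdef]; exact SZ_le
  have hcommS : ∀ a ∈ S, ∀ b ∈ S, a * b = b * a := by
    intro a ha b hb
    have h2 := hSZ _ (h.der a (hS ha) b (hS hb))
      (mul_mem (mul_mem (mul_mem ha hb) (inv_mem ha)) (inv_mem hb))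
    rw [mul_inv_eq_one, mul_inv_eq_iff_eq_mul] at h2
    exact h2
  have hcommB : ∀ a ∈ B, ∀ b ∈ B, a * b = b * a := by
    rw [hBdef]
    rintro _ ⟨s, hs, z1, hz1, rfl⟩ _ ⟨t, ht, z2, hz2, rfl⟩
    have e1 := h.cent z1 hz1 t (hS ht)
    have e2 := h.cent z2 hz2 s (hS hs)
    have e3 := h.cent z1 hz1 z2 (h.le hz2)
    calc s * z1 * (t * z2) = s * (z1 * t) * z2 := by group
      _ = (s * t) * (z1 * z2) := by rw [e1]; group
      _ = (t * s) * (z2 * z1) := by rw [hcommS s hs t ht, e3]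
      _ = t * (s * z2) * z1 := by group
      _ = t * z2 * (s * z1) := by rw [← e2]; group
  -- central elements
  have hC : ∀ b ∈ B, (∀ i, b * g i = g i * b) → b ∈ Z0 := by
    intro b hb hbg
    apply hcen b (hBQ hb)
    intro a ha
    have h1 : B ⊔ Subgroup.closure (Set.range g) ≤ Subgroup.centralizer {b} := by
      refine sup_le ?_ ?_
      · intro c hc
        rw [mem_centralizer_singleton_iff]
        exact hcommB c hc b hb
      · rw [closure_le]
        rintro _ ⟨i, rfl⟩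
        change g i ∈ Subgroup.centralizer {b}
        rw [mem_centralizer_singleton_iff]
        exact (hbg i).symm
    have h2 := h1 (hgen ha)
    rw [mem_centralizer_singleton_iff] at h2
    exact h2.symm
  -- counting
  let f : B → (Fin k → Z) := fun b i => ⟨b * g i * (b : G)⁻¹ * (g i)⁻¹, h.der b (hBQ b.2) _ (hg i)⟩
  have := Fintype.ofFinite B
  have := Fintype.ofFinite Z
  have := Fintype.ofFinite Z0
  have hfib : ∀ v ∈ (Finset.univ : Finset B).image f,
      (Finset.univ.filter fun b : B => f b = v).card ≤ Nat.card Z0 := by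
    intro v hv
    obtain ⟨b0, -, rfl⟩ := Finset.mem_image.1 hv
    rw [Nat.card_eq_fintype_card, ← Finset.card_univ]
    apply Finset.card_le_card_of_injOn (fun b : B => if hb : (b0 : G)⁻¹ * b ∈ Z0 then
      (⟨(b0 : G)⁻¹ * b, hb⟩ : Z0) else 1) (fun _ _ => Finset.mem_univ _)
    have key : ∀ b : B, f b = f b0 → (b0 : G)⁻¹ * b ∈ Z0 := by
      intro b hb
      have e1 : ∀ i, (b : G) * g i * (b : G)⁻¹ * (g i)⁻¹ = b0 * g i * (b0 : G)⁻¹ * (g i)⁻¹ :=
        fun i => congrArg (fun v : Fin k → Z => (v i : G)) hb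
      have aux : ∀ g : G, (b : G) * g * (b : G)⁻¹ * g⁻¹ = b0 * g * (b0 : G)⁻¹ * g⁻¹ →
          (b0 : G)⁻¹ * b * g = g * ((b0 : G)⁻¹ * b) := by
        intro g hg
        have h1 : (b : G) * g * (b : G)⁻¹ = b0 * g * (b0 : G)⁻¹ := mul_right_cancel hg
        calc (b0 : G)⁻¹ * b * g = (b0 : G)⁻¹ * (b * g * (b : G)⁻¹) * b := by group
          _ = (b0 : G)⁻¹ * (b0 * g * (b0 : G)⁻¹) * b := by rw [h1]
          _ = _ := by group
      exact hC _ (mul_mem (inv_mem b0.2) b.2) (fun i => aux (g i) (e1 i))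
    intro b hb c hc hbc
    have hb' := key b (Finset.mem_filter.1 hb).2
    have hc' := key c (Finset.mem_filter.1 hc).2
    simp only [hb', hc', dif_pos] at hbc
    have h1 : (b0 : G)⁻¹ * b = (b0 : G)⁻¹ * c := congrArg Subtype.val hbc
    exact Subtype.ext (mul_left_cancel h1)
  have h1 := Finset.card_le_mul_card_image (Finset.univ : Finset B) _ hfib
  have h2 : ((Finset.univ : Finset B).image f).card ≤ Nat.card Z ^ k := by
    calc ((Finset.univ : Finset B).image f).card ≤ (Finset.univ : Finset (Fin k → Z)).card :=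
          Finset.card_le_card (Finset.subset_univ _)
      _ = Nat.card Z ^ k := by
        rw [Finset.card_univ, Fintype.card_fun, Fintype.card_fin, Nat.card_eq_fintype_card]
  rw [Finset.card_univ, ← Nat.card_eq_fintype_card] at h1
  have h3 : Nat.card B ≤ Nat.card Z ^ k * Nat.card Z0 := by
    calc Nat.card B ≤ _ := h1
      _ ≤ Nat.card Z0 * (Nat.card Z ^ k) := Nat.mul_le_mul_left _ h2
      _ = _ := by ring
  have h4 : 2 ^ (k + 1) * Nat.card B ≤ 2 ^ (k + 1) * (Nat.card Z ^ k * Nat.card Z0) :=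
    Nat.mul_le_mul_left _ h3
  omega

theorem Heis.pow_le_wt [Finite G] [Finite X] (h : Heis x Q Z) {Z0 : Subgroup G} {k : ℕ}
    (hcen : ∀ g ∈ Q, (∀ a ∈ Q, g * a = a * g) → g ∈ Z0)
    (hbig : 2 ^ (k + 1) * (Nat.card Z ^ k * Nat.card Z0) ≤ Nat.card Q) {ω : X}
    (hSZ : ∀ z ∈ Z, z ∈ stabilizer G ω → z = 1) : ((2 ^ (k + 1) : ℕ) : ℚ) ≤ wt Q Z ω := by
  obtain ⟨S, hS⟩ : ∃ S : Subgroup G, S = Q ⊓ stabilizer G ω := ⟨_, rfl⟩
  have hSQ : S ≤ Q := by rw [hS]; exact inf_le_left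
  have hcard := h.pow_le hcen hbig (S := S) (hS := hSQ) (fun z hz hzS => by
    rw [hS] at hzS
    exact hSZ z hz hzS.2)
  have h2 := card_orbit_mul (T := Q) hS hSQ le_rfl
  have h3 := card_orbit_mul (T := SZ h S hSQ) hS le_SZ SZ_le
  rw [orbit_SZ (by rw [hS]; exact inf_le_right)] at h3
  rw [← h2, ← h3] at hcard
  have h4 : 2 ^ (k + 1) * (orbit Z ω).ncard ≤ (orbit Q ω).ncard := by
    have h5 : 0 < Nat.card S := Nat.card_pos
    apply Nat.le_of_mul_le_mul_right _ h5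
    calc 2 ^ (k + 1) * (orbit Z ω).ncard * Nat.card S =
        2 ^ (k + 1) * ((orbit Z ω).ncard * Nat.card S) := by ring
      _ ≤ _ := hcard
  rw [wt, le_div_iff₀ (by exact_mod_cast orbit_ncard_pos Z ω)]
  exact_mod_cast h4

end

/-- **The ratio `1 / (p + 1)`, `p = 2 ^ k - 1`, from two opposite Heisenberg radicals.** -/
theorem heis_mersenne {G : Type*} [Group G] [Finite G] {x : G} {Q1 Q2 Z1 Z2 W1 W2 : Subgroup G}
    {p k j : ℕ} (hp : p.Prime) (hpk : p + 1 = 2 ^ k)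
    (hx : x ^ p ^ j = 1) (h1 : Heis x Q1 Z1) (h2 : Heis x Q2 Z2)
    (hcomm1 : ∀ z ∈ Z1, ∃ a ∈ Q1, ∃ b ∈ Q1, z = a * b * a⁻¹ * b⁻¹)
    (hcomm2 : ∀ z ∈ Z2, ∃ a ∈ Q2, ∃ b ∈ Q2, z = a * b * a⁻¹ * b⁻¹)
    (hcen1 : ∀ g ∈ Q1, (∀ a ∈ Q1, g * a = a * g) → g ∈ W1)
    (hcen2 : ∀ g ∈ Q2, (∀ a ∈ Q2, g * a = a * g) → g ∈ W2)
    (hbig1 : 2 ^ (k + 1) * (Nat.card Z1 ^ k * Nat.card W1) ≤ Nat.card Q1)
    (hbig2 : 2 ^ (k + 1) * (Nat.card Z2 ^ k * Nat.card W2) ≤ Nat.card Q2)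
    (hg1 : ∀ H : Subgroup G, Q1 ≤ H → ∀ z ∈ Z2, z ≠ 1 → z ∈ H → H = ⊤)
    (hg2 : ∀ H : Subgroup G, Q2 ≤ H → ∀ z ∈ Z1, z ≠ 1 → z ∈ H → H = ⊤) : UGood 1 (p + 1) x := by
  classical
  intro H hH
  have := Fintype.ofFinite (G ⧸ H)
  have a1 := h1.sum_wt (X := G ⧸ H)
  have a2 := h2.sum_wt (X := G ⧸ H)
  have e2 : ((2 ^ (k + 1) : ℕ) : ℚ) = 2 * ((p + 1 : ℕ) : ℚ) := by
    rw [hpk]; push_cast; ring
  have hw : ∀ ω ∈ Finset.univ.filter (fun ω : G ⧸ H => x • ω = ω),
      2 * ((p + 1 : ℕ) : ℚ) ≤ wt Q1 Z1 ω + wt Q2 Z2 ω := by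
    intro ω hω
    have hxω : x • ω = ω := (Finset.mem_filter.1 hω).2
    have hst := stabilizer_ne_top' hH ω
    have w1 := one_le_wt h1.le ω
    have w2 := one_le_wt h2.le ω
    by_cases b1 : Q1 ≤ stabilizer G ω
    · have := h2.pow_le_wt hcen2 hbig2 (ω := ω) (fun z hz hzH => by
        by_contra hz1
        exact hst (hg1 _ b1 z hz hz1 hzH))
      rw [e2] at this
      linarith
    · by_cases b2 : Q2 ≤ stabilizer G ω
      · have := h1.pow_le_wt hcen1 hbig1 (ω := ω) (fun z hz hzH => by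
          by_contra hz1
          exact hst (hg2 _ b2 z hz hz1 hzH))
        rw [e2] at this
        linarith
      · have c1 := h1.succ_le_wt hp hx hcomm1 hxω b1
        have c2 := h2.succ_le_wt hp hx hcomm2 hxω b2
        linarith
  have h3 := Finset.sum_le_sum hw
  rw [Finset.sum_add_distrib, Finset.sum_const, nsmul_eq_mul] at h3
  have h4 : (Finset.univ.filter (fun ω : G ⧸ H => x • ω = ω)).card =
      Nat.card (fixedBy (G ⧸ H) x) := by
    rw [Nat.card_coe_set_eq, Set.ncard_eq_toFinset_card']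
    congr 1
    ext y
    simp [mem_fixedBy]
  rw [h4] at h3
  rw [← Nat.card_eq_fintype_card] at a1 a2
  have h5 : (Nat.card (fixedBy (G ⧸ H) x) : ℚ) * (2 * ((p + 1 : ℕ) : ℚ)) ≤
      2 * (Nat.card (G ⧸ H) : ℚ) := by linarith
  have h6 : Nat.card (fixedBy (G ⧸ H) x) * (2 * (p + 1)) ≤ 2 * Nat.card (G ⧸ H) := by
    exact_mod_cast h5
  nlinarith

end Cfsg.Agent.H452.FprHeis
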