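import Cfsg.Agent.H452.FprHeisU

/-!
# The toggling calculus with several terms; large centre
-/

set_option autoImplicit false
open Subgroup MulAction

namespace Cfsg.Agent.H452.HeisT

open Cfsg.Agent.H452.FprHeis Cfsg.Agent.H398.FPR

/-- the action of a root element on a set of roots -/
def actl1 (m : ℕ → List ℕ) (S : List ℕ) : List ℕ :=
  S.foldr (fun γ acc => toggle γ ((m γ).foldr toggle acc)) []

/-- the action of a word -/
def actls (m : ℕ → ℕ → List ℕ) (w : List ℕ) (S : List ℕ) : List ℕ :=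
  w.foldr (fun a acc => actl1 (m a) acc) S

theorem prod_actl1 {A : Type*} [CommGroup A] {e : ℕ → A} (he : ∀ γ, e γ * e γ = 1) (m : ℕ → List ℕ)
    (S : List ℕ) : ((actl1 m S).map e).prod = (S.map fun γ => e γ * ((m γ).map e).prod).prod := by
  unfold actl1
  induction S with
  | nil => simp
  | cons a S ih =>
    rw [List.foldr_cons, prod_toggle he, prod_foldr_toggle he, List.map_cons, List.prod_cons, ← ih, mul_assoc]

section

variable {G : Type*} [Group G] {R Z : Subgroup G} {A : Type*} [CommGroup A] {π : R →* A}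
  (hπ : ∀ r : R, π r = 1 ↔ (r : G) ∈ Z)

include hπ

theorem actl_of {Γ : List ℕ} {f : ℕ → G} {e : ℕ → A}
    (hf : ∀ γ ∈ Γ, ∃ hγ : f γ ∈ R, π ⟨f γ, hγ⟩ = e γ) (he : ∀ γ, e γ * e γ = 1)
    {x : G} {m : ℕ → List ℕ} (hx : ∀ γ ∈ Γ, ∀ k ∈ m γ, k ∈ Γ)
    (hx1 : ∀ γ ∈ Γ, x * f γ * x⁻¹ = f γ * ((m γ).map f).prod)
    (hxZ : ∀ z ∈ Z, x * z = z * x) (hle : Z ≤ R) {S : List ℕ} (hS : ∀ γ ∈ S, γ ∈ Γ)
    {g : G} (hg : ∃ hgR : g ∈ R, π ⟨g, hgR⟩ = (S.map e).prod) :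
    ∃ hgR : x * g * x⁻¹ ∈ R, π ⟨x * g * x⁻¹, hgR⟩ = ((actl1 m S).map e).prod := by
  obtain ⟨hgR, hg1⟩ := hg
  obtain ⟨hP, hP1⟩ := prodR (π := π) (f := f) (e := e) (S := S) fun γ hγ => hf γ (hS γ hγ)
  obtain ⟨z, hz⟩ : ∃ z, z = ((S.map f).prod)⁻¹ * g := ⟨_, rfl⟩
  have hzZ : z ∈ Z := by
    have h1 : π ((⟨(S.map f).prod, hP⟩ : R)⁻¹ * ⟨g, hgR⟩) = 1 := by
      rw [map_mul, map_inv, hP1, hg1, inv_mul_cancel]
    rw [hπ] at h1
    rw [hz]
    exact h1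
  have hg2 : g = (S.map f).prod * z := by rw [hz]; group
  have hxz : x * z * x⁻¹ = z := by rw [hxZ z hzZ]; group
  obtain ⟨hQ, hQ1⟩ := prodR (π := π) (f := fun γ => x * f γ * x⁻¹)
    (e := fun γ => e γ * ((m γ).map e).prod) (S := S) (by
      intro γ hγ
      have hγΓ := hS γ hγ
      have h1 := hx1 γ hγΓ
      obtain ⟨h2, h3⟩ := hf γ hγΓ
      obtain ⟨h5, h6⟩ := prodR (π := π) (f := f) (e := e) (S := m γ) fun k hk => hf k (hx γ hγΓ k hk)
      refine ⟨?_, ?_⟩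
      · change x * f γ * x⁻¹ ∈ R
        rw [h1]; exact mul_mem h2 h5
      · have h4 : (⟨x * f γ * x⁻¹, by rw [h1]; exact mul_mem h2 h5⟩ : R) =
            ⟨f γ, h2⟩ * ⟨((m γ).map f).prod, h5⟩ := Subtype.ext h1
        change π ⟨x * f γ * x⁻¹, _⟩ = e γ * ((m γ).map e).prod
        rw [h4, map_mul, h3, h6])
  rw [← prod_actl1 he] at hQ1
  have e1 : x * g * x⁻¹ = (S.map fun γ => x * f γ * x⁻¹).prod * z := by
    rw [hg2, ← conj_prod]
    calc x * ((S.map f).prod * z) * x⁻¹ = x * (S.map f).prod * x⁻¹ * (x * z * x⁻¹) := by group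
      _ = _ := by rw [hxz]
  have hR : x * g * x⁻¹ ∈ R := by rw [e1]; exact mul_mem hQ (hle hzZ)
  refine ⟨hR, ?_⟩
  have e2 : (⟨x * g * x⁻¹, hR⟩ : R) = ⟨(S.map fun γ => x * f γ * x⁻¹).prod, hQ⟩ * ⟨z, hle hzZ⟩ :=
    Subtype.ext e1
  rw [e2, map_mul, hQ1, (hπ ⟨z, hle hzZ⟩).2 hzZ, mul_one]

omit hπ in
theorem mem_toggle' {Γ : List ℕ} {γ : ℕ} (hγ : γ ∈ Γ) {S : List ℕ} (hS : ∀ γ ∈ S, γ ∈ Γ) :
    ∀ k ∈ toggle γ S, k ∈ Γ := by
  intro k hk
  unfold toggle at hk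
  split_ifs at hk with h
  · exact hS k (List.mem_of_mem_erase hk)
  · rcases List.mem_cons.1 hk with rfl | hk
    · exact hγ
    · exact hS k hk

omit hπ in
theorem mem_foldr_toggle {Γ V : List ℕ} (hV : ∀ γ ∈ V, γ ∈ Γ) {S : List ℕ} (hS : ∀ γ ∈ S, γ ∈ Γ) :
    ∀ k ∈ V.foldr toggle S, k ∈ Γ := by
  induction V with
  | nil => exact hS
  | cons a V ih =>
    rw [List.foldr_cons]
    exact mem_toggle' (hV a List.mem_cons_self) (ih fun γ hγ => hV γ (List.mem_cons_of_mem _ hγ))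

omit hπ in
theorem mem_actl1 {Γ : List ℕ} {m : ℕ → List ℕ} (hx : ∀ γ ∈ Γ, ∀ k ∈ m γ, k ∈ Γ) {S : List ℕ}
    (hS : ∀ γ ∈ S, γ ∈ Γ) : ∀ k ∈ actl1 m S, k ∈ Γ := by
  unfold actl1
  induction S with
  | nil => intro k hk; simp at hk
  | cons a S ih =>
    rw [List.foldr_cons]
    have h1 := ih fun γ hγ => hS γ (List.mem_cons_of_mem _ hγ)
    have ha := hS a List.mem_cons_self
    exact mem_toggle' ha (mem_foldr_toggle (hx a ha) h1)

/-- **Surjectivity of `[y, ·]` modulo `Z`.** -/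
theorem surjl_of {Γ : List ℕ} {f : ℕ → G} {e : ℕ → A}
    (hf : ∀ γ ∈ Γ, ∃ hγ : f γ ∈ R, π ⟨f γ, hγ⟩ = e γ) (he : ∀ γ, e γ * e γ = 1)
    {W : List ℕ} {x : ℕ → G} {m : ℕ → ℕ → List ℕ}
    (hx : ∀ a ∈ W, ∀ γ ∈ Γ, ∀ k ∈ m a γ, k ∈ Γ)
    (hx1 : ∀ a ∈ W, ∀ γ ∈ Γ, x a * f γ * (x a)⁻¹ = f γ * ((m a γ).map f).prod)
    (hxZ : ∀ a ∈ W, ∀ z ∈ Z, x a * z = z * x a) (hle : Z ≤ R) {w : List ℕ} (hw : ∀ a ∈ w, a ∈ W)
    {v : List ℕ} (hv : ∀ γ ∈ v, γ ∈ Γ) {β : ℕ} (hβ : β ∈ Γ) (hV : v.foldr toggle (actls m w v) = [β]) :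
    (v.map f).prod ∈ R ∧
      ((w.map x).prod * (v.map f).prod * (w.map x).prod⁻¹ * (v.map f).prod⁻¹) * (f β)⁻¹ ∈ Z := by
  obtain ⟨hP, hP1⟩ := prodR (π := π) (f := f) (e := e) (S := v) fun γ hγ => hf γ (hv γ hγ)
  refine ⟨hP, ?_⟩
  have key : ∀ w : List ℕ, (∀ a ∈ w, a ∈ W) → (∀ γ ∈ actls m w v, γ ∈ Γ) ∧
      ∃ hgR : (w.map x).prod * (v.map f).prod * (w.map x).prod⁻¹ ∈ R,
        π ⟨(w.map x).prod * (v.map f).prod * (w.map x).prod⁻¹, hgR⟩ = ((actls m w v).map e).prod := by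
    intro w
    induction w with
    | nil =>
      intro _
      refine ⟨hv, ?_⟩
      have h1 : (([] : List ℕ).map x).prod * (v.map f).prod * (([] : List ℕ).map x).prod⁻¹ =
          (v.map f).prod := by simp
      refine ⟨by rw [h1]; exact hP, ?_⟩
      have h2 : (⟨(([] : List ℕ).map x).prod * (v.map f).prod * (([] : List ℕ).map x).prod⁻¹,
        by rw [h1]; exact hP⟩ : R) = ⟨(v.map f).prod, hP⟩ := Subtype.ext h1
      rw [h2]
      exact hP1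
    | cons a w ih =>
      intro hw
      obtain ⟨h1, h2⟩ := ih fun b hb => hw b (List.mem_cons_of_mem _ hb)
      have ha := hw a List.mem_cons_self
      refine ⟨mem_actl1 (hx a ha) h1, ?_⟩
      obtain ⟨h3, h4⟩ := actl_of hπ hf he (hx a ha) (hx1 a ha) (hxZ a ha) hle h1 h2
      have h5 : ((a :: w).map x).prod * (v.map f).prod * ((a :: w).map x).prod⁻¹ =
          x a * ((w.map x).prod * (v.map f).prod * (w.map x).prod⁻¹) * (x a)⁻¹ := by
        rw [List.map_cons, List.prod_cons]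
        group
      refine ⟨by rw [h5]; exact h3, ?_⟩
      have h6 : (⟨((a :: w).map x).prod * (v.map f).prod * ((a :: w).map x).prod⁻¹,
        by rw [h5]; exact h3⟩ : R) = ⟨_, h3⟩ := Subtype.ext h5
      rw [h6]
      exact h4
  obtain ⟨-, hY, hY1⟩ := key w hw
  obtain ⟨hβR, hβ1⟩ := hf β hβ
  have h1 := prod_foldr_toggle he v (actls m w v)
  rw [hV, List.map_cons, List.map_nil, List.prod_cons, List.prod_nil, mul_one] at h1
  have h2 : π (⟨_, hY⟩ * (⟨(v.map f).prod, hP⟩ : R)⁻¹ * (⟨f β, hβR⟩ : R)⁻¹) = 1 := by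
    rw [map_mul, map_mul, map_inv, map_inv, hY1, hP1, hβ1, h1]
    have hsq : (v.map e).prod * (v.map e).prod = 1 := by
      rw [← List.prod_map_mul]
      apply List.prod_eq_one
      intro y hy
      obtain ⟨c, -, rfl⟩ := List.mem_map.1 hy
      exact he c
    have hinv : ((v.map e).prod)⁻¹ = (v.map e).prod := inv_eq_of_mul_eq_one_left hsq
    rw [hinv, mul_comm ((actls m w v).map e).prod, ← h1, mul_inv_cancel]
  exact (hπ _).1 h2

end

/-! ### Large centre -/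

section

variable {G X : Type*} [Group G] [MulAction G X] {x : G} {Q Z : Subgroup G}

theorem Heis.pow_le_or [Finite G] (h : Heis x Q Z) {Z0 : Subgroup G} {k : ℕ}
    (hcen : ∀ g ∈ Q, (∀ a ∈ Q, g * a = a * g) → g ∈ Z0)
    (hbig : 2 ^ k * (Nat.card Z ^ k * Nat.card Z0) ≤ Nat.card Q) {S : Subgroup G}
    {hS : S ≤ Q}
    (hSZ : ∀ z ∈ Z, z ∈ S → z = 1) : 2 ^ (k + 1) * Nat.card (SZ h S hS) ≤ Nat.card Q ∨ Z0 ≤ SZ h S hS := by
  classical
  by_contra hcon0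
  push Not at hcon0
  obtain ⟨hcon, hW⟩ := hcon0
  obtain ⟨g, hg, hgen⟩ := exists_gens k SZ_le hcon
  obtain ⟨B, hBdef⟩ : ∃ B, B = SZ h S hS := ⟨_, rfl⟩
  rw [← hBdef] at hcon hgen hW
  have hBQ : B ≤ Q := by rw [hBdef]; exact SZ_le
  have hcommS : ∀ a ∈ S, ∀ b ∈ S, a * b = b * a := by
    intro a ha b hb
    have h2 := hSZ _ (h.der a (hS ha) b (hS hb))
      (mul_mem (mul_mem (mul_mem ha hb) (inv_mem ha)) (inv_mem hb))
    rw [mul_inv_eq_one, mul_inv_eq_iff_eq_mul] at h2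
    exact h2
  have hcommB : ∀ a ∈ B, ∀ b ∈ B, a * b = b * a := by
    rw [hBdef]
    rintro _ ⟨s, hs, z1, hz1, rfl⟩ _ ⟨t, ht, z2, hz2, rfl⟩
    have e1 := h.cent z1 hz1 t (hS ht)
    have e2 := h.cent z2 hz2 s (hS hs)
    have e3 := h.cent z1 hz1 z2 (h.le hz2)
    calc s * z1 * (t * z2) = s * (z1 * t) * z2 := by group
      _ = (s * t) * (z1 * z2) := by rw [e1]; group
      _ = (t * s) * (z2 * z1) := by rw [hcommS s hs t ht, e3]
      _ = t * (s * z2) * z1 := by group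
      _ = t * z2 * (s * z1) := by rw [← e2]; group
  have hC : ∀ b ∈ B, (∀ i, b * g i = g i * b) → b ∈ Z0 ⊓ B := by
    intro b hb hbg
    refine mem_inf.2 ⟨?_, hb⟩
    apply hcen b (hBQ hb)
    intro a ha
    have h1 : B ⊔ Subgroup.closure (Set.range g) ≤ Subgroup.centralizer {b} := by
      refine sup_le ?_ ?_
      · intro c hc
        rw [mem_centralizer_singleton_iff]
        exact hcommB c hc b hb
      · rw [closure_le]
        rintro _ ⟨i, rfl⟩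
        change g i ∈ Subgroup.centralizer {b}
        rw [mem_centralizer_singleton_iff]
        exact (hbg i).symm
    have h2 := h1 (hgen ha)
    rw [mem_centralizer_singleton_iff] at h2
    exact h2.symm
  let f : B → (Fin k → Z) := fun b i => ⟨b * g i * (b : G)⁻¹ * (g i)⁻¹, h.der b (hBQ b.2) _ (hg i)⟩
  have := Fintype.ofFinite B
  have := Fintype.ofFinite Z
  have := Fintype.ofFinite ↥(Z0 ⊓ B)
  have hfib : ∀ v ∈ (Finset.univ : Finset B).image f,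
      (Finset.univ.filter fun b : B => f b = v).card ≤ Nat.card ↥(Z0 ⊓ B) := by
    intro v hv
    obtain ⟨b0, -, rfl⟩ := Finset.mem_image.1 hv
    rw [Nat.card_eq_fintype_card, ← Finset.card_univ]
    apply Finset.card_le_card_of_injOn (fun b : B => if hb : (b0 : G)⁻¹ * b ∈ Z0 ⊓ B then
      (⟨(b0 : G)⁻¹ * b, hb⟩ : ↥(Z0 ⊓ B)) else 1) (fun _ _ => Finset.mem_univ _)
    have key : ∀ b : B, f b = f b0 → (b0 : G)⁻¹ * b ∈ Z0 ⊓ B := by
      intro b hb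
      have e1 : ∀ i, (b : G) * g i * (b : G)⁻¹ * (g i)⁻¹ = b0 * g i * (b0 : G)⁻¹ * (g i)⁻¹ :=
        fun i => congrArg (fun v : Fin k → Z => (v i : G)) hb
      have aux : ∀ g : G, (b : G) * g * (b : G)⁻¹ * g⁻¹ = b0 * g * (b0 : G)⁻¹ * g⁻¹ →
          (b0 : G)⁻¹ * b * g = g * ((b0 : G)⁻¹ * b) := by
        intro g hg
        have h1 : (b : G) * g * (b : G)⁻¹ = b0 * g * (b0 : G)⁻¹ := mul_right_cancel hg
        calc (b0 : G)⁻¹ * b * g = (b0 : G)⁻¹ * (b * g * (b : G)⁻¹) * b := by group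
          _ = (b0 : G)⁻¹ * (b0 * g * (b0 : G)⁻¹) * b := by rw [h1]
          _ = _ := by group
      exact hC _ (mul_mem (inv_mem b0.2) b.2) (fun i => aux (g i) (e1 i))
    intro b hb c hc hbc
    have hb' := key b (Finset.mem_filter.1 hb).2
    have hc' := key c (Finset.mem_filter.1 hc).2
    simp only [hb', hc', dif_pos] at hbc
    have h1 : (b0 : G)⁻¹ * b = (b0 : G)⁻¹ * c := congrArg Subtype.val hbc
    exact Subtype.ext (mul_left_cancel h1)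
  have h1 := Finset.card_le_mul_card_image (Finset.univ : Finset B) _ hfib
  have h2 : ((Finset.univ : Finset B).image f).card ≤ Nat.card Z ^ k := by
    calc ((Finset.univ : Finset B).image f).card ≤ (Finset.univ : Finset (Fin k → Z)).card :=
          Finset.card_le_card (Finset.subset_univ _)
      _ = Nat.card Z ^ k := by
        rw [Finset.card_univ, Fintype.card_fun, Fintype.card_fin, Nat.card_eq_fintype_card]
  rw [Finset.card_univ, ← Nat.card_eq_fintype_card] at h1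
  have h3 : Nat.card B ≤ Nat.card Z ^ k * Nat.card ↥(Z0 ⊓ B) := by
    calc Nat.card B ≤ _ := h1
      _ ≤ Nat.card ↥(Z0 ⊓ B) * (Nat.card Z ^ k) := Nat.mul_le_mul_left _ h2
      _ = _ := by ring
  have h5 : 2 * Nat.card ↥(Z0 ⊓ B) ≤ Nat.card Z0 := by
    apply two_mul_card_le
    refine lt_of_le_of_ne inf_le_left ?_
    intro h6
    exact hW (by rw [← h6]; exact inf_le_right)
  have h4 : 2 ^ (k + 1) * Nat.card B ≤ 2 ^ k * (Nat.card Z ^ k * Nat.card Z0) := by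
    calc 2 ^ (k + 1) * Nat.card B ≤ 2 ^ (k + 1) * (Nat.card Z ^ k * Nat.card ↥(Z0 ⊓ B)) :=
          Nat.mul_le_mul_left _ h3
      _ = 2 ^ k * (Nat.card Z ^ k * (2 * Nat.card ↥(Z0 ⊓ B))) := by ring
      _ ≤ _ := Nat.mul_le_mul_left _ (Nat.mul_le_mul_left _ h5)
  omega

/-- The weight is large or the stabilizer contains `[x, Z0]`. -/
theorem Heis.pow_le_wt_or [Finite G] [Finite X] (h : Heis x Q Z) {Z0 : Subgroup G} {k : ℕ}
    (hcen : ∀ g ∈ Q, (∀ a ∈ Q, g * a = a * g) → g ∈ Z0)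
    (hbig : 2 ^ k * (Nat.card Z ^ k * Nat.card Z0) ≤ Nat.card Q) {ω : X} (hω : x • ω = ω)
    (hSZ : ∀ z ∈ Z, z ∈ stabilizer G ω → z = 1) :
    ((2 ^ (k + 1) : ℕ) : ℚ) ≤ wt Q Z ω ∨ ∀ w ∈ Z0, x * w * x⁻¹ * w⁻¹ ∈ stabilizer G ω := by
  obtain ⟨S, hS⟩ : ∃ S : Subgroup G, S = Q ⊓ stabilizer G ω := ⟨_, rfl⟩
  have hSQ : S ≤ Q := by rw [hS]; exact inf_le_left
  rcases Heis.pow_le_or h hcen hbig (S := S) (hS := hSQ) (fun z hz hzS => by
    rw [hS] at hzS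
    exact hSZ z hz hzS.2) with hcard | hW
  · left
    have h2 := card_orbit_mul (T := Q) hS hSQ le_rfl
    have h3 := card_orbit_mul (T := SZ h S hSQ) hS le_SZ SZ_le
    rw [orbit_SZ (by rw [hS]; exact inf_le_right)] at h3
    rw [← h2, ← h3] at hcard
    have h4 : 2 ^ (k + 1) * (orbit Z ω).ncard ≤ (orbit Q ω).ncard := by
      have h5 : 0 < Nat.card S := Nat.card_pos
      apply Nat.le_of_mul_le_mul_right _ h5
      calc 2 ^ (k + 1) * (orbit Z ω).ncard * Nat.card S =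
          2 ^ (k + 1) * ((orbit Z ω).ncard * Nat.card S) := by ring
        _ ≤ _ := hcard
    rw [wt, le_div_iff₀ (by exact_mod_cast orbit_ncard_pos Z ω)]
    exact_mod_cast h4
  · right
    intro w hw
    obtain ⟨s, hs, z, hz, rfl⟩ := hW hw
    have hxS : x ∈ normalizer (S : Set G) := by rw [hS]; exact norm_inf h hω
    have h1 : x * s * x⁻¹ ∈ S := (mem_normalizer_iff.1 hxS s).1 hs
    have h2 : x * z * x⁻¹ = z := by rw [h.fixZ z hz]; group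
    have h3 : x * (s * z) * x⁻¹ * (s * z)⁻¹ = x * s * x⁻¹ * s⁻¹ := by
      calc x * (s * z) * x⁻¹ * (s * z)⁻¹ = x * s * x⁻¹ * (x * z * x⁻¹) * z⁻¹ * s⁻¹ := by group
        _ = _ := by rw [h2]; group
    rw [h3]
    have h4 : x * s * x⁻¹ * s⁻¹ ∈ S := mul_mem h1 (inv_mem hs)
    rw [hS] at h4
    exact h4.2

end

/-- **The ratio `1 / (p + 1)`, `p = 2 ^ k - 1`, from two opposite Heisenberg groups with large centre.** -/
theorem heis_mersenne_W {G : Type*} [Group G] [Finite G] {x : G} {Q1 Q2 Z1 Z2 W1 W2 : Subgroup G}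
    {p k j : ℕ} (hp : p.Prime) (hpk : p + 1 = 2 ^ k)
    (hx : x ^ p ^ j = 1) (h1 : Heis x Q1 Z1) (h2 : Heis x Q2 Z2)
    (hcomm1 : ∀ z ∈ Z1, ∃ a ∈ Q1, ∃ b ∈ Q1, z = a * b * a⁻¹ * b⁻¹)
    (hcomm2 : ∀ z ∈ Z2, ∃ a ∈ Q2, ∃ b ∈ Q2, z = a * b * a⁻¹ * b⁻¹)
    (hcen1 : ∀ g ∈ Q1, (∀ a ∈ Q1, g * a = a * g) → g ∈ W1)
    (hcen2 : ∀ g ∈ Q2, (∀ a ∈ Q2, g * a = a * g) → g ∈ W2)
    (hbig1 : 2 ^ k * (Nat.card Z1 ^ k * Nat.card W1) ≤ Nat.card Q1)
    (hbig2 : 2 ^ k * (Nat.card Z2 ^ k * Nat.card W2) ≤ Nat.card Q2)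
    (hg1 : ∀ H : Subgroup G, Q1 ≤ H → ∀ z ∈ Z2, z ≠ 1 → z ∈ H → H = ⊤)
    (hg2 : ∀ H : Subgroup G, Q2 ≤ H → ∀ z ∈ Z1, z ≠ 1 → z ∈ H → H = ⊤)
    (hW1 : ∀ H : Subgroup G, Q1 ≤ H → (∀ w ∈ W2, x * w * x⁻¹ * w⁻¹ ∈ H) → H = ⊤)
    (hW2 : ∀ H : Subgroup G, Q2 ≤ H → (∀ w ∈ W1, x * w * x⁻¹ * w⁻¹ ∈ H) → H = ⊤) :
    UGood 1 (p + 1) x := by
  classical
  intro H hH
  have := Fintype.ofFinite (G ⧸ H)
  have a1 := h1.sum_wt (X := G ⧸ H)
  have a2 := h2.sum_wt (X := G ⧸ H)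
  have e2 : ((2 ^ (k + 1) : ℕ) : ℚ) = 2 * ((p + 1 : ℕ) : ℚ) := by
    rw [hpk]; push_cast; ring
  have hw : ∀ ω ∈ Finset.univ.filter (fun ω : G ⧸ H => x • ω = ω),
      2 * ((p + 1 : ℕ) : ℚ) ≤ wt Q1 Z1 ω + wt Q2 Z2 ω := by
    intro ω hω
    have hxω : x • ω = ω := (Finset.mem_filter.1 hω).2
    have hst := stabilizer_ne_top' hH ω
    have w1 := one_le_wt h1.le ω
    have w2 := one_le_wt h2.le ω
    by_cases b1 : Q1 ≤ stabilizer G ω
    · rcases Heis.pow_le_wt_or h2 hcen2 hbig2 (ω := ω) hxω (fun z hz hzH => by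
        by_contra hz1
        exact hst (hg1 _ b1 z hz hz1 hzH)) with this | hcon
      · rw [e2] at this
        linarith
      · exact absurd (hW1 _ b1 hcon) hst
    · by_cases b2 : Q2 ≤ stabilizer G ω
      · rcases Heis.pow_le_wt_or h1 hcen1 hbig1 (ω := ω) hxω (fun z hz hzH => by
          by_contra hz1
          exact hst (hg2 _ b2 z hz hz1 hzH)) with this | hcon
        · rw [e2] at this
          linarith
        · exact absurd (hW2 _ b2 hcon) hst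
      · have c1 := h1.succ_le_wt hp hx hcomm1 hxω b1
        have c2 := h2.succ_le_wt hp hx hcomm2 hxω b2
        linarith
  have h3 := Finset.sum_le_sum hw
  rw [Finset.sum_add_distrib, Finset.sum_const, nsmul_eq_mul] at h3
  have h4 : (Finset.univ.filter (fun ω : G ⧸ H => x • ω = ω)).card =
      Nat.card (fixedBy (G ⧸ H) x) := by
    rw [Nat.card_coe_set_eq, Set.ncard_eq_toFinset_card']
    congr 1
    ext y
    simp [mem_fixedBy]
  rw [h4] at h3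
  rw [← Nat.card_eq_fintype_card] at a1 a2
  have h5 : (Nat.card (fixedBy (G ⧸ H) x) : ℚ) * (2 * ((p + 1 : ℕ) : ℚ)) ≤
      2 * (Nat.card (G ⧸ H) : ℚ) := by linarith
  have h6 : Nat.card (fixedBy (G ⧸ H) x) * (2 * (p + 1)) ≤ 2 * Nat.card (G ⧸ H) := by
    exact_mod_cast h5
  nlinarith

end Cfsg.Agent.H452.HeisT
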