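import Cfsg.Agent.H452.FprTorus

/-!
# Fixed point ratios in groups of rank one: split tori with cyclic Sylow subgroups
-/

set_option autoImplicit false
open Subgroup MulAction
open scoped Pointwise

namespace Cfsg.Agent.H452.FprRank

open Cfsg.Agent.H409 Cfsg.Agent.H394.SqTI Cfsg.Agent.H452.FprCyc Cfsg.Agent.H452.FprTorus

variable {S : Type*} [Group S] [Finite S] {p : ℕ}

/-- If the Sylow `p`-subgroups are cyclic, the subgroups of order `p` are conjugate. -/
theorem exists_conj_zpowers [Fact p.Prime] (hc : ∀ P : Sylow p S, IsCyclic P) {x y : S}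
    (hx : orderOf x = p) (hy : orderOf y = p) :
    ∃ g : S, (zpowers x).map (MulAut.conj g).toMonoidHom = zpowers y := by
  have hp : p.Prime := Fact.out
  have hpx : IsPGroup p (zpowers x) := IsPGroup.of_card (n := 1) (by rw [Nat.card_zpowers, hx, pow_one])
  have hpy : IsPGroup p (zpowers y) := IsPGroup.of_card (n := 1) (by rw [Nat.card_zpowers, hy, pow_one])
  obtain ⟨Q1, hQ1⟩ := hpx.exists_le_sylow
  obtain ⟨Q2, hQ2⟩ := hpy.exists_le_sylow
  obtain ⟨g, hg⟩ := exists_smul_eq S Q1 Q2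
  refine ⟨g, ?_⟩
  have hxQ : g * x * g⁻¹ ∈ (Q2 : Subgroup S) := by
    rw [← hg, Sylow.smul_def]
    exact ⟨x, hQ1 (mem_zpowers _), rfl⟩
  have hyQ : y ∈ (Q2 : Subgroup S) := hQ2 (mem_zpowers _)
  have ho : orderOf (g * x * g⁻¹) = p := by
    rw [← hx]
    exact orderOf_injective (MulAut.conj g).toMonoidHom (MulAut.conj g).injective x
  have := hc Q2
  have h3 := zpowers_eq_of_cyclic (Q := Q2) hp (x := ⟨_, hxQ⟩) (y := ⟨_, hyQ⟩)
    (by rw [Subgroup.orderOf_mk, ho]) (by rw [Subgroup.orderOf_mk, hy])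
  have h4 := congrArg (fun K : Subgroup Q2 => K.map (Q2 : Subgroup S).subtype) h3
  simp only [MonoidHom.map_zpowers] at h4
  rw [MonoidHom.map_zpowers]
  exact h4

theorem card_normalizer_eq [Fact p.Prime] (hc : ∀ P : Sylow p S, IsCyclic P) {x y : S}
    (hx : orderOf x = p) (hy : orderOf y = p) :
    Nat.card (normalizer ((zpowers x : Subgroup S) : Set S)) =
      Nat.card (normalizer ((zpowers y : Subgroup S) : Set S)) := by
  obtain ⟨g, hg⟩ := exists_conj_zpowers hc hx hy
  have h1 := map_equiv_normalizer_eq (zpowers x) (MulAut.conj g)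
  rw [hg] at h1
  rw [← h1]
  exact Nat.card_congr ((normalizer ((zpowers x : Subgroup S) : Set S)).equivMapOfInjective _
    (MulAut.conj g).injective).toEquiv

/-- The order of the normaliser of a Sylow subgroup. -/
theorem card_norm_sylow {r : ℕ} [Fact r.Prime] {Q h : ℕ}
    (hcount : Nat.card (Sylow r S) = 1 + Q) (hord : Nat.card S = Q * ((Q + 1) * h))
    (P : Sylow r S) : Nat.card (normalizer ((P : Subgroup S) : Set S)) = Q * h := by
  have h1 : (normalizer ((P : Subgroup S) : Set S)).index = 1 + Q := by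
    rw [← hcount]
    exact (Sylow.card_eq_index_normalizer P).symm
  have h2 := Subgroup.card_mul_index (normalizer ((P : Subgroup S) : Set S))
  rw [h1, hord] at h2
  have h3 : 0 < 1 + Q := by omega
  apply Nat.eq_of_mul_eq_mul_right h3
  rw [h2]
  ring

/-- **Split tori** in groups of rank one, cyclic Sylow `p`-subgroups. -/
theorem row_ti_cyclic [IsSimpleGroup S] [Fact p.Prime] {r : ℕ} [Fact r.Prime] (hrp : p ≠ r)
    (hTI : ∀ P Q : Sylow r S, P ≠ Q → (P : Subgroup S) ⊓ Q = ⊥) {Q k : ℕ} (hQk : Q = r ^ k)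
    (hQ : ∀ P : Sylow r S, Nat.card P = Q) (hQ1 : 1 < Q) (hcount : Nat.card (Sylow r S) = 1 + Q)
    (hQp : Q ≠ p + 1) (hc : ∀ P : Sylow p S, IsCyclic P) {x : S} (hx : orderOf x = p)
    (hr : ¬ r ∣ Nat.card (normalizer ((zpowers x : Subgroup S) : Set S)))
    {P : Sylow r S} (hP : p ∣ Nat.card (normalizer ((P : Subgroup S) : Set S))) :
    FprRow (p + 1) 1 p S := by
  obtain ⟨y, hy⟩ := exists_prime_orderOf_dvd_card' (G := normalizer ((P : Subgroup S) : Set S)) p hP
  have hyo : orderOf (y : S) = p := by rw [Subgroup.orderOf_coe, hy]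
  rw [card_normalizer_eq hc hx hyo] at hr
  refine row_ti_torus' hrp hTI hQk hQ hQ1 hcount hQp (x := (y : S)) ⟨1, by rw [hyo, pow_one]⟩
    (P₁ := P) y.2 ?_
  intro P' _ z hz hyz
  by_contra hz1
  apply hr
  have h1 : z ∈ normalizer ((zpowers (y : S) : Subgroup S) : Set S) := by
    have h2 : z ∈ Subgroup.centralizer ((zpowers (y : S) : Subgroup S) : Set S) := by
      rw [mem_centralizer_iff]
      rintro _ ⟨i, rfl⟩
      have h3 : Commute (y : S) z := hyz
      exact (h3.zpow_left i).eq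
    exact centralizer_le_normalizer _ h2
  have h4 : r ∣ orderOf z := by
    obtain ⟨j, hj⟩ := P'.isPGroup' ⟨z, hz⟩
    have h5 : z ^ r ^ j = 1 := congrArg Subtype.val hj
    obtain ⟨i, -, hi⟩ := (Nat.dvd_prime_pow (Fact.out : r.Prime)).1 (orderOf_dvd_of_pow_eq_one h5)
    rw [hi]
    apply dvd_pow_self
    rintro rfl
    rw [pow_zero, orderOf_eq_one_iff] at hi
    exact hz1 hi
  have h5 := orderOf_dvd_natCard (⟨z, h1⟩ : normalizer ((zpowers (y : S) : Subgroup S) : Set S))
  rw [Subgroup.orderOf_mk] at h5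
  exact h4.trans h5

end Cfsg.Agent.H452.FprRank
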