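import Cfsg.Agent.H452.FprRank

/-!
# Fixed point ratios: the split torus of `SL₂(q)`
-/

set_option autoImplicit false
open Subgroup MulAction Matrix

namespace Cfsg.Agent.H452.FprSLTwo

open Cfsg.Agent.H409 Cfsg.Agent.H452.FprCyc Cfsg.Agent.H452.FprTorus

variable {F : Type*} [Field F]

/-- upper unitriangular matrices -/
def u (t : F) : SpecialLinearGroup (Fin 2) F := ⟨!![1, t; 0, 1], by rw [det_fin_two_of]; ring⟩

/-- lower unitriangular matrices -/
def v (t : F) : SpecialLinearGroup (Fin 2) F := ⟨!![1, 0; t, 1], by rw [det_fin_two_of]; ring⟩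

/-- diagonal matrices -/
def d (k : Fˣ) : SpecialLinearGroup (Fin 2) F :=
  ⟨!![(k : F), 0; 0, ((k⁻¹ : Fˣ) : F)], by rw [det_fin_two_of]; simp⟩

theorem ext' {g h : SpecialLinearGroup (Fin 2) F} (h00 : g.1 0 0 = h.1 0 0)
    (h01 : g.1 0 1 = h.1 0 1) (h10 : g.1 1 0 = h.1 1 0) (h11 : g.1 1 1 = h.1 1 1) : g = h := by
  apply Subtype.ext
  ext i j
  fin_cases i <;> fin_cases j
  · exact h00
  · exact h01
  · exact h10
  · exact h11

theorem mul_val (g h : SpecialLinearGroup (Fin 2) F) (i j : Fin 2) :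
    (g * h).1 i j = g.1 i 0 * h.1 0 j + g.1 i 1 * h.1 1 j := by
  change (g.1 * h.1) i j = _
  rw [Matrix.mul_apply, Fin.sum_univ_two]

theorem u_mul (s t : F) : u s * u t = u (s + t) := by
  apply ext' <;> rw [mul_val] <;> simp [u, add_comm]

theorem v_mul (s t : F) : v s * v t = v (s + t) := by
  apply ext' <;> rw [mul_val] <;> simp [v]

theorem u_zero : u (0 : F) = 1 := by
  apply ext' <;> simp [u]

theorem v_zero : v (0 : F) = 1 := by
  apply ext' <;> simp [v]

theorem u_inj {s t : F} (h : u s = u t) : s = t := by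
  have := congrArg (fun g : SpecialLinearGroup (Fin 2) F => g.1 0 1) h
  simpa [u] using this

theorem v_inj {s t : F} (h : v s = v t) : s = t := by
  have := congrArg (fun g : SpecialLinearGroup (Fin 2) F => g.1 1 0) h
  simpa [v] using this

theorem u_inv (t : F) : (u t)⁻¹ = u (-t) := by
  rw [inv_eq_iff_mul_eq_one, u_mul, add_neg_cancel, u_zero]

theorem v_inv (t : F) : (v t)⁻¹ = v (-t) := by
  rw [inv_eq_iff_mul_eq_one, v_mul, add_neg_cancel, v_zero]

/-- the upper unitriangular group -/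
def U (F : Type*) [Field F] : Subgroup (SpecialLinearGroup (Fin 2) F) where
  carrier := Set.range u
  mul_mem' := by
    rintro _ _ ⟨s, rfl⟩ ⟨t, rfl⟩
    exact ⟨s + t, (u_mul s t).symm⟩
  one_mem' := ⟨0, u_zero⟩
  inv_mem' := by
    rintro _ ⟨s, rfl⟩
    exact ⟨-s, (u_inv s).symm⟩

/-- the lower unitriangular group -/
def V (F : Type*) [Field F] : Subgroup (SpecialLinearGroup (Fin 2) F) where
  carrier := Set.range v
  mul_mem' := by
    rintro _ _ ⟨s, rfl⟩ ⟨t, rfl⟩
    exact ⟨s + t, (v_mul s t).symm⟩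
  one_mem' := ⟨0, v_zero⟩
  inv_mem' := by
    rintro _ ⟨s, rfl⟩
    exact ⟨-s, (v_inv s).symm⟩

theorem card_U [Finite F] : Nat.card (U F) = Nat.card F := by
  symm
  refine Nat.card_congr (Equiv.ofBijective (fun t : F => (⟨u t, ⟨t, rfl⟩⟩ : U F)) ⟨?_, ?_⟩)
  · intro s t h
    exact u_inj (congrArg Subtype.val h)
  · rintro ⟨_, t, rfl⟩
    exact ⟨t, rfl⟩

theorem card_V [Finite F] : Nat.card (V F) = Nat.card F := by
  symm
  refine Nat.card_congr (Equiv.ofBijective (fun t : F => (⟨v t, ⟨t, rfl⟩⟩ : V F)) ⟨?_, ?_⟩)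
  · intro s t h
    exact v_inj (congrArg Subtype.val h)
  · rintro ⟨_, t, rfl⟩
    exact ⟨t, rfl⟩

/-- `SL₂` is generated by the unitriangular matrices. -/
theorem eq_top {K : Subgroup (SpecialLinearGroup (Fin 2) F)} (hU : U F ≤ K) (hV : V F ≤ K) :
    K = ⊤ := by
  have key : ∀ g : SpecialLinearGroup (Fin 2) F, g.1 1 0 ≠ 0 → g ∈ K := by
    intro g hc
    have hdet := g.2
    rw [det_fin_two] at hdet
    have h1 : g = u ((g.1 0 0 - 1) / g.1 1 0) * v (g.1 1 0) * u ((g.1 1 1 - 1) / g.1 1 0) := by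
      apply ext' <;> rw [mul_val, mul_val, mul_val] <;> simp only [u, v, of_apply, cons_val', cons_val_zero, cons_val_one, cons_val_fin_one]
      · field_simp
        ring
      · field_simp
        linear_combination -hdet
      · simp
      · field_simp
        ring
    rw [h1]
    exact K.mul_mem (K.mul_mem (hU ⟨_, rfl⟩) (hV ⟨_, rfl⟩)) (hU ⟨_, rfl⟩)
  rw [eq_top_iff]
  intro g _
  by_cases hc : g.1 1 0 = 0
  · have hdet := g.2
    rw [det_fin_two, hc, mul_zero, sub_zero] at hdet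
    have hd : g.1 1 1 ≠ 0 := by
      intro h
      rw [h, mul_zero] at hdet
      exact zero_ne_one hdet
    have h1 : g * v 1 ∈ K := by
      apply key
      rw [mul_val]
      simp only [v, of_apply, cons_val', cons_val_zero, cons_val_one, cons_val_fin_one]
      rw [hc]
      simpa using hd
    have h2 : v (1 : F) ∈ K := hV ⟨_, rfl⟩
    have h3 := K.mul_mem h1 (K.inv_mem h2)
    rwa [mul_inv_cancel_right] at h3
  · exact key g hc

theorem top_of_lower {K : Subgroup (SpecialLinearGroup (Fin 2) F)} (hU : U F ≤ K) {t : F}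
    (ht : t ≠ 0) (hv : v t ∈ K) : K = ⊤ := by
  apply eq_top hU
  rintro _ ⟨s, rfl⟩
  have hn : u (-t⁻¹) * v t * u (-t⁻¹) ∈ K :=
    K.mul_mem (K.mul_mem (hU ⟨_, rfl⟩) hv) (hU ⟨_, rfl⟩)
  have hu : u (-s * (t⁻¹) ^ 2) ∈ K := hU ⟨_, rfl⟩
  have h1 : v s * (u (-t⁻¹) * v t * u (-t⁻¹)) = (u (-t⁻¹) * v t * u (-t⁻¹)) * u (-s * (t⁻¹) ^ 2) := by
    apply ext' <;> simp only [mul_val] <;>
      simp only [u, v, of_apply, cons_val', cons_val_zero, cons_val_one, cons_val_fin_one] <;>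
      field_simp <;> ring
  have h2 : v s = (u (-t⁻¹) * v t * u (-t⁻¹)) * u (-s * (t⁻¹) ^ 2) * (u (-t⁻¹) * v t * u (-t⁻¹))⁻¹ := by
    rw [← h1, mul_inv_cancel_right]
  rw [h2]
  exact K.mul_mem (K.mul_mem hn hu) (K.inv_mem hn)

theorem top_of_upper {K : Subgroup (SpecialLinearGroup (Fin 2) F)} (hV : V F ≤ K) {t : F}
    (ht : t ≠ 0) (hu : u t ∈ K) : K = ⊤ := by
  refine eq_top ?_ hV
  rintro _ ⟨s, rfl⟩
  have hn : v (-t⁻¹) * u t * v (-t⁻¹) ∈ K :=
    K.mul_mem (K.mul_mem (hV ⟨_, rfl⟩) hu) (hV ⟨_, rfl⟩)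
  have hv : v (-s * (t⁻¹) ^ 2) ∈ K := hV ⟨_, rfl⟩
  have h1 : u s * (v (-t⁻¹) * u t * v (-t⁻¹)) = (v (-t⁻¹) * u t * v (-t⁻¹)) * v (-s * (t⁻¹) ^ 2) := by
    apply ext' <;> simp only [mul_val] <;>
      simp only [u, v, of_apply, cons_val', cons_val_zero, cons_val_one, cons_val_fin_one] <;>
      field_simp <;> ring
  have h2 : u s = (v (-t⁻¹) * u t * v (-t⁻¹)) * v (-s * (t⁻¹) ^ 2) * (v (-t⁻¹) * u t * v (-t⁻¹))⁻¹ := by
    rw [← h1, mul_inv_cancel_right]
  rw [h2]
  exact K.mul_mem (K.mul_mem hn hv) (K.inv_mem hn)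

/-- **The split torus of `SL₂(q)`.** -/
theorem row_split [Finite F] {p : ℕ} [hp : Fact p.Prime] (hp2 : p ≠ 2) (hpq : p ∣ Nat.card F - 1)
    (hbad : Nat.card F ≠ p + 1) : FprRow (p + 1) 1 p (SpecialLinearGroup (Fin 2) F) := by
  classical
  have hF : Fintype F := Fintype.ofFinite F
  have hcu : Nat.card Fˣ = Nat.card F - 1 := by
    rw [Nat.card_eq_fintype_card, Nat.card_eq_fintype_card, Fintype.card_units]
  obtain ⟨k, hk⟩ := exists_prime_orderOf_dvd_card' (G := Fˣ) p (by rw [hcu]; exact hpq)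
  have hk1 : (k : F) * k ≠ 1 := by
    intro h
    have h1 : k ^ 2 = 1 := by
      apply Units.ext
      rw [Units.val_pow_eq_pow_val, pow_two, h, Units.val_one]
    have h2 := orderOf_dvd_of_pow_eq_one h1
    rw [hk] at h2
    exact hp2 ((Nat.prime_dvd_prime_iff_eq hp.out Nat.prime_two).1 h2)
  have hkk : (k : F) * ((k⁻¹ : Fˣ) : F) = 1 := by rw [← Units.val_mul, mul_inv_cancel, Units.val_one]
  have hdm : ∀ a b : Fˣ, d a * d b = d (a * b) := by
    intro a b
    apply ext' <;> rw [mul_val] <;> simp [d, mul_comm]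
  have hd1 : d (1 : Fˣ) = (1 : SpecialLinearGroup (Fin 2) F) := by
    apply ext' <;> simp [d]
  let D : Fˣ →* SpecialLinearGroup (Fin 2) F := { toFun := d, map_one' := hd1, map_mul' := fun a b => (hdm a b).symm }
  have hx : orderOf (d k) = p := by
    rw [← hk]
    refine orderOf_injective D ?_ k
    intro a b h
    have h1 := congrArg (fun g : SpecialLinearGroup (Fin 2) F => g.1 0 0) h
    apply Units.ext
    simpa [D, d] using h1
  have hdu : ∀ t : F, d k * u t = u (k * k * t) * d k := by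
    intro t
    apply ext' <;> simp only [mul_val] <;>
      simp only [u, d, of_apply, cons_val', cons_val_zero, cons_val_one, cons_val_fin_one]
    · ring
    · linear_combination (-(k : F) * t) * hkk
    · ring
    · ring
  have hdv : ∀ t : F, d k * v t = v (((k⁻¹ : Fˣ) : F) * ((k⁻¹ : Fˣ) : F) * t) * d k := by
    intro t
    apply ext' <;> simp only [mul_val] <;>
      simp only [v, d, of_apply, cons_val', cons_val_zero, cons_val_one, cons_val_fin_one]
    · ring
    · ring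
    · linear_combination (-((k⁻¹ : Fˣ) : F) * t) * hkk
    · ring
  have hq : Nat.card F ≠ 0 := by
    rw [Nat.card_eq_fintype_card]
    exact Fintype.card_ne_zero
  refine row_two_rad_mixed (x := d k) (R₁ := U F) (R₂ := V F) ⟨1, by rw [hx, pow_one]⟩
    ?_ ?_ ?_ ?_ ?_ ?_ ?_
  · rintro _ ⟨t, rfl⟩
    rw [hdu, mul_inv_cancel_right]
    exact ⟨_, rfl⟩
  · rintro _ ⟨t, rfl⟩
    rw [hdv, mul_inv_cancel_right]
    exact ⟨_, rfl⟩
  · rintro _ ⟨t, rfl⟩ h
    rw [hdu] at h
    have h1 := u_inj (mul_right_cancel h)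
    have h2 : ((k : F) * k - 1) * t = 0 := by linear_combination h1
    rcases mul_eq_zero.1 h2 with h3 | h3
    · exact absurd (sub_eq_zero.1 h3) hk1
    · rw [h3, u_zero]
  · rintro _ ⟨t, rfl⟩ h
    rw [hdv] at h
    have h1 := v_inj (mul_right_cancel h)
    have h2 : ((k : F) * k - 1) * t = 0 := by
      linear_combination (-((k : F) * k)) * h1 + (((k : F) * ((k⁻¹ : Fˣ) : F)) * t + t) * hkk
    rcases mul_eq_zero.1 h2 with h3 | h3
    · exact absurd (sub_eq_zero.1 h3) hk1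
    · rw [h3, v_zero]
  · exact eq_top (le_sup_left.trans le_sup_left) (le_sup_right.trans le_sup_left)
  · intro K hK _ hUK h
    have h3 : V F ⊓ K = ⊥ := by
      rw [eq_bot_iff]
      rintro _ ⟨⟨t, rfl⟩, ht⟩
      by_cases ht0 : t = 0
      · rw [mem_bot, ht0, v_zero]
      · exact absurd (top_of_lower hUK ht0 ht) hK
    rw [h3, Subgroup.relIndex_bot_left, card_V] at h
    exact hbad h
  · intro K hK _ hVK h
    have h3 : U F ⊓ K = ⊥ := by
      rw [eq_bot_iff]
      rintro _ ⟨⟨t, rfl⟩, ht⟩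
      by_cases ht0 : t = 0
      · rw [mem_bot, ht0, u_zero]
      · exact absurd (top_of_upper hVK ht0 ht) hK
    rw [h3, Subgroup.relIndex_bot_left, card_U] at h
    exact hbad h

end Cfsg.Agent.H452.FprSLTwo
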