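import Cfsg.Agent.H452.FprTT

/-!
# Rows for `p = 3` in characteristic two: orthogonal and symplectic groups
-/

set_option autoImplicit false

namespace Cfsg.Agent.H452.FprTTRow

open Cfsg Cfsg.Agent.H398.FPR Cfsg.Agent.H452.FprTT Cfsg.Agent.H110.Fpr Cfsg.Agent.H409
open Cfsg.Agent.TitsThree.Siegel Cfsg.Agent.TitsThree.SiegelGen Cfsg.Agent.TitsThree.KSideO
open Cfsg.Agent.TitsThree.SpIdent Cfsg.Agent.TitsThree.SpGen
open Cfsg.Agent.LieClassical Cfsg.Agent.LieClassical.OrthCore Cfsg.Agent.LieClassical.OrthFinite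
open Cfsg.Agent.LieClassical.OrthForms
open QuadraticMap

theorem alt_HO {F V : Type*} [Field F] [AddCommGroup V] [Module F V] (h2 : (2 : F) = 0)
    (Q : QuadraticForm F V) : Alt2 (HO Q) where
  two := h2
  eps := rfl
  sig x := rfl
  alt v := by
    change polar Q v v = 0
    rw [polar_self]
    have : (2 : ℕ) • Q v = (2 : F) * Q v := by rw [nsmul_eq_mul]; rfl
    rw [this, h2, zero_mul]

/-- `E Q`. -/
theorem row_EQ {F V : Type*} [Field F] [Finite F] [AddCommGroup V] [Module F V] [Finite V]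
    (h2 : (2 : F) = 0) {Q : QuadraticForm F V} (hQ : Nondeg Q)
    (hd : 8 ≤ Module.finrank F V ∨ (6 ≤ Module.finrank F V ∧ 4 ≤ Nat.card F)) :
    FprRow 4 1 3 (E Q) := by
  have hND : ∀ v : V, v ≠ 0 → ∃ w, (HO Q).h v w ≠ 0 := by
    intro v hv
    by_contra hcon
    push Not at hcon
    exact hv (hQ v hcon)
  have hκ : ∀ A : Submodule F V, 3 ≤ Module.finrank F A → ∃ w ∈ A, w ≠ 0 ∧ (PO Q).ok w 0 := by
    intro A hA
    obtain ⟨w, hw, hw0, hQw⟩ := exists_sing_mem (Q := Q) A hA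
    exact ⟨w, hw, hw0, (sing_iff Q).2 hQw⟩
  rw [← SG_PO]
  exact row_SG (alt_HO h2 Q) le_rfl hκ hND hd

theorem two_eq_zero {F : Type*} [Field F] [Finite F] (h : Even (Nat.card F)) : (2 : F) = 0 := by
  have := Fintype.ofFinite F
  rw [Nat.card_eq_fintype_card] at h
  have h4 := (FiniteField.even_card_iff_char_two (F := F)).2 (Nat.even_iff.1 h)
  have h5 : CharP F 2 := by rw [← h4]; exact ringChar.charP F
  exact CharTwo.two_eq_zero

section Matrix

variable {ι : Type} [Fintype ι] [DecidableEq ι] {F : Type*} [Field F] [Finite F]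
  {Q : QuadraticForm F (ι → F)}

theorem row_POmega (h2 : (2 : F) = 0) (hQ : Nondeg Q)
    (hd : 8 ≤ Module.finrank F (ι → F) ∨ (6 ≤ Module.finrank F (ι → F) ∧ 4 ≤ Nat.card F)) :
    FprRow 4 1 3 (Cfsg.POmega F ⇑Q) := by
  have hG := good_of_finite hQ (by omega)
  have : Finite ((ι → F) ≃ₗ[F] (ι → F)) := instFin
  exact FprRow.of_surjective Nat.prime_three (toPOmega hG) (toPOmega_surjective hG)
    (row_EQ h2 hQ hd)

end Matrix

/-- `PΩ⁺_{2m}(q)`, `q` even, `m ≥ 4`, or `m = 3` and `q ≥ 4`. -/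
theorem row_POmegaPlus {F : Type} [Field F] [Fintype F] {m : ℕ} (h2 : Even (Nat.card F))
    (hm : 4 ≤ m ∨ (3 ≤ m ∧ 4 ≤ Nat.card F)) :
    FprRow 4 1 3 (Cfsg.POmega F (Cfsg.quadFormPlus m F)) := by
  rw [← coe_plusForm]
  refine row_POmega (two_eq_zero h2) (nondeg_plusForm m F) ?_
  rw [Module.finrank_fintype_fun_eq_card, Fintype.card_sum, Fintype.card_fin]
  omega

/-- `PΩ⁻_{2m}(q)`, `q` even, `m ≥ 4`, or `m = 3` and `q ≥ 4`. -/
theorem row_POmegaMinus {F : Type} [Field F] [Fintype F] {m : ℕ} (h2 : Even (Nat.card F))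
    (hm : 4 ≤ m ∨ (3 ≤ m ∧ 4 ≤ Nat.card F)) {a b : F}
    (hab : ∀ z₁ z₂ : F, z₁ ^ 2 + a * z₁ * z₂ + b * z₂ ^ 2 = 0 → z₁ = 0 ∧ z₂ = 0) :
    FprRow 4 1 3 (Cfsg.POmega F (Cfsg.quadFormMinus (m - 1) F a b)) := by
  rw [← coe_minusForm]
  refine row_POmega (two_eq_zero h2) (nondeg_minusForm (m - 1) F a b hab) ?_
  rw [Module.finrank_fintype_fun_eq_card, Fintype.card_sum, Fintype.card_sum, Fintype.card_fin,
    Fintype.card_fin]
  omega

/-- `PSp_{2m}(q)`, `q` even, `m ≥ 4`, or `m = 3` and `q ≥ 4`. -/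
theorem row_PSp {F : Type*} [Field F] [Finite F] {m : ℕ} (h2 : Even (Nat.card F))
    (hm : 4 ≤ m ∨ (3 ≤ m ∧ 4 ≤ Nat.card F)) : FprRow 4 1 3 (PSp m F) := by
  have hfin : Finite ((Fin m ⊕ Fin m → F) ≃ₗ[F] (Fin m ⊕ Fin m → F)) := instFin
  let e : SG (pq m F) ≃* isos (form m F) := MulEquiv.subgroupCongr SG_pq
  let f : SG (pq m F) →* PSp m F := toPSp.comp e.toMonoidHom
  have hf : Function.Surjective f := toPSp_surjective.comp e.surjective
  refine FprRow.of_surjective Nat.prime_three f hf ?_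
  refine row_SG (alt_form (two_eq_zero h2)) (κ := 1) (by norm_num) κ_form nd_form ?_
  rw [finrank_sp]
  omega

end Cfsg.Agent.H452.FprTTRow
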