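import Cfsg.Agent.H452.FprJ1
import Cfsg.Agent.H452.FprTTRow
import Cfsg.Agent.H398.FPR.FamEOne
import Cfsg.Agent.H398.FPR.Frob

/-!
# `PSp_{2m}(q)`, `q ≥ 8` even, `3 ∣ q + 1`, `p = 3`
-/

set_option autoImplicit false

namespace Cfsg.Agent.H452.FprSpFour

open Cfsg Cfsg.Agent.H398.FPR Cfsg.Agent.H110.Fpr Cfsg.Agent.H409
open Cfsg.Agent.TitsThree.Siegel Cfsg.Agent.TitsThree.SiegelGen
open Cfsg.Agent.TitsThree.SpIdent Cfsg.Agent.TitsThree.SpGen Cfsg.Agent.H452.FprJ1
open Cfsg.Agent.H452.FprTTRow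

section

variable {F : Type*} [Field F] {V : Type*} [AddCommGroup V] [Module F V]
variable {H : HForm F V} {e f : V}

/-- The matrix `A` on the plane `⟨e, f⟩`. -/
def phiL (H : HForm F V) (e f : V) (A : Matrix (Fin 2) (Fin 2) F) : V →ₗ[F] V where
  toFun v := v + ((A 0 0 - 1) * H.h v f + A 0 1 * H.h v e) • e +
    (A 1 0 * H.h v f + (A 1 1 - 1) * H.h v e) • f
  map_add' v w := by
    rw [H.add_left, H.add_left]; module
  map_smul' c v := by
    rw [H.smul_left, H.smul_left, RingHom.id_apply]; module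

theorem phiL_apply (A : Matrix (Fin 2) (Fin 2) F) (v : V) : phiL H e f A v =
    v + ((A 0 0 - 1) * H.h v f + A 0 1 * H.h v e) • e +
    (A 1 0 * H.h v f + (A 1 1 - 1) * H.h v e) • f := rfl

theorem phiL_one : phiL H e f 1 = 1 := by
  ext v
  rw [phiL_apply]
  simp

theorem phiL_mul (hA : Alt2 H) (hef : H.h e f = 1) (A B : Matrix (Fin 2) (Fin 2) F) :
    phiL H e f (A * B) = phiL H e f A * phiL H e f B := by
  have hfe : H.h f e = 1 := by rw [hA.comm e f, hef]
  ext v
  change _ = phiL H e f A (phiL H e f B v)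
  rw [phiL_apply, phiL_apply A, phiL_apply B]
  simp only [H.add_left, H.smul_left, hA.alt, hef, hfe, Matrix.mul_apply, Fin.sum_univ_two,
    mul_zero, add_zero, mul_one]
  module

/-- The homomorphism to linear endomorphisms. -/
def phiE (hA : Alt2 H) (hef : H.h e f = 1) :
    Matrix.SpecialLinearGroup (Fin 2) F →* (V →ₗ[F] V) where
  toFun A := phiL H e f A
  map_one' := by
    rw [Matrix.SpecialLinearGroup.coe_one]
    exact phiL_one
  map_mul' A B := by
    rw [Matrix.SpecialLinearGroup.coe_mul]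
    exact phiL_mul hA hef _ _

/-- The homomorphism to linear automorphisms. -/
def phi (hA : Alt2 H) (hef : H.h e f = 1) :
    Matrix.SpecialLinearGroup (Fin 2) F →* (V ≃ₗ[F] V) :=
  (LinearMap.GeneralLinearGroup.generalLinearEquiv F V).toMonoidHom.comp
    (phiE hA hef).toHomUnits

theorem phi_apply (hA : Alt2 H) (hef : H.h e f = 1) (A : Matrix.SpecialLinearGroup (Fin 2) F)
    (v : V) : phi hA hef A v = v + ((A 0 0 - 1) * H.h v f + A 0 1 * H.h v e) • e +
    (A 1 0 * H.h v f + (A 1 1 - 1) * H.h v e) • f := rfl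

theorem phi_e (hA : Alt2 H) (hef : H.h e f = 1) (A : Matrix.SpecialLinearGroup (Fin 2) F) :
    phi hA hef A e = A 0 0 • e + A 1 0 • f := by
  rw [phi_apply, hA.alt, hef]
  module

theorem phi_f (hA : Alt2 H) (hef : H.h e f = 1) (A : Matrix.SpecialLinearGroup (Fin 2) F) :
    phi hA hef A f = A 0 1 • e + A 1 1 • f := by
  have hfe : H.h f e = 1 := by rw [hA.comm e f, hef]
  rw [phi_apply, hA.alt, hfe]
  module

theorem phi_iso (hA : Alt2 H) (hef : H.h e f = 1) (A : Matrix.SpecialLinearGroup (Fin 2) F) :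
    H.IsIso (phi hA hef A) := by
  have hfe : H.h f e = 1 := by rw [hA.comm e f, hef]
  have hdet : A 0 0 * A 1 1 - A 0 1 * A 1 0 = 1 := by
    have := A.2
    rw [Matrix.det_fin_two] at this
    exact this
  intro v w
  rw [phi_apply, phi_apply]
  simp only [H.add_left, H.add_right, H.smul_left, H.smul_right, hA.alt, hef, hfe, hA.sig,
    hA.comm w e, hA.comm w f, mul_zero, add_zero, mul_one, zero_add]
  linear_combination (H.h v f * H.h w e + H.h v e * H.h w f) * hdet +
    ((H.h v f * H.h w e + H.h v e * H.h w f) * A 0 1 * A 1 0 +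
      A 0 0 * A 1 0 * H.h v f * H.h w f + A 0 1 * A 1 1 * H.h v e * H.h w e) * hA.two

theorem phi_injective (hA : Alt2 H) (hef : H.h e f = 1) : Function.Injective (phi hA hef) := by
  have hfe : H.h f e = 1 := by rw [hA.comm e f, hef]
  intro A B hAB
  have h1 := phi_e hA hef A
  have h2 := phi_f hA hef A
  rw [hAB, phi_e] at h1
  rw [hAB, phi_f] at h2
  have g1 := congrArg (fun v => H.h v f) h1
  have g2 := congrArg (fun v => H.h v e) h1
  have g3 := congrArg (fun v => H.h v f) h2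
  have g4 := congrArg (fun v => H.h v e) h2
  simp only [H.add_left, H.smul_left, hA.alt, hef, hfe, mul_zero, mul_one, add_zero,
    zero_add] at g1 g2 g3 g4
  apply Matrix.SpecialLinearGroup.ext
  intro i j
  fin_cases i <;> fin_cases j
  · exact g1.symm
  · exact g3.symm
  · exact g2.symm
  · exact g4.symm

end

/-- an element of order three -/
def a3 (F : Type*) [Field F] : Matrix.SpecialLinearGroup (Fin 2) F :=
  ⟨!![0, 1; -1, -1], by rw [Matrix.det_fin_two_of]; ring⟩

theorem a3_order {F : Type*} [Field F] : orderOf (a3 F) = 3 := by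
  apply orderOf_eq_prime
  · apply Subtype.ext
    rw [Matrix.SpecialLinearGroup.coe_pow, Matrix.SpecialLinearGroup.coe_one]
    change (!![0, 1; -1, -1] : Matrix (Fin 2) (Fin 2) F) ^ 3 = 1
    rw [pow_succ, pow_succ, pow_one]
    ext i j
    fin_cases i <;> fin_cases j <;> simp
  · intro h
    have h1 := congrArg (fun A : Matrix.SpecialLinearGroup (Fin 2) F => A 0 0) h
    have h2 : (0 : F) = 1 := h1
    exact zero_ne_one h2

/-- a diagonal element -/
def dg {F : Type*} [Field F] (l : F) (hl : l ≠ 0) : Matrix.SpecialLinearGroup (Fin 2) F :=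
  ⟨!![l, 0; 0, l⁻¹], by rw [Matrix.det_fin_two_of, mul_inv_cancel₀ hl]; ring⟩

theorem dg_pow {F : Type*} [Field F] (l : F) (hl : l ≠ 0) (n : ℕ) (h : l ^ n = 1) :
    dg l hl ^ n = 1 := by
  have key : ∀ k : ℕ, ((dg l hl ^ k : Matrix.SpecialLinearGroup (Fin 2) F) :
      Matrix (Fin 2) (Fin 2) F) = !![l ^ k, 0; 0, l⁻¹ ^ k] := by
    intro k
    induction k with
    | zero =>
      rw [pow_zero, Matrix.SpecialLinearGroup.coe_one]
      ext i j
      fin_cases i <;> fin_cases j <;> simp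
    | succ k ih =>
      rw [pow_succ, Matrix.SpecialLinearGroup.coe_mul, ih]
      change !![l ^ k, 0; 0, l⁻¹ ^ k] * !![l, 0; 0, l⁻¹] = _
      ext i j
      fin_cases i <;> fin_cases j <;> simp [pow_succ]
  apply Subtype.ext
  rw [key, inv_pow, h, inv_one, Matrix.SpecialLinearGroup.coe_one]
  ext i j
  fin_cases i <;> fin_cases j <;> simp

/-- **`PSp_{2m}(q)`, `m ≥ 2`, `q ≥ 8` even, `3 ∣ q + 1`.** -/
theorem row_PSp_minus {F : Type*} [Field F] [Finite F] {m : ℕ} (hm : 2 ≤ m)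
    (heven : Even (Nat.card F)) (h8 : 8 ≤ Nat.card F) (h3 : 3 ∣ Nat.card F + 1) :
    FprRow 4 1 3 (PSp m F) := by
  classical
  have := Fintype.ofFinite F
  apply sp_of_SG Nat.prime_three
  have h2 : (2 : F) = 0 := two_eq_zero heven
  have hch : CharP F 2 := charP_two h2
  have hfin : Finite ((Fin m ⊕ Fin m → F) ≃ₗ[F] (Fin m ⊕ Fin m → F)) := instFin
  have hA := alt_form (m := m) h2
  obtain ⟨i0, hi0⟩ : ∃ i : Fin m, i = ⟨0, by omega⟩ := ⟨_, rfl⟩
  obtain ⟨i1, hi1⟩ : ∃ i : Fin m, i = ⟨1, by omega⟩ := ⟨_, rfl⟩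
  have h01 : i1 ≠ i0 := by rw [hi0, hi1]; simp
  have hef : (form m F).h (e m F i0) (f m F i0) = 1 := by rw [form_h, ef, if_pos rfl]
  obtain ⟨φ, hφ⟩ : ∃ φ, φ = phi hA hef := ⟨_, rfl⟩
  have hφS : ∀ A, φ A ∈ SG (pq m F) := by
    intro A
    rw [SG_pq, hφ]
    exact phi_iso hA hef A
  let ψ : Matrix.SpecialLinearGroup (Fin 2) F →* SG (pq m F) := φ.codRestrict _ hφS
  have hψ : Function.Injective ψ := by
    intro A B hAB
    have h1 := congrArg Subtype.val hAB
    have h2 : φ A = φ B := h1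
    rw [hφ] at h2
    exact phi_injective hA hef h2
  -- the subgroup
  have hxK : ψ (a3 F) ∈ ψ.range := ⟨_, rfl⟩
  have hK : UGood 1 7 (⟨ψ (a3 F), hxK⟩ : ψ.range) := by
    refine UGood.of_mulEquiv (MonoidHom.ofInjective hψ).symm ?_
    have h1 : (MonoidHom.ofInjective hψ).symm ⟨ψ (a3 F), hxK⟩ = a3 F := by
      rw [MulEquiv.symm_apply_eq]
      rfl
    rw [h1]
    exact sl_ugood (by rwa [Nat.card_eq_fintype_card] at h8)
      (by rwa [Nat.card_eq_fintype_card] at h3) a3_order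
  -- the second prime
  obtain ⟨r, hr, hrq⟩ := Nat.exists_prime_and_dvd (n := Nat.card F - 1) (by omega)
  obtain ⟨lam, hl1, hlr⟩ := exists_order (F := F) hr hrq
  have hl0 : lam ≠ 0 := by
    rintro rfl
    rw [zero_pow hr.ne_zero] at hlr
    exact zero_ne_one hlr
  have hr2 : r ≠ 2 := by
    rintro rfl
    obtain ⟨k, hk⟩ := heven
    obtain ⟨l, hl⟩ := hrq
    omega
  have hl2 : lam * lam ≠ 1 := by
    intro h
    apply hl1
    have h3 : orderOf lam ∣ 2 := orderOf_dvd_of_pow_eq_one (by rw [pow_two]; exact h)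
    have h4 : orderOf lam ∣ r := orderOf_dvd_of_pow_eq_one hlr
    have h5 : Nat.Coprime 2 r := (Nat.coprime_primes Nat.prime_two hr).2 hr2.symm
    exact orderOf_eq_one_iff.1 (Nat.eq_one_of_dvd_coprimes h5 h3 h4)
  have hM : ∀ t : ℕ, t ≠ 0 → 2 ^ t ≡ 1 [MOD r] → 8 ≤ 2 ^ t := by
    intro t ht h
    by_contra hcon
    push Not at hcon
    have ht3 : t < 3 := by
      by_contra h4
      push Not at h4
      have := Nat.pow_le_pow_right (n := 2) (by norm_num) h4
      omega
    have h5 : r ∣ 2 ^ t - 1 := (Nat.modEq_iff_dvd' Nat.one_le_two_pow).1 h.symm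
    have hr1 := hr.one_lt
    interval_cases t
    · exact ht rfl
    · have := Nat.le_of_dvd (by norm_num) h5
      omega
    · have h6 : r = 3 := (Nat.prime_dvd_prime_iff_eq hr Nat.prime_three).1 h5
      rw [h6] at hrq
      omega
  obtain ⟨y, hy⟩ : ∃ y, y = φ (dg lam hl0) := ⟨_, rfl⟩
  have hyS : y ∈ SG (pq m F) := hy ▸ hφS _
  have hye : y (e m F i0) = lam • e m F i0 := by
    rw [hy, hφ, phi_e]
    change lam • e m F i0 + (0 : F) • f m F i0 = _
    rw [zero_smul, add_zero]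
  have hyf : y (f m F i0) = lam⁻¹ • f m F i0 := by
    rw [hy, hφ, phi_f]
    change (0 : F) • e m F i0 + lam⁻¹ • f m F i0 = _
    rw [zero_smul, zero_add]
  have hyM : ∀ v, (form m F).h v (e m F i0) = 0 → (form m F).h v (f m F i0) = 0 → y v = v := by
    intro v h1 h2
    rw [hy, hφ, phi_apply, h1, h2]
    simp
  have hyr : y ^ r ^ 1 = 1 := by
    rw [pow_one, hy, ← map_pow, dg_pow lam hl0 r hlr, map_one]
  have hyG : UGood 1 8 (⟨y, hyS⟩ : SG (pq m F)) := by
    refine uGood_one (m := e m F i1) (m' := f m F i1) h2 hr hM nd_form trivial trivial hef trivial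
      hl0 hl2 hyS hyr hye hyf hyM ?_ ?_ ?_ ?_ ?_
    · exact ee _ _
    · rw [form_h, ef, if_neg h01]
    · rw [form_h, fe, if_neg h01]
    · exact ff _ _
    · rw [form_h, ef, if_pos rfl]
      exact one_ne_zero
  have hyK : (⟨y, hyS⟩ : SG (pq m F)) ∈ ψ.range := ⟨dg lam hl0, Subtype.ext hy.symm⟩
  have hg := growth_uGood hxK hyK (by norm_num) hK hyG
  intro D hD
  refine ⟨ψ (a3 F), ⟨1, ?_⟩, ?_⟩
  · rw [orderOf_injective ψ hψ, a3_order, pow_one]
  · have := hg D hD
    omega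

end Cfsg.Agent.H452.FprSpFour
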