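import Cfsg.Agent.H452.FprPsuN
import Cfsg.Agent.H110.Fpr.FamSp
import Cfsg.Agent.H110.Fpr.FamO

/-!
# The radical of a totally singular plane in characteristic two, `p = 3`

`x` acts on `T = ⟨e₁, e₂⟩` as an element of order three of `SL(T)`, and trivially on
`M = ⟨e₁, e₂, f₁, f₂⟩^⊥`.
-/

set_option autoImplicit false
open Subgroup MulAction

namespace Cfsg.Agent.H452.FprTT

open Cfsg.Agent.H398.FPR Cfsg.Agent.H452.FprHeis Cfsg.Agent.H452.FprPsuN Cfsg.Agent.H110.Fpr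
open Cfsg.Agent.TitsThree.Siegel Cfsg.Agent.TitsThree.SiegelGen Cfsg.Agent.H409

variable {F : Type*} [Field F] {V : Type*} [AddCommGroup V] [Module F V]
variable {H : HForm F V} {P : PQ H}

/-- Two hyperbolic pairs. -/
structure Fr (P : PQ H) (e1 e2 f1 f2 : V) : Prop where
  se1 : P.ok e1 0
  se2 : P.ok e2 0
  sf1 : P.ok f1 0
  sf2 : P.ok f2 0
  h11 : H.h e1 f1 = 1
  h22 : H.h e2 f2 = 1
  h12 : H.h e1 f2 = 0
  h21 : H.h e2 f1 = 0
  hee : H.h e1 e2 = 0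
  hff : H.h f1 f2 = 0

theorem sw (hA : Alt2 H) (v w : V) : H.h w v = H.h v w := by
  rw [H.swap v w, hA.eps, hA.sig, one_mul]

theorem neg_eq (hA : Alt2 H) (x : F) : -x = x := by
  have := hA.add_self x
  linear_combination -this

/-- the opposite frame -/
theorem Fr.symm {e1 e2 f1 f2 : V} (hA : Alt2 H) (h : Fr P e1 e2 f1 f2) : Fr P f1 f2 e1 e2 where
  se1 := h.sf1
  se2 := h.sf2
  sf1 := h.se1
  sf2 := h.se2
  h11 := by rw [sw hA, h.h11]
  h22 := by rw [sw hA, h.h22]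
  h12 := by rw [sw hA, h.h21]
  h21 := by rw [sw hA, h.h12]
  hee := h.hff
  hff := h.hee

/-- membership in `M` -/
def InM (H : HForm F V) (e1 e2 f1 f2 m : V) : Prop :=
  H.h m e1 = 0 ∧ H.h m e2 = 0 ∧ H.h m f1 = 0 ∧ H.h m f2 = 0

section

variable {e1 e2 f1 f2 : V}

/-- Projection on `M`. -/
theorem Fr.proj (hA : Alt2 H) (h : Fr P e1 e2 f1 f2) (v : V) : ∃ m, InM H e1 e2 f1 f2 m ∧
    v = m + (H.h v f1 • e1 + H.h v f2 • e2 + H.h v e1 • f1 + H.h v e2 • f2) := by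
  have he11 := P.iso h.se1
  have he22 := P.iso h.se2
  have hf11 := P.iso h.sf1
  have hf22 := P.iso h.sf2
  refine ⟨v - (H.h v f1 • e1 + H.h v f2 • e2 + H.h v e1 • f1 + H.h v e2 • f2), ?_, by abel⟩
  refine ⟨?_, ?_, ?_, ?_⟩
  · simp only [H.sub_left, H.add_left, H.smul_left, he11, sw hA e1 e2, h.hee, sw hA e1 f1, h.h11,
      sw hA e1 f2, h.h12]
    ring
  · simp only [H.sub_left, H.add_left, H.smul_left, he22, h.hee, sw hA e2 f1, h.h21,
      sw hA e2 f2, h.h22]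
    ring
  · simp only [H.sub_left, H.add_left, H.smul_left, hf11, h.h11, h.h21, sw hA f1 f2, h.hff]
    ring
  · simp only [H.sub_left, H.add_left, H.smul_left, hf22, h.h12, h.h22, h.hff]
    ring

/-- Coordinates of an element of the radical. -/
structure Dat (H : HForm F V) (e1 e2 f1 f2 : V) (g : V ≃ₗ[F] V) (m1 m2 : V) (a b c d : F) :
    Prop where
  i1 : InM H e1 e2 f1 f2 m1
  i2 : InM H e1 e2 f1 f2 m2
  ge1 : g e1 = e1
  ge2 : g e2 = e2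
  gf1 : g f1 = f1 + m1 + a • e1 + b • e2
  gf2 : g f2 = f2 + m2 + c • e1 + d • e2
  gm : ∀ m, InM H e1 e2 f1 f2 m → g m = m + H.h m m1 • e1 + H.h m m2 • e2

/-- Linear maps agreeing on the frame and `M` are equal. -/
theorem Fr.ext (hA : Alt2 H) (h : Fr P e1 e2 f1 f2) {g g' : V ≃ₗ[F] V} (he1 : g e1 = g' e1)
    (he2 : g e2 = g' e2) (hf1 : g f1 = g' f1) (hf2 : g f2 = g' f2)
    (hm : ∀ m, InM H e1 e2 f1 f2 m → g m = g' m) : g = g' := by
  apply LinearEquiv.ext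
  intro v
  obtain ⟨m, hm', hv⟩ := h.proj hA v
  rw [hv]
  simp only [map_add, map_smul, he1, he2, hf1, hf2, hm m hm']

theorem Dat.ext (hA : Alt2 H) (h : Fr P e1 e2 f1 f2) {g g' : V ≃ₗ[F] V} {m1 m2 : V} {a b c d : F}
    (hg : Dat H e1 e2 f1 f2 g m1 m2 a b c d) (hg' : Dat H e1 e2 f1 f2 g' m1 m2 a b c d) :
    g = g' := by
  apply h.ext hA
  · rw [hg.ge1, hg'.ge1]
  · rw [hg.ge2, hg'.ge2]
  · rw [hg.gf1, hg'.gf1]
  · rw [hg.gf2, hg'.gf2]
  · intro m hm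
    rw [hg.gm m hm, hg'.gm m hm]

theorem InM.add {m m' : V} (h : InM H e1 e2 f1 f2 m) (h' : InM H e1 e2 f1 f2 m') :
    InM H e1 e2 f1 f2 (m + m') := by
  refine ⟨?_, ?_, ?_, ?_⟩
  · rw [H.add_left, h.1, h'.1, add_zero]
  · rw [H.add_left, h.2.1, h'.2.1, add_zero]
  · rw [H.add_left, h.2.2.1, h'.2.2.1, add_zero]
  · rw [H.add_left, h.2.2.2, h'.2.2.2, add_zero]

theorem InM.smul {m : V} (s : F) (h : InM H e1 e2 f1 f2 m) : InM H e1 e2 f1 f2 (s • m) := by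
  refine ⟨?_, ?_, ?_, ?_⟩
  · rw [H.smul_left, h.1, mul_zero]
  · rw [H.smul_left, h.2.1, mul_zero]
  · rw [H.smul_left, h.2.2.1, mul_zero]
  · rw [H.smul_left, h.2.2.2, mul_zero]

theorem InM.zero : InM H e1 e2 f1 f2 0 :=
  ⟨H.zero_left _, H.zero_left _, H.zero_left _, H.zero_left _⟩

theorem InM.neg {m : V} (h : InM H e1 e2 f1 f2 m) : InM H e1 e2 f1 f2 (-m) := by
  refine ⟨?_, ?_, ?_, ?_⟩
  · rw [H.neg_left, h.1, neg_zero]
  · rw [H.neg_left, h.2.1, neg_zero]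
  · rw [H.neg_left, h.2.2.1, neg_zero]
  · rw [H.neg_left, h.2.2.2, neg_zero]

/-- Product of two elements. -/
theorem Dat.mul {g g' : V ≃ₗ[F] V} {m1 m2 m1' m2' : V} {a b c d a' b' c' d' : F}
    (hg : Dat H e1 e2 f1 f2 g m1 m2 a b c d) (hg' : Dat H e1 e2 f1 f2 g' m1' m2' a' b' c' d') :
    Dat H e1 e2 f1 f2 (g * g') (m1 + m1') (m2 + m2') (a + a' + H.h m1' m1) (b + b' + H.h m1' m2)
      (c + c' + H.h m2' m1) (d + d' + H.h m2' m2) where
  i1 := hg.i1.add hg'.i1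
  i2 := hg.i2.add hg'.i2
  ge1 := by
    change g (g' e1) = e1
    rw [hg'.ge1, hg.ge1]
  ge2 := by
    change g (g' e2) = e2
    rw [hg'.ge2, hg.ge2]
  gf1 := by
    change g (g' f1) = _
    rw [hg'.gf1]
    simp only [map_add, map_smul, hg.ge1, hg.ge2, hg.gf1, hg.gm _ hg'.i1]
    module
  gf2 := by
    change g (g' f2) = _
    rw [hg'.gf2]
    simp only [map_add, map_smul, hg.ge1, hg.ge2, hg.gf2, hg.gm _ hg'.i2]
    module
  gm m hm := by
    change g (g' m) = _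
    rw [hg'.gm m hm]
    simp only [map_add, map_smul, hg.ge1, hg.ge2, hg.gm _ hm, H.add_right]
    module

theorem Dat.one : Dat H e1 e2 f1 f2 1 0 0 0 0 0 0 where
  i1 := InM.zero
  i2 := InM.zero
  ge1 := rfl
  ge2 := rfl
  gf1 := by
    change f1 = _
    module
  gf2 := by
    change f2 = _
    module
  gm m _ := by
    change m = _
    rw [H.zero_right]
    module

/-- Inverse. -/
theorem Dat.inv (hA : Alt2 H) {g : V ≃ₗ[F] V} {m1 m2 : V} {a b c d : F}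
    (hg : Dat H e1 e2 f1 f2 g m1 m2 a b c d) :
    Dat H e1 e2 f1 f2 g⁻¹ (-m1) (-m2) (-a) (H.h m1 m2 - b) (H.h m2 m1 - c) (-d) := by
  have key : ∀ v w : V, g w = v → g⁻¹ v = w := by
    rintro v w rfl
    exact g.symm_apply_apply w
  have i1' := hg.i1.neg
  have i2' := hg.i2.neg
  refine ⟨hg.i1.neg, hg.i2.neg, key _ _ hg.ge1, key _ _ hg.ge2, key _ _ ?_, key _ _ ?_, ?_⟩
  · simp only [map_add, map_smul, hg.ge1, hg.ge2, hg.gf1, hg.gm _ hg.i1.neg, H.neg_left, hA.alt]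
    module
  · simp only [map_add, map_smul, hg.ge1, hg.ge2, hg.gf2, hg.gm _ hg.i2.neg, H.neg_left, hA.alt]
    module
  · intro m hm
    apply key
    simp only [map_add, map_smul, hg.ge1, hg.ge2, hg.gm _ hm, H.neg_right]
    module

/-- Coordinates of a Siegel element with `u = s e₁ + t e₂`, `w = m₀ + a e₁ + b e₂`. -/
theorem dat_sie (hA : Alt2 H) (h : Fr P e1 e2 f1 f2) (s t a b c : F) {m u w : V}
    (hm : InM H e1 e2 f1 f2 m) (hu : u = s • e1 + t • e2) (hw : w = m + a • e1 + b • e2)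
    (huu : H.h u u = 0) (huw : H.h u w = 0) :
    Dat H e1 e2 f1 f2 (H.sie u w c huu huw) (s • m) (t • m)
      (c * s * s) (s * b + a * t + c * s * t) (t * a + b * s + c * t * s) (c * t * t) := by
  subst hu hw
  have he11 := P.iso h.se1
  have he22 := P.iso h.se2
  have he21 : H.h e2 e1 = 0 := by rw [sw hA, h.hee]
  have hm' : ∀ {v}, H.h m v = 0 → H.h v m = 0 := fun hv => by rw [sw hA, hv]
  have hf1e1 : H.h f1 e1 = 1 := by rw [sw hA, h.h11]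
  have hf1e2 : H.h f1 e2 = 0 := by rw [sw hA, h.h21]
  have hf2e1 : H.h f2 e1 = 0 := by rw [sw hA, h.h12]
  have hf2e2 : H.h f2 e2 = 1 := by rw [sw hA, h.h22]
  have ca : ∀ x : F, x + x = 0 := hA.add_self
  constructor
  · exact hm.smul s
  · exact hm.smul t
  · rw [H.sie_apply]
    simp only [H.add_right, H.smul_right, he11, h.hee, hm' hm.1, mul_zero, add_zero, zero_smul,
      sub_zero]
  · rw [H.sie_apply]
    simp only [H.add_right, H.smul_right, he21, he22, hm' hm.2.1, mul_zero, add_zero, zero_smul,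
      sub_zero]
  · rw [H.sie_apply]
    simp only [H.add_right, H.smul_right, hf1e1, hf1e2, hm' hm.2.2.1, hA.sig, hA.eps, inv_one,
      one_mul, mul_zero, mul_one, add_zero, zero_add]
    rw [sub_eq_add_neg, ← neg_smul, neg_eq hA]
    have e1' : c * s * s = c * s * s + (s * a + a * s) := by
      have := ca (s * a)
      linear_combination -this
    rw [e1']
    module
  · rw [H.sie_apply]
    simp only [H.add_right, H.smul_right, hf2e1, hf2e2, hm' hm.2.2.2, hA.sig, hA.eps, inv_one,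
      one_mul, mul_zero, mul_one, add_zero, zero_add]
    rw [sub_eq_add_neg, ← neg_smul, neg_eq hA]
    have e1' : c * t * t = c * t * t + (t * b + b * t) := by
      have := ca (t * b)
      linear_combination -this
    rw [e1']
    module
  · intro v hv
    rw [H.sie_apply]
    simp only [H.add_right, H.smul_right, hv.1, hv.2.1, hA.sig, hA.eps, inv_one,
      one_mul, mul_zero, mul_one, add_zero, zero_add, zero_smul]
    rw [sub_eq_add_neg, ← neg_smul, neg_eq hA]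
    module

/-- Uniqueness of the coordinates. -/
theorem Dat.uniq (hA : Alt2 H) (h : Fr P e1 e2 f1 f2) {g : V ≃ₗ[F] V} {m1 m2 m1' m2' : V}
    {a b c d a' b' c' d' : F}
    (hg : Dat H e1 e2 f1 f2 g m1 m2 a b c d) (hg' : Dat H e1 e2 f1 f2 g m1' m2' a' b' c' d') :
    m1 = m1' ∧ m2 = m2' ∧ a = a' ∧ b = b' ∧ c = c' ∧ d = d' := by
  have hf11 := P.iso h.sf1
  have hf22 := P.iso h.sf2
  have hf21 : H.h f2 f1 = 0 := by rw [sw hA, h.hff]
  have key : ∀ {n1 n2 : V} {p q r s : F}, Dat H e1 e2 f1 f2 g n1 n2 p q r s →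
      H.h (g f1) f1 = p ∧ H.h (g f1) f2 = q ∧ H.h (g f2) f1 = r ∧ H.h (g f2) f2 = s := by
    intro n1 n2 p q r s hd
    refine ⟨?_, ?_, ?_, ?_⟩
    · rw [hd.gf1]
      simp only [H.add_left, H.smul_left, hf11, hd.i1.2.2.1, h.h11, h.h21]; ring
    · rw [hd.gf1]
      simp only [H.add_left, H.smul_left, h.hff, hd.i1.2.2.2, h.h12, h.h22]; ring
    · rw [hd.gf2]
      simp only [H.add_left, H.smul_left, hf21, hd.i2.2.2.1, h.h11, h.h21]; ring
    · rw [hd.gf2]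
      simp only [H.add_left, H.smul_left, hf22, hd.i2.2.2.2, h.h12, h.h22]; ring
  obtain ⟨k1, k2, k3, k4⟩ := key hg
  obtain ⟨l1, l2, l3, l4⟩ := key hg'
  have ea : a = a' := by rw [← k1, ← l1]
  have eb : b = b' := by rw [← k2, ← l2]
  have ec : c = c' := by rw [← k3, ← l3]
  have ed : d = d' := by rw [← k4, ← l4]
  subst ea eb ec ed
  refine ⟨?_, ?_, rfl, rfl, rfl, rfl⟩
  · have h1 := hg.gf1
    rw [hg'.gf1] at h1
    exact (add_left_cancel (add_right_cancel (add_right_cancel h1))).symm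
  · have h1 := hg.gf2
    rw [hg'.gf2] at h1
    exact (add_left_cancel (add_right_cancel (add_right_cancel h1))).symm

/-- The radical. -/
def QT (hA : Alt2 H) (P : PQ H) (e1 e2 f1 f2 : V) : Subgroup (V ≃ₗ[F] V) where
  carrier := {g | g ∈ SG P ∧ ∃ (m1 m2 : V) (a b c d : F), Dat H e1 e2 f1 f2 g m1 m2 a b c d}
  one_mem' := ⟨one_mem _, _, _, _, _, _, _, Dat.one⟩
  mul_mem' := by
    rintro g g' ⟨hg, _, _, _, _, _, _, h⟩ ⟨hg', _, _, _, _, _, _, h'⟩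
    exact ⟨mul_mem hg hg', _, _, _, _, _, _, h.mul h'⟩
  inv_mem' := by
    rintro g ⟨hg, _, _, _, _, _, _, h⟩
    exact ⟨inv_mem hg, _, _, _, _, _, _, h.inv hA⟩

theorem okT (hA : Alt2 H) (h : Fr P e1 e2 f1 f2) (s t : F) : P.ok (s • e1 + t • e2) 0 := by
  refine P.congr (P.add (P.sing_smul h.se1 s) (P.sing_smul h.se2 t)) rfl ?_
  rw [H.smul_left, H.smul_right, sw hA, h.hee]
  ring

/-- the elements `z(t)` -/
theorem hz (hA : Alt2 H) (h : Fr P e1 e2 f1 f2) (t : F) : H.h e1 (t • e2) = 0 := by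
  rw [H.smul_right, h.hee, mul_zero]

/-- The commutator subgroup of the radical. -/
def ZT (hA : Alt2 H) (h : Fr P e1 e2 f1 f2) : Subgroup (V ≃ₗ[F] V) where
  carrier := {g | ∃ t : F, g = H.sie e1 (t • e2) 0 (P.iso h.se1) (hz hA h t)}
  one_mem' := ⟨0, by
    rw [← H.sie_zero e1 (P.iso h.se1)]
    exact H.sie_congr _ _ _ _ rfl (zero_smul F e2).symm rfl⟩
  mul_mem' := by
    rintro _ _ ⟨t, rfl⟩ ⟨s, rfl⟩
    refine ⟨t + s, ?_⟩
    rw [H.sie_mul]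
    apply H.sie_congr _ _ _ _ rfl (add_smul t s e2).symm
    rw [H.smul_left, H.smul_right, P.iso h.se2]
    ring
  inv_mem' := by
    rintro _ ⟨t, rfl⟩
    refine ⟨-t, ?_⟩
    rw [H.sie_inv]
    apply H.sie_congr _ _ _ _ rfl (neg_smul t e2).symm
    rw [H.smul_left, H.smul_right, P.iso h.se2]
    ring

theorem dat_z (hA : Alt2 H) (h : Fr P e1 e2 f1 f2) (t : F) :
    Dat H e1 e2 f1 f2 (H.sie e1 (t • e2) 0 (P.iso h.se1) (hz hA h t)) 0 0 0 t t 0 := by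
  have h1 := dat_sie hA h 1 0 0 t 0 (m := 0) (u := e1) (w := t • e2) InM.zero (by module)
    (by module) (P.iso h.se1) (hz hA h t)
  rw [smul_zero, smul_zero] at h1
  have e1 : (0 : F) * 1 * 1 = 0 := by ring
  have e2 : (1 : F) * t + 0 * 0 + 0 * 1 * 0 = t := by ring
  have e3 : (0 : F) * 0 + t * 1 + 0 * 0 * 1 = t := by ring
  have e4 : (0 : F) * 0 * 0 = 0 := by ring
  rwa [e1, e2, e3, e4] at h1

theorem z_mem_ZT (hA : Alt2 H) (h : Fr P e1 e2 f1 f2) {g : V ≃ₗ[F] V} {t : F}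
    (hg : Dat H e1 e2 f1 f2 g 0 0 0 t t 0) : g ∈ ZT hA h :=
  ⟨t, hg.ext hA h (dat_z hA h t)⟩

theorem ZT_le (hA : Alt2 H) (h : Fr P e1 e2 f1 f2) : ZT hA h ≤ QT hA P e1 e2 f1 f2 := by
  rintro _ ⟨t, rfl⟩
  exact ⟨sie_mem_SG P _ _ h.se1 (P.sing_smul h.se2 t), _, _, _, _, _, _, dat_z hA h t⟩

/-- The commutator formula. -/
theorem comm_formula (hA : Alt2 H) (h : Fr P e1 e2 f1 f2) {g g' : V ≃ₗ[F] V}
    {m1 m2 m1' m2' : V} {a b c d a' b' c' d' : F}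
    (hg : Dat H e1 e2 f1 f2 g m1 m2 a b c d) (hg' : Dat H e1 e2 f1 f2 g' m1' m2' a' b' c' d') :
    g * g' = H.sie e1 ((H.h m1' m2 + H.h m1 m2') • e2) 0 (P.iso h.se1) (hz hA h _) * (g' * g) := by
  have h1 := hg.mul hg'
  have h2 := (dat_z hA h (H.h m1' m2 + H.h m1 m2')).mul (hg'.mul hg)
  obtain ⟨t, ht⟩ : ∃ t, t = H.h m1' m2 + H.h m1 m2' := ⟨_, rfl⟩
  rw [← ht] at h2 ⊢
  apply h1.ext hA h
  have e1 : (0 : V) + (m1' + m1) = m1 + m1' := by abel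
  have e2 : (0 : V) + (m2' + m2) = m2 + m2' := by abel
  rw [e1, e2] at h2
  simp only [H.zero_right, add_zero, zero_add] at h2
  have e3 : a' + a + H.h m1 m1' = a + a' + H.h m1' m1 := by rw [sw hA m1 m1']; ring
  have e4 : t + (b' + b + H.h m1 m2') = b + b' + H.h m1' m2 := by
    rw [ht]
    have := hA.add_self (H.h m1 m2')
    linear_combination this
  have e5 : t + (c' + c + H.h m2 m1') = c + c' + H.h m2' m1 := by
    rw [ht, sw hA m1' m2, sw hA m1 m2']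
    have := hA.add_self (H.h m1' m2)
    linear_combination this
  have e6 : d' + d + H.h m2 m2' = d + d' + H.h m2' m2 := by rw [sw hA m2 m2']; ring
  rwa [e3, e4, e5, e6] at h2

/-! ### The element of order three -/

section three

/-- the element `x` -/
def xT (hA : Alt2 H) (h : Fr P e1 e2 f1 f2) : V ≃ₗ[F] V :=
  H.sie e2 f1 0 (P.iso h.se2) h.h21 * H.sie e1 f2 0 (P.iso h.se1) h.h12

theorem xT_apply (hA : Alt2 H) (h : Fr P e1 e2 f1 f2) (v : V) : xT hA h v =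
    H.sie e2 f1 0 (P.iso h.se2) h.h21 (H.sie e1 f2 0 (P.iso h.se1) h.h12 v) := rfl

theorem xT_mem (hA : Alt2 H) (h : Fr P e1 e2 f1 f2) : xT hA h ∈ SG P :=
  mul_mem (sie_mem_SG P _ _ h.se2 h.sf1) (sie_mem_SG P _ _ h.se1 h.sf2)

theorem xT_e1 (hA : Alt2 H) (h : Fr P e1 e2 f1 f2) : xT hA h e1 = e1 + e2 := by
  rw [xT_apply, H.sie_apply, H.sie_apply]
  simp only [P.iso h.se1, h.h12, h.h11, h.hee, hA.eps, inv_one, zero_smul, mul_zero,
    add_zero, sub_zero, mul_one, one_smul, zero_mul]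
  rw [sub_eq_add_neg, ← neg_one_smul F e2, neg_eq hA, one_smul]

theorem xT_e2 (hA : Alt2 H) (h : Fr P e1 e2 f1 f2) : xT hA h e2 = e1 := by
  have he21 : H.h e2 e1 = 0 := by rw [sw hA, h.hee]
  rw [xT_apply]
  have h1 : H.sie e1 f2 0 (P.iso h.se1) h.h12 e2 = e2 + e1 := by
    rw [H.sie_apply]
    simp only [he21, h.h22, hA.eps, inv_one, zero_smul, mul_zero,
      add_zero, mul_one, one_smul]
    rw [sub_eq_add_neg, ← neg_one_smul F e1, neg_eq hA, one_smul]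
  rw [h1, H.sie_apply]
  simp only [H.add_left, P.iso h.se2, h.h21, h.h11, h.hee, hA.eps, inv_one, zero_smul, mul_zero,
    add_zero, mul_one, one_smul, zero_add]
  abel

theorem xT_f1 (hA : Alt2 H) (h : Fr P e1 e2 f1 f2) : xT hA h f1 = f2 := by
  have hf1e1 : H.h f1 e1 = 1 := by rw [sw hA, h.h11]
  have hf1e2 : H.h f1 e2 = 0 := by rw [sw hA, h.h21]
  have hf2e2 : H.h f2 e2 = 1 := by rw [sw hA, h.h22]
  have hf21 : H.h f2 f1 = 0 := by rw [sw hA, h.hff]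
  rw [xT_apply]
  have h1 : H.sie e1 f2 0 (P.iso h.se1) h.h12 f1 = f1 + f2 := by
    rw [H.sie_apply]
    simp only [hf1e1, h.hff, hA.eps, inv_one, zero_smul, mul_zero,
      add_zero, mul_one, one_smul, sub_zero]
  rw [h1, H.sie_apply]
  simp only [H.add_left, P.iso h.sf1, hf1e2, hf2e2, hf21, hA.eps, inv_one, zero_smul, mul_zero,
    add_zero, mul_one, one_smul, zero_add, sub_zero]
  have : f1 + f1 = 0 := by
    have h2 : ((1 : F) + 1) • f1 = 0 := by rw [hA.add_self, zero_smul]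
    rwa [add_smul, one_smul] at h2
  calc f1 + f2 + f1 = f1 + f1 + f2 := by abel
    _ = f2 := by rw [this, zero_add]

theorem xT_f2 (hA : Alt2 H) (h : Fr P e1 e2 f1 f2) : xT hA h f2 = f1 + f2 := by
  have hf2e1 : H.h f2 e1 = 0 := by rw [sw hA, h.h12]
  have hf2e2 : H.h f2 e2 = 1 := by rw [sw hA, h.h22]
  have hf21 : H.h f2 f1 = 0 := by rw [sw hA, h.hff]
  rw [xT_apply]
  have h1 : H.sie e1 f2 0 (P.iso h.se1) h.h12 f2 = f2 := by
    rw [H.sie_apply]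
    simp only [hf2e1, P.iso h.sf2, zero_smul, mul_zero, add_zero, sub_zero]
  rw [h1, H.sie_apply]
  simp only [hf2e2, hf21, hA.eps, inv_one, zero_smul, mul_zero,
    add_zero, mul_one, one_smul, sub_zero]
  rw [add_comm]

theorem xT_m (hA : Alt2 H) (h : Fr P e1 e2 f1 f2) {m : V} (hm : InM H e1 e2 f1 f2 m) :
    xT hA h m = m := by
  rw [xT_apply]
  have h1 : H.sie e1 f2 0 (P.iso h.se1) h.h12 m = m := by
    rw [H.sie_apply]
    simp only [hm.1, hm.2.2.2, zero_smul, mul_zero, add_zero, sub_zero]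
  rw [h1, H.sie_apply]
  simp only [hm.2.1, hm.2.2.1, zero_smul, mul_zero, add_zero, sub_zero]

theorem xT_three (hA : Alt2 H) (h : Fr P e1 e2 f1 f2) : xT hA h ^ 3 = 1 := by
  have h2 : ∀ v : V, v + v = 0 := by
    intro v
    have h2 : ((1 : F) + 1) • v = 0 := by rw [hA.add_self, zero_smul]
    rwa [add_smul, one_smul] at h2
  have e : ∀ v, (xT hA h ^ 3) v = xT hA h (xT hA h (xT hA h v)) := by
    intro v
    rw [pow_succ, pow_succ, pow_one]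
    rfl
  apply h.ext hA
  · rw [e, xT_e1, map_add, xT_e1, xT_e2, map_add, map_add, xT_e1, xT_e2]
    change e1 + e2 + e1 + (e1 + e2) = e1
    calc e1 + e2 + e1 + (e1 + e2) = (e1 + e1) + (e2 + e2) + e1 := by abel
      _ = e1 := by rw [h2, h2, zero_add, zero_add]
  · rw [e, xT_e2, xT_e1, map_add, xT_e1, xT_e2]
    change e1 + e2 + e1 = e2
    calc e1 + e2 + e1 = (e1 + e1) + e2 := by abel
      _ = e2 := by rw [h2, zero_add]
  · rw [e, xT_f1, xT_f2, map_add, xT_f1, xT_f2]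
    change f2 + (f1 + f2) = f1
    calc f2 + (f1 + f2) = (f2 + f2) + f1 := by abel
      _ = f1 := by rw [h2, zero_add]
  · rw [e, xT_f2, map_add, xT_f1, xT_f2, map_add, map_add, xT_f1, xT_f2]
    change f1 + f2 + (f2 + (f1 + f2)) = f2
    calc f1 + f2 + (f2 + (f1 + f2)) = (f1 + f1) + (f2 + f2) + f2 := by abel
      _ = f2 := by rw [h2, h2, zero_add, zero_add]
  · intro m hm
    rw [e, xT_m hA h hm, xT_m hA h hm, xT_m hA h hm]
    rfl

/-- Conjugation by `x`. -/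
theorem dat_conj (hA : Alt2 H) (h : Fr P e1 e2 f1 f2) {g : V ≃ₗ[F] V} {m1 m2 : V}
    {a b c d : F} (hg : Dat H e1 e2 f1 f2 g m1 m2 a b c d) :
    Dat H e1 e2 f1 f2 (xT hA h * g * (xT hA h)⁻¹) (m1 + m2) m1 (a + b + c + d) (a + c)
      (a + b) a := by
  have h2 : ∀ v : V, v + v = 0 := by
    intro v
    have h2 : ((1 : F) + 1) • v = 0 := by rw [hA.add_self, zero_smul]
    rwa [add_smul, one_smul] at h2
  obtain ⟨x, hx⟩ : ∃ x, x = xT hA h := ⟨_, rfl⟩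
  have xe1 := xT_e1 hA h
  have xe2 := xT_e2 hA h
  have xf1 := xT_f1 hA h
  have xf2 := xT_f2 hA h
  have xm := fun {m : V} (hm : InM H e1 e2 f1 f2 m) => xT_m hA h hm
  rw [← hx] at xe1 xe2 xf1 xf2 xm ⊢
  have key : ∀ v w : V, x w = v → (x * g * x⁻¹) v = x (g w) := by
    rintro v w rfl
    change x (g (x⁻¹ (x w))) = _
    have : x⁻¹ (x w) = w := x.symm_apply_apply w
    rw [this]
  have k1 : x (f1 + f2) = f1 := by
    rw [map_add, xf1, xf2]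
    calc f2 + (f1 + f2) = (f2 + f2) + f1 := by abel
      _ = f1 := by rw [h2, zero_add]
  have k2 : x (e1 + e2) = e2 := by
    rw [map_add, xe1, xe2]
    calc e1 + e2 + e1 = (e1 + e1) + e2 := by abel
      _ = e2 := by rw [h2, zero_add]
  refine ⟨hg.i1.add hg.i2, hg.i1, ?_, ?_, ?_, ?_, ?_⟩
  · rw [key e1 e2 xe2, hg.ge2, xe2]
  · rw [key e2 _ k2, map_add, hg.ge1, hg.ge2, k2]
  · rw [key f1 _ k1, map_add, hg.gf1, hg.gf2]
    simp only [map_add, map_smul, xe1, xe2, xf1, xf2, xm hg.i1, xm hg.i2]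
    have h3 := h2 f2
    have h4 : f2 + m1 + a • (e1 + e2) + b • e1 + (f1 + f2 + m2 + c • (e1 + e2) + d • e1) =
      (f2 + f2) + (f1 + (m1 + m2) + (a + b + c + d) • e1 + (a + c) • e2) := by module
    rw [h4, h3, zero_add]
  · rw [key f2 _ xf1, hg.gf1]
    simp only [map_add, map_smul, xe1, xe2, xf1, xm hg.i1]
    module
  · intro m hm
    rw [key m m (xm hm), hg.gm m hm]
    simp only [map_add, map_smul, xe1, xe2, xm hm, H.add_right]
    module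

theorem heisT [Finite (V ≃ₗ[F] V)] (hA : Alt2 H) (h : Fr P e1 e2 f1 f2) :
    Heis (xT hA h) (QT hA P e1 e2 f1 f2) (ZT hA h) where
  le := ZT_le hA h
  cent := by
    rintro _ ⟨t, rfl⟩ g ⟨hg, m1, m2, a, b, c, d, hd⟩
    rw [comm_formula hA h (dat_z hA h t) hd]
    have e1' : (H.h m1 0 + H.h 0 m2) = 0 := by rw [H.zero_left, H.zero_right, add_zero]
    have e2' : H.sie e1 ((H.h m1 0 + H.h 0 m2) • e2) 0 (P.iso h.se1) (hz hA h _) = 1 := by
      rw [← H.sie_zero e1 (P.iso h.se1)]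
      apply H.sie_congr _ _ _ _ rfl _ rfl
      rw [e1', zero_smul]
    rw [e2', one_mul]
  der := by
    rintro g ⟨hg, m1, m2, a, b, c, d, hd⟩ g' ⟨hg', m1', m2', a', b', c', d', hd'⟩
    refine ⟨H.h m1' m2 + H.h m1 m2', ?_⟩
    rw [mul_inv_eq_iff_eq_mul, mul_inv_eq_iff_eq_mul, mul_assoc]
    exact comm_formula hA h hd hd'
  norm := by
    apply mem_normalizer_of_conj
    rintro g ⟨hg, m1, m2, a, b, c, d, hd⟩
    exact ⟨mul_mem (mul_mem (xT_mem hA h) hg) (inv_mem (xT_mem hA h)), _, _, _, _, _, _,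
      dat_conj hA h hd⟩
  fixZ := by
    rintro _ ⟨t, rfl⟩
    rw [← mul_inv_eq_iff_eq_mul]
    have h1 := dat_conj hA h (dat_z hA h t)
    have e1' : (0 : F) + t + t + 0 = 0 := by
      have := hA.add_self t
      linear_combination this
    rw [e1', zero_add, zero_add] at h1
    exact h1.ext hA h (dat_z hA h t)
  free := by
    rintro g ⟨hg, m1, m2, a, b, c, d, hd⟩ ⟨t, ht⟩
    have h1 := dat_conj hA h hd
    rw [mul_inv_eq_iff_eq_mul] at ht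
    rw [ht] at h1
    have h2 := (dat_z hA h t).mul hd
    obtain ⟨k1, k2, k3, k4, k5, k6⟩ := h1.uniq hA h h2
    rw [zero_add] at k1 k2
    have hm2 : m2 = 0 := by
      have : m1 + m2 = m1 + 0 := by rw [k1, add_zero]
      exact add_left_cancel this
    have hm1 : m1 = 0 := by rw [k2, hm2]
    subst hm2 hm1
    simp only [H.zero_left, add_zero, zero_add] at k3 k4 k5 k6
    obtain ⟨hgi, -, -⟩ := SG_iso hg
    have h3 := hgi f1 f2
    rw [hd.gf1, hd.gf2, h.hff] at h3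
    simp only [H.add_left, H.add_right, H.smul_left, H.smul_right, H.zero_left, H.zero_right,
      h.hff, P.iso h.se1, P.iso h.se2, h.hee, sw hA e1 e2, sw hA e1 f1, sw hA e2 f1, h.h11,
      h.h21, h.h12, h.h22, hA.sig, mul_zero, mul_one, add_zero, zero_add] at h3
    have hbc : c = b := by
      have := hA.add_self b
      linear_combination h3 - this
    subst hbc
    have ha : a = 0 := by
      have := hA.add_self c
      linear_combination k3 + k6 - this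
    subst ha
    subst k6
    exact z_mem_ZT hA h hd

end three

/-! ### The remaining hypotheses -/

section rest

/-- nondegeneracy of `M` -/
theorem ndM (hA : Alt2 H) (h : Fr P e1 e2 f1 f2) (hND : ∀ v : V, v ≠ 0 → ∃ w, H.h v w ≠ 0)
    {m : V} (hm : InM H e1 e2 f1 f2 m) (hm0 : ∀ m', InM H e1 e2 f1 f2 m' → H.h m m' = 0) :
    m = 0 := by
  by_contra h0
  obtain ⟨w, hw⟩ := hND m h0
  obtain ⟨m', hm', hw'⟩ := h.proj hA w
  apply hw
  rw [hw']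
  simp only [H.add_right, H.smul_right, hm.1, hm.2.1, hm.2.2.1, hm.2.2.2, hm0 m' hm', mul_zero,
    add_zero]

/-- the elements `sie e₁ m c` -/
theorem dat1 (hA : Alt2 H) (h : Fr P e1 e2 f1 f2) {m : V} (hm : InM H e1 e2 f1 f2 m) (c : F)
    (hw : H.h e1 m = 0) : ∃ p q r s : F,
    Dat H e1 e2 f1 f2 (H.sie e1 m c (P.iso h.se1) hw) m 0 p q r s := by
  have h1 := dat_sie hA h 1 0 0 0 c (m := m) (u := e1) (w := m) hm (by module) (by module)
    (P.iso h.se1) hw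
  rw [one_smul, zero_smul] at h1
  exact ⟨_, _, _, _, h1⟩

theorem dat2 (hA : Alt2 H) (h : Fr P e1 e2 f1 f2) {m : V} (hm : InM H e1 e2 f1 f2 m) (c : F)
    (hw : H.h e2 m = 0) : ∃ p q r s : F,
    Dat H e1 e2 f1 f2 (H.sie e2 m c (P.iso h.se2) hw) 0 m p q r s := by
  have h1 := dat_sie hA h 0 1 0 0 c (m := m) (u := e2) (w := m) hm (by module) (by module)
    (P.iso h.se2) hw
  rw [one_smul, zero_smul] at h1
  exact ⟨_, _, _, _, h1⟩

theorem InM.le1 (hA : Alt2 H) {m : V} (hm : InM H e1 e2 f1 f2 m) : H.h e1 m = 0 := by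
  rw [sw hA, hm.1]

theorem InM.le2 (hA : Alt2 H) {m : V} (hm : InM H e1 e2 f1 f2 m) : H.h e2 m = 0 := by
  rw [sw hA, hm.2.1]

theorem commT (hA : Alt2 H) (h : Fr P e1 e2 f1 f2) {m m' : V} (hm : InM H e1 e2 f1 f2 m)
    (hm' : InM H e1 e2 f1 f2 m') (hmm : H.h m m' ≠ 0) :
    ∀ z ∈ ZT hA h, ∃ a ∈ QT hA P e1 e2 f1 f2, ∃ b ∈ QT hA P e1 e2 f1 f2,
      z = a * b * a⁻¹ * b⁻¹ := by
  rintro _ ⟨t, rfl⟩
  obtain ⟨c, hc⟩ := P.ex m
  obtain ⟨s, hs⟩ : ∃ s : F, s * H.h m m' = t := ⟨t / H.h m m', div_mul_cancel₀ _ hmm⟩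
  have hm'' := hm'.smul s
  obtain ⟨c', hc'⟩ := P.ex (s • m')
  obtain ⟨p, q, r, u, hd⟩ := dat1 hA h hm c (hm.le1 hA)
  obtain ⟨p', q', r', u', hd'⟩ := dat2 hA h hm'' c' (hm''.le2 hA)
  refine ⟨_, ⟨sie_mem_SG P _ _ h.se1 hc, _, _, _, _, _, _, hd⟩, _,
    ⟨sie_mem_SG P _ _ h.se2 hc', _, _, _, _, _, _, hd'⟩, ?_⟩
  rw [eq_mul_inv_iff_mul_eq, eq_mul_inv_iff_mul_eq, mul_assoc, comm_formula hA h hd hd']
  congr 1
  apply H.sie_congr _ _ _ _ rfl _ rfl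
  rw [H.zero_left, H.smul_right, hA.sig, hs, zero_add]

/-- The elements fixing `M`. -/
def WT (hA : Alt2 H) (P : PQ H) (e1 e2 f1 f2 : V) : Subgroup (V ≃ₗ[F] V) where
  carrier := {g | g ∈ QT hA P e1 e2 f1 f2 ∧ ∃ a b c d : F, Dat H e1 e2 f1 f2 g 0 0 a b c d}
  one_mem' := ⟨one_mem _, _, _, _, _, Dat.one⟩
  mul_mem' := by
    rintro g g' ⟨hg, _, _, _, _, h⟩ ⟨hg', _, _, _, _, h'⟩
    have h1 := h.mul h'
    rw [add_zero] at h1
    exact ⟨mul_mem hg hg', _, _, _, _, h1⟩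
  inv_mem' := by
    rintro g ⟨hg, _, _, _, _, h⟩
    have h1 := h.inv hA
    rw [neg_zero] at h1
    exact ⟨inv_mem hg, _, _, _, _, h1⟩

theorem cenT (hA : Alt2 H) (h : Fr P e1 e2 f1 f2) (hND : ∀ v : V, v ≠ 0 → ∃ w, H.h v w ≠ 0) :
    ∀ g ∈ QT hA P e1 e2 f1 f2, (∀ a ∈ QT hA P e1 e2 f1 f2, g * a = a * g) →
      g ∈ WT hA P e1 e2 f1 f2 := by
  rintro g hgQ hcomm
  obtain ⟨hg, m1, m2, a, b, c, d, hd⟩ := hgQ
  have hm2 : m2 = 0 := by
    apply ndM hA h hND hd.i2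
    intro m hm
    obtain ⟨c0, hc0⟩ := P.ex m
    obtain ⟨p, q, r, u, hd'⟩ := dat1 hA h hm c0 (hm.le1 hA)
    have h1 := hcomm _ ⟨sie_mem_SG P _ _ h.se1 hc0, _, _, _, _, _, _, hd'⟩
    have h2 := hd.mul hd'
    rw [h1] at h2
    obtain ⟨-, -, -, k, -, -⟩ := (hd'.mul hd).uniq hA h h2
    rw [H.zero_right] at k
    rw [sw hA]
    linear_combination -k
  have hm1 : m1 = 0 := by
    apply ndM hA h hND hd.i1
    intro m hm
    obtain ⟨c0, hc0⟩ := P.ex m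
    obtain ⟨p, q, r, u, hd'⟩ := dat2 hA h hm c0 (hm.le2 hA)
    have h1 := hcomm _ ⟨sie_mem_SG P _ _ h.se2 hc0, _, _, _, _, _, _, hd'⟩
    have h2 := hd.mul hd'
    rw [h1] at h2
    obtain ⟨-, -, -, -, k, -⟩ := (hd'.mul hd).uniq hA h h2
    rw [H.zero_right] at k
    rw [sw hA]
    linear_combination -k
  subst hm1 hm2
  exact ⟨⟨hg, _, _, _, _, _, _, hd⟩, _, _, _, _, hd⟩

/-- The size of the radical. -/
theorem card_QT [Finite (V ≃ₗ[F] V)] (hA : Alt2 H) (h : Fr P e1 e2 f1 f2) :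
    Nat.card {m // InM H e1 e2 f1 f2 m} ^ 2 * Nat.card (WT hA P e1 e2 f1 f2) ≤
      Nat.card (QT hA P e1 e2 f1 f2) := by
  rw [pow_two, ← Nat.card_prod, ← Nat.card_prod]
  have k1 : ∀ m : {m // InM H e1 e2 f1 f2 m}, ∃ g ∈ QT hA P e1 e2 f1 f2, ∃ p q r s : F,
      Dat H e1 e2 f1 f2 g m 0 p q r s := by
    intro m
    obtain ⟨c, hc⟩ := P.ex (m : V)
    obtain ⟨p, q, r, u, hd⟩ := dat1 hA h m.2 c (m.2.le1 hA)
    exact ⟨_, ⟨sie_mem_SG P _ _ h.se1 hc, _, _, _, _, _, _, hd⟩, _, _, _, _, hd⟩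
  have k2 : ∀ m : {m // InM H e1 e2 f1 f2 m}, ∃ g ∈ QT hA P e1 e2 f1 f2, ∃ p q r s : F,
      Dat H e1 e2 f1 f2 g 0 m p q r s := by
    intro m
    obtain ⟨c, hc⟩ := P.ex (m : V)
    obtain ⟨p, q, r, u, hd⟩ := dat2 hA h m.2 c (m.2.le2 hA)
    exact ⟨_, ⟨sie_mem_SG P _ _ h.se2 hc, _, _, _, _, _, _, hd⟩, _, _, _, _, hd⟩
  choose g1 hg1 p1 q1 r1 s1 hd1 using k1
  choose g2 hg2 p2 q2 r2 s2 hd2 using k2
  refine Nat.card_le_card_of_injective (fun y : ({m // InM H e1 e2 f1 f2 m} ×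
    {m // InM H e1 e2 f1 f2 m}) × WT hA P e1 e2 f1 f2 => (⟨g1 y.1.1 * g2 y.1.2 * y.2,
      mul_mem (mul_mem (hg1 _) (hg2 _)) y.2.2.1⟩ : QT hA P e1 e2 f1 f2)) ?_
  rintro ⟨⟨m, n⟩, w, ⟨hw, a, b, c, d, hwd⟩⟩ ⟨⟨m', n'⟩, w', ⟨hw', a', b', c', d', hwd'⟩⟩ heq
  have h1 : g1 m * g2 n * w = g1 m' * g2 n' * w' := congrArg Subtype.val heq
  have h2 := ((hd1 m).mul (hd2 n)).mul hwd
  have h3 := ((hd1 m').mul (hd2 n')).mul hwd'
  rw [h1] at h2
  obtain ⟨j1, j2, -⟩ := h2.uniq hA h h3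
  rw [add_zero, add_zero, add_zero, add_zero] at j1
  rw [add_zero, add_zero, zero_add, zero_add] at j2
  have e1' : m = m' := Subtype.ext j1
  have e2' : n = n' := Subtype.ext j2
  subst e1' e2'
  have h4 := mul_left_cancel h1
  subst h4
  rfl

theorem card_ZT [Finite F] (hA : Alt2 H) (h : Fr P e1 e2 f1 f2) :
    Nat.card (ZT hA h) ≤ Nat.card F := by
  refine Nat.card_le_card_of_surjective (fun t : F =>
    (⟨H.sie e1 (t • e2) 0 (P.iso h.se1) (hz hA h t), t, rfl⟩ : ZT hA h)) ?_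
  rintro ⟨_, t, rfl⟩
  exact ⟨t, rfl⟩

theorem InM.symm {m : V} (hm : InM H e1 e2 f1 f2 m) : InM H f1 f2 e1 e2 m :=
  ⟨hm.2.2.1, hm.2.2.2, hm.1, hm.2.1⟩

/-- Generation. -/
theorem genT (hA : Alt2 H) (h : Fr P e1 e2 f1 f2) (hND : ∀ v : V, v ≠ 0 → ∃ w, H.h v w ≠ 0)
    {m m' : V} (hm : InM H e1 e2 f1 f2 m) (hm' : InM H e1 e2 f1 f2 m') (hmm : H.h m m' ≠ 0)
    (D : Subgroup (V ≃ₗ[F] V)) (hQ : QT hA P e1 e2 f1 f2 ≤ D) :
    ∀ z ∈ ZT hA (h.symm hA), z ≠ 1 → z ∈ D → SG P ≤ D := by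
  rintro z ⟨t, hzt⟩ hz1 hzD
  have hzS : z ∈ SG P := by
    rw [hzt]
    exact sie_mem_SG P _ _ h.sf1 (P.sing_smul h.sf2 t)
  obtain ⟨hzi, hzok, hzok'⟩ := SG_iso hzS
  have ht0 : t ≠ 0 := by
    rintro rfl
    apply hz1
    rw [hzt, ← H.sie_zero f1 (P.iso h.sf1)]
    exact H.sie_congr _ _ _ _ rfl (zero_smul F f2) rfl
  have hz_e1 : z e1 = e1 + t • f2 := by
    rw [hzt, H.sie_apply]
    simp only [H.smul_right, h.h11, h.h12, hA.eps, hA.sig, inv_one, zero_smul, mul_zero,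
      add_zero, sub_zero, zero_mul, one_smul]
  have hz_e2 : z e2 = e2 + t • f1 := by
    rw [hzt, H.sie_apply]
    simp only [H.smul_right, h.h21, h.h22, hA.eps, hA.sig, inv_one, zero_smul, mul_zero,
      add_zero, mul_one, one_mul, zero_mul]
    rw [sub_eq_add_neg, ← neg_smul, neg_eq hA]
  have hz_m : ∀ n, InM H e1 e2 f1 f2 n → z n = n := by
    intro n hn
    rw [hzt, H.sie_apply]
    simp only [H.smul_right, hn.2.2.1, hn.2.2.2, hA.eps, hA.sig, inv_one, zero_smul, mul_zero,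
      add_zero, mul_one, one_mul, zero_mul, sub_zero]
  obtain ⟨T, hT⟩ : ∃ T, T = Submodule.span F ({e1, e2} : Set V) := ⟨_, rfl⟩
  obtain ⟨T', hT'⟩ : ∃ T', T' = Submodule.span F ({z e1, z e2} : Set V) := ⟨_, rfl⟩
  obtain ⟨M, hM⟩ : ∃ M, M = perp H ({e1, e2, f1, f2} : Set V) := ⟨_, rfl⟩
  have memT : ∀ v, v ∈ T ↔ ∃ a b : F, a • e1 + b • e2 = v := by
    intro v; rw [hT, Submodule.mem_span_pair]
  have memT' : ∀ v, v ∈ T' ↔ ∃ a b : F, a • z e1 + b • z e2 = v := by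
    intro v; rw [hT', Submodule.mem_span_pair]
  have memM : ∀ v, v ∈ M ↔ InM H e1 e2 f1 f2 v := by
    intro v
    rw [hM, mem_perp]
    simp only [Set.mem_insert_iff, Set.mem_singleton_iff, forall_eq_or_imp, forall_eq]
    rfl
  have hTs : ∀ u ∈ T, P.ok u 0 := by
    intro u hu
    obtain ⟨a, b, rfl⟩ := (memT u).1 hu
    exact okT hA h a b
  have hTT : ∀ u ∈ T, ∀ u' ∈ T, H.h u u' = 0 := by
    intro u hu u' hu'
    obtain ⟨a, b, rfl⟩ := (memT u).1 hu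
    obtain ⟨c, d, rfl⟩ := (memT u').1 hu'
    simp only [H.add_left, H.add_right, H.smul_left, H.smul_right, P.iso h.se1, P.iso h.se2,
      h.hee, sw hA e1 e2, mul_zero, add_zero]
  have hTM : ∀ u ∈ T, ∀ w ∈ M, H.h u w = 0 := by
    intro u hu w hw
    obtain ⟨a, b, rfl⟩ := (memT u).1 hu
    have hw' := (memM w).1 hw
    simp only [H.add_left, H.smul_left, hw'.le1 hA, hw'.le2 hA, mul_zero, add_zero]
  -- elements of `T'` are images
  have himg : ∀ u ∈ T', ∃ u0 ∈ T, z u0 = u := by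
    intro u hu
    obtain ⟨a, b, rfl⟩ := (memT' u).1 hu
    exact ⟨a • e1 + b • e2, (memT _).2 ⟨a, b, rfl⟩, by rw [map_add, map_smul, map_smul]⟩
  have himgW : ∀ w ∈ T' ⊔ M, ∃ w0 ∈ T ⊔ M, z w0 = w := by
    intro w hw
    obtain ⟨u, hu, n, hn, rfl⟩ := Submodule.mem_sup.1 hw
    obtain ⟨u0, hu0, rfl⟩ := himg u hu
    exact ⟨u0 + n, Submodule.add_mem_sup hu0 hn, by rw [map_add, hz_m n ((memM n).1 hn)]⟩
  have hrad : rad P T (T ⊔ M) ≤ D := by
    apply rad_le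
    intro u w c hu hw huT hwW hc
    apply hQ
    refine ⟨sie_mem_SG P _ _ (hTs u huT) hc, ?_⟩
    obtain ⟨a, b, hab⟩ := (memT u).1 huT
    obtain ⟨v, hv, n, hn, hvn⟩ := Submodule.mem_sup.1 hwW
    obtain ⟨a', b', hab'⟩ := (memT v).1 hv
    exact ⟨_, _, _, _, _, _, dat_sie hA h a b a' b' c ((memM n).1 hn) hab.symm
      (by rw [← hvn, ← hab']; abel) hu hw⟩
  have hrad' : rad P T' (T' ⊔ M) ≤ D := by
    apply rad_le
    intro u w c hu hw huT hwW hc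
    obtain ⟨u0, hu0, rfl⟩ := himg u huT
    obtain ⟨w0, hw0, rfl⟩ := himgW w hwW
    have h1 : H.h u0 u0 = 0 := hTT u0 hu0 u0 hu0
    have h2 : H.h u0 w0 = 0 := by rw [← hzi, hw]
    have hc0 : P.ok w0 c := by
      have := hzok' _ c hc
      have e : z⁻¹ (z w0) = w0 := z.symm_apply_apply w0
      rwa [e] at this
    exact conj_mem hzD hzi h1 h2 (hrad (sie_mem_rad h1 h2 hu0 hw0 hc0)) hu hw rfl rfl
  refine radI_gen hrad hrad' ?_ hTs hTT ?_ ?_ hTM ?_ ⟨m, (memM m).2 hm, m', (memM m').2 hm', hmm⟩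
    ⟨e2, (memT _).2 ⟨0, 1, by module⟩, z e1, (memT' _).2 ⟨1, 0, by module⟩, ?_⟩
    (fun v _ hv => hND v hv)
  · rw [eq_top_iff]
    intro v _
    obtain ⟨n, hn, hv⟩ := h.proj hA v
    rw [hv]
    have he1 : e1 ∈ T ⊔ M ⊔ T' := (le_sup_left.trans le_sup_left : T ≤ _) ((memT _).2
      ⟨1, 0, by module⟩)
    have he2 : e2 ∈ T ⊔ M ⊔ T' := (le_sup_left.trans le_sup_left : T ≤ _) ((memT _).2
      ⟨0, 1, by module⟩)
    have hf2 : f2 ∈ T ⊔ M ⊔ T' := by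
      have e : f2 = t⁻¹ • (z e1 - e1) := by
        rw [hz_e1, add_sub_cancel_left, smul_smul, inv_mul_cancel₀ ht0, one_smul]
      rw [e]
      exact Submodule.smul_mem _ _ (Submodule.sub_mem _ ((le_sup_right : T' ≤ _) ((memT' _).2
        ⟨1, 0, by module⟩)) he1)
    have hf1 : f1 ∈ T ⊔ M ⊔ T' := by
      have e : f1 = t⁻¹ • (z e2 - e2) := by
        rw [hz_e2, add_sub_cancel_left, smul_smul, inv_mul_cancel₀ ht0, one_smul]
      rw [e]
      exact Submodule.smul_mem _ _ (Submodule.sub_mem _ ((le_sup_right : T' ≤ _) ((memT' _).2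
        ⟨0, 1, by module⟩)) he2)
    refine Submodule.add_mem _ ((le_sup_right.trans le_sup_left : M ≤ _) ((memM n).2 hn)) ?_
    exact Submodule.add_mem _ (Submodule.add_mem _ (Submodule.add_mem _
      (Submodule.smul_mem _ _ he1) (Submodule.smul_mem _ _ he2)) (Submodule.smul_mem _ _ hf1))
      (Submodule.smul_mem _ _ hf2)
  · intro u hu
    obtain ⟨u0, hu0, rfl⟩ := himg u hu
    exact hzok _ _ (hTs u0 hu0)
  · intro u hu u' hu'
    obtain ⟨u0, hu0, rfl⟩ := himg u hu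
    obtain ⟨u0', hu0', rfl⟩ := himg u' hu'
    rw [hzi]
    exact hTT u0 hu0 u0' hu0'
  · intro u hu w hw
    obtain ⟨u0, hu0, rfl⟩ := himg u hu
    rw [← hz_m w ((memM w).1 hw), hzi]
    exact hTM u0 hu0 w hw
  · rw [hz_e1, H.add_left, H.smul_left, h.hee, sw hA e2 f2, h.h22, zero_add, mul_one]
    exact ht0

/-! ### The other frame -/

theorem Fr.swp (hA : Alt2 H) (h : Fr P e1 e2 f1 f2) : Fr P e2 e1 f2 f1 where
  se1 := h.se2
  se2 := h.se1
  sf1 := h.sf2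
  sf2 := h.sf1
  h11 := h.h22
  h22 := h.h11
  h12 := h.h21
  h21 := h.h12
  hee := by rw [sw hA, h.hee]
  hff := by rw [sw hA, h.hff]

theorem InM.swp {m : V} (hm : InM H e1 e2 f1 f2 m) : InM H e2 e1 f2 f1 m :=
  ⟨hm.2.1, hm.1, hm.2.2.2, hm.2.2.1⟩

theorem ZT_swp_le (hA : Alt2 H) (h : Fr P e1 e2 f1 f2) : ZT hA (h.swp hA) ≤ ZT hA h := by
  rintro _ ⟨t, rfl⟩
  have h1 := dat_sie hA h 0 1 t 0 0 (m := 0) (u := e2) (w := t • e1) InM.zero (by module)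
    (by module) (P.iso h.se2) (hz hA (h.swp hA) t)
  rw [smul_zero, smul_zero] at h1
  have e1 : (0 : F) * 0 * 0 = 0 := by ring
  have e2 : (0 : F) * 0 + t * 1 + 0 * 0 * 1 = t := by ring
  have e3 : (1 : F) * t + 0 * 0 + 0 * 1 * 0 = t := by ring
  have e4 : (0 : F) * 1 * 1 = 0 := by ring
  rw [e1, e2, e3, e4] at h1
  exact z_mem_ZT hA h h1

theorem xT_opp (hA : Alt2 H) (h : Fr P e1 e2 f1 f2) :
    xT hA ((h.symm hA).swp hA) = xT hA h := by
  apply h.ext hA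
  · rw [xT_f2 hA ((h.symm hA).swp hA), xT_e1, add_comm]
  · rw [xT_f1 hA ((h.symm hA).swp hA), xT_e2]
  · rw [xT_e2 hA ((h.symm hA).swp hA), xT_f1]
  · rw [xT_e1 hA ((h.symm hA).swp hA), xT_f2, add_comm]
  · intro m hm
    rw [xT_m hA h hm, xT_m hA ((h.symm hA).swp hA) hm.symm.swp]

end rest

end

/-- The subgroup version. -/
theorem heis_quarter_sub' {A : Type*} [Group A] [Finite A] {K : Subgroup A} {x : A} (hxK : x ∈ K)
    {Q1 Q2 Z1 Z2 W1 W2 : Subgroup A} {k : ℕ} (hx : x ^ 3 ^ k = 1) (h1 : Heis x Q1 Z1)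
    (h2 : Heis x Q2 Z2)
    (hcomm1 : ∀ z ∈ Z1, ∃ a ∈ Q1, ∃ b ∈ Q1, z = a * b * a⁻¹ * b⁻¹)
    (hcomm2 : ∀ z ∈ Z2, ∃ a ∈ Q2, ∃ b ∈ Q2, z = a * b * a⁻¹ * b⁻¹)
    (hcen1 : ∀ g ∈ Q1, (∀ a ∈ Q1, g * a = a * g) → g ∈ W1)
    (hcen2 : ∀ g ∈ Q2, (∀ a ∈ Q2, g * a = a * g) → g ∈ W2)
    (hW1 : W1 ≤ Q1) (hW2 : W2 ≤ Q2)
    (hbig1 : 8 * (Nat.card Z1 ^ 2 * Nat.card W1) ≤ Nat.card Q1)
    (hbig2 : 8 * (Nat.card Z2 ^ 2 * Nat.card W2) ≤ Nat.card Q2)
    (hQ1 : Q1 ≤ K) (hQ2 : Q2 ≤ K)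
    (hg1 : ∀ D : Subgroup A, Q1 ≤ D → ∀ z ∈ Z2, z ≠ 1 → z ∈ D → K ≤ D)
    (hg2 : ∀ D : Subgroup A, Q2 ≤ D → ∀ z ∈ Z1, z ≠ 1 → z ∈ D → K ≤ D) :
    UGood 1 4 (⟨x, hxK⟩ : K) := by
  have hh : ∀ Q Z : Subgroup A, Heis x Q Z → Heis (⟨x, hxK⟩ : K) (Q.subgroupOf K)
      (Z.subgroupOf K) := by
    intro Q Z h
    exact {
      le := fun z hz => h.le hz
      cent := fun z hz g hg => Subtype.ext (h.cent z hz g hg)
      der := fun a ha b hb => h.der a ha b hb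
      norm := by
        rw [mem_normalizer_iff]
        intro g
        rw [mem_subgroupOf, mem_subgroupOf]
        exact mem_normalizer_iff.1 h.norm g
      fixZ := fun z hz => Subtype.ext (h.fixZ z hz)
      free := fun r hr hr2 => h.free r hr hr2 }
  have cc : ∀ Q Z : Subgroup A, Q ≤ K → (∀ z ∈ Z, ∃ a ∈ Q, ∃ b ∈ Q, z = a * b * a⁻¹ * b⁻¹) →
      ∀ z ∈ Z.subgroupOf K, ∃ a ∈ Q.subgroupOf K, ∃ b ∈ Q.subgroupOf K,
        z = a * b * a⁻¹ * b⁻¹ := by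
    intro Q Z hQ h z hz
    obtain ⟨a, ha, b, hb, hab⟩ := h z hz
    exact ⟨⟨a, hQ ha⟩, ha, ⟨b, hQ hb⟩, hb, Subtype.ext hab⟩
  have ce : ∀ Q W : Subgroup A, Q ≤ K → (∀ g ∈ Q, (∀ a ∈ Q, g * a = a * g) → g ∈ W) →
      ∀ g ∈ Q.subgroupOf K, (∀ a ∈ Q.subgroupOf K, g * a = a * g) → g ∈ W.subgroupOf K := by
    intro Q W hQ h g hg hc
    apply h g hg
    intro a ha
    exact congrArg Subtype.val (hc ⟨a, hQ ha⟩ ha)
  have cb : ∀ Q Z W : Subgroup A, Q ≤ K → Z ≤ Q → W ≤ Q →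
      8 * (Nat.card Z ^ 2 * Nat.card W) ≤ Nat.card Q →
      8 * (Nat.card (Z.subgroupOf K) ^ 2 * Nat.card (W.subgroupOf K)) ≤
        Nat.card (Q.subgroupOf K) := by
    intro Q Z W hQ hZ hW h
    rw [Nat.card_congr (Subgroup.subgroupOfEquivOfLe hQ).toEquiv,
      Nat.card_congr (Subgroup.subgroupOfEquivOfLe (hZ.trans hQ)).toEquiv,
      Nat.card_congr (Subgroup.subgroupOfEquivOfLe (hW.trans hQ)).toEquiv]
    exact h
  have aux : ∀ Q Z : Subgroup A, Q ≤ K →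
      (∀ D : Subgroup A, Q ≤ D → ∀ z ∈ Z, z ≠ 1 → z ∈ D → K ≤ D) →
      ∀ H : Subgroup K, Q.subgroupOf K ≤ H → ∀ z ∈ Z.subgroupOf K, z ≠ 1 → z ∈ H → H = ⊤ := by
    intro Q Z hQ hg H hQH z hz hz1 hzH
    have h3 := hg (H.map K.subtype) (by
      intro a ha
      exact ⟨⟨a, hQ ha⟩, hQH ha, rfl⟩) z hz (fun h => hz1 (Subtype.ext h)) ⟨z, hzH, rfl⟩
    rw [eq_top_iff]
    intro a _
    obtain ⟨b, hb, hba⟩ := h3 a.2
    have : b = a := Subtype.ext hba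
    rwa [← this]
  exact heis_quarter' (k := k) (Subtype.ext hx) (hh _ _ h1) (hh _ _ h2) (cc _ _ hQ1 hcomm1)
    (cc _ _ hQ2 hcomm2) (ce _ _ hQ1 hcen1) (ce _ _ hQ2 hcen2) (cb _ _ _ hQ1 h1.le hW1 hbig1)
    (cb _ _ _ hQ2 h2.le hW2 hbig2) (aux Q1 Z2 hQ1 hg1) (aux Q2 Z1 hQ2 hg2)

/-- **The ratio `1 / 4` for `x`.** -/
theorem uGood_TT [Finite F] [Finite V] (hA : Alt2 H) {e1 e2 f1 f2 : V} (h : Fr P e1 e2 f1 f2)
    (hND : ∀ v : V, v ≠ 0 → ∃ w, H.h v w ≠ 0)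
    {m m' : V} (hm : InM H e1 e2 f1 f2 m) (hm' : InM H e1 e2 f1 f2 m') (hmm : H.h m m' ≠ 0)
    (hbig : 8 * Nat.card F ^ 2 ≤ Nat.card {m // InM H e1 e2 f1 f2 m} ^ 2) :
    UGood 1 4 (⟨xT hA h, xT_mem hA h⟩ : SG P) := by
  have hfin : Finite (V ≃ₗ[F] V) := instFin
  obtain ⟨h', hh'⟩ : ∃ h' : Fr P f2 f1 e2 e1, h' = (h.symm hA).swp hA := ⟨_, rfl⟩
  have hx2 : Heis (xT hA h) (QT hA P f2 f1 e2 e1) (ZT hA h') := by
    have := heisT hA h'
    rwa [hh', xT_opp hA h] at this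
  have cardM : Nat.card {m // InM H f2 f1 e2 e1 m} = Nat.card {m // InM H e1 e2 f1 f2 m} :=
    Nat.card_congr (Equiv.subtypeEquivRight fun m =>
      ⟨fun hm => hm.symm.swp, fun hm => hm.symm.swp⟩)
  have big : ∀ {a b c d : V} (k : Fr P a b c d), 8 * Nat.card F ^ 2 ≤
      Nat.card {m // InM H a b c d m} ^ 2 → 8 * (Nat.card (ZT hA k) ^ 2 *
        Nat.card (WT hA P a b c d)) ≤ Nat.card (QT hA P a b c d) := by
    intro a b c d k hb
    calc 8 * (Nat.card (ZT hA k) ^ 2 * Nat.card (WT hA P a b c d)) =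
          (8 * Nat.card (ZT hA k) ^ 2) * Nat.card (WT hA P a b c d) := by ring
      _ ≤ (8 * Nat.card F ^ 2) * Nat.card (WT hA P a b c d) := by
        gcongr
        exact card_ZT hA k
      _ ≤ Nat.card {m // InM H a b c d m} ^ 2 * Nat.card (WT hA P a b c d) := by gcongr
      _ ≤ _ := card_QT hA k
  refine heis_quarter_sub' (k := 1) (xT_mem hA h) (by rw [pow_one]; exact xT_three hA h)
    (heisT hA h) hx2 (commT hA h hm hm' hmm) (commT hA h' hm.symm.swp hm'.symm.swp hmm)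
    (cenT hA h hND) (cenT hA h' hND) (fun g hg => hg.1) (fun g hg => hg.1) (big h hbig)
    (big h' (by rw [cardM]; exact hbig)) (fun g hg => hg.1) (fun g hg => hg.1) ?_ ?_
  · intro D hD z hz hz1 hzD
    refine genT hA h hND hm hm' hmm D hD z ?_ hz1 hzD
    rw [hh'] at hz
    exact ZT_swp_le hA (h.symm hA) hz
  · intro D hD z hz hz1 hzD
    refine genT hA h' hND hm.symm.swp hm'.symm.swp hmm D hD z ?_ hz1 hzD
    exact ZT_swp_le hA (h.swp hA) hz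

/-- **The row.** -/
theorem row_SG [Finite F] [Finite V] (hA : Alt2 H) {κ : ℕ} (hκ3 : κ ≤ 3)
    (hκ : ∀ A : Submodule F V, κ ≤ Module.finrank F A → ∃ w ∈ A, w ≠ 0 ∧ P.ok w 0)
    (hND : ∀ v : V, v ≠ 0 → ∃ w, H.h v w ≠ 0)
    (hdim : 8 ≤ Module.finrank F V ∨ (6 ≤ Module.finrank F V ∧ 4 ≤ Nat.card F)) :
    FprRow 4 1 3 (SG P) := by
  have hd6 : 6 ≤ Module.finrank F V := by omega
  have hnd0 : ∀ v ∈ (⊤ : Submodule F V), v ≠ 0 → ∃ w ∈ (⊤ : Submodule F V), H.h v w ≠ 0 := by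
    intro v _ hv
    obtain ⟨w, hw⟩ := hND v hv
    exact ⟨w, trivial, hw⟩
  have hfr : Module.finrank F (⊤ : Submodule F V) = Module.finrank F V := finrank_top F V
  obtain ⟨e0, he0, he0n, se0⟩ := hκ ⊤ (by omega)
  obtain ⟨f0, hf0, sf0, h00⟩ := exists_hyp hnd0 he0 se0 he0n
  obtain ⟨hnd1, hd1⟩ := split_hyp hnd0 he0 hf0 se0 sf0 h00
  rw [top_inf_eq] at hnd1 hd1
  obtain ⟨e1, he1, he1n, se1⟩ := hκ (perp H {e0, f0}) (by omega)
  obtain ⟨f1, hf1, sf1, h11⟩ := exists_hyp hnd1 he1 se1 he1n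
  obtain ⟨hnd2, hd2⟩ := split_hyp hnd1 he1 hf1 se1 sf1 h11
  have he1e : H.h e1 e0 = 0 := he1 e0 (by simp)
  have he1f : H.h e1 f0 = 0 := he1 f0 (by simp)
  have hf1e : H.h f1 e0 = 0 := hf1 e0 (by simp)
  have hf1f : H.h f1 f0 = 0 := hf1 f0 (by simp)
  have hperp : perp H {e0, f0} ⊓ perp H {e1, f1} = perp H {e0, e1, f0, f1} := by
    ext w
    rw [Submodule.mem_inf, mem_perp, mem_perp, mem_perp]
    simp only [Set.mem_insert_iff, Set.mem_singleton_iff, forall_eq_or_imp, forall_eq]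
    tauto
  rw [hperp] at hnd2 hd2
  have hin : ∀ w, w ∈ perp H {e0, e1, f0, f1} ↔ InM H e0 e1 f0 f1 w := by
    intro w
    rw [mem_perp]
    simp only [Set.mem_insert_iff, Set.mem_singleton_iff, forall_eq_or_imp, forall_eq]
    rfl
  obtain ⟨m, hm, hm0⟩ : ∃ m ∈ perp H {e0, e1, f0, f1}, m ≠ 0 := by
    by_contra hcon
    push Not at hcon
    have : perp H {e0, e1, f0, f1} = ⊥ := by
      rw [eq_bot_iff]
      intro v hv
      exact hcon v hv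
    rw [this, finrank_bot] at hd2
    omega
  obtain ⟨m', hm', hmm⟩ := hnd2 m hm hm0
  have hfr : Fr P e0 e1 f0 f1 := ⟨se0, se1, sf0, sf1, h00, h11, H.orth_symm hf1e, he1f,
    H.orth_symm he1e, H.orth_symm hf1f⟩
  have hq2 : 2 ≤ Nat.card F := by
    have := Finite.one_lt_card (α := F)
    omega
  have hcard : Nat.card {m // InM H e0 e1 f0 f1 m} =
      Nat.card F ^ Module.finrank F (perp H {e0, e1, f0, f1}) := by
    rw [← Module.natCard_eq_pow_finrank (K := F) (V := perp H {e0, e1, f0, f1})]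
    exact Nat.card_congr (Equiv.subtypeEquivRight fun w => (hin w).symm)
  have hU := uGood_TT hA hfr hND ((hin m).1 hm) ((hin m').1 hm') hmm (by
    rw [hcard, ← pow_mul]
    obtain ⟨q, hq⟩ : ∃ q, q = Nat.card F := ⟨_, rfl⟩
    rw [← hq] at hq2 hdim ⊢
    rcases hdim with hd | ⟨hd, hq4⟩
    · calc 8 * q ^ 2 ≤ q ^ 6 * q ^ 2 := by
            gcongr
            calc 8 ≤ 2 ^ 6 := by norm_num
              _ ≤ q ^ 6 := Nat.pow_le_pow_left hq2 6
        _ = q ^ 8 := by ring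
        _ ≤ _ := Nat.pow_le_pow_right (by omega) (by omega)
    · calc 8 * q ^ 2 ≤ q ^ 2 * q ^ 2 := by
            gcongr
            calc 8 ≤ 4 ^ 2 := by norm_num
              _ ≤ q ^ 2 := Nat.pow_le_pow_left hq4 2
        _ = q ^ 4 := by ring
        _ ≤ _ := Nat.pow_le_pow_right (by omega) (by omega))
  intro D hD
  refine ⟨_, ?_, hU D hD⟩
  have h4 : orderOf (⟨xT hA hfr, xT_mem hA hfr⟩ : SG P) ∣ 3 ^ 1 := by
    rw [pow_one]
    exact orderOf_dvd_of_pow_eq_one (Subtype.ext (xT_three hA hfr))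
  obtain ⟨k, -, hk⟩ := (Nat.dvd_prime_pow Nat.prime_three).1 h4
  exact ⟨k, hk⟩

end Cfsg.Agent.H452.FprTT
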