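import Cfsg.Agent.H452.FprHeisE

/-!
# Table: `E6`, `SL_3(2)`
-/

set_option autoImplicit false
set_option maxRecDepth 100000

namespace Cfsg.Agent.H452.HeisC.TE6_3

open Cfsg.Lie Cfsg.Agent.TitsThree.KExcRT Cfsg.Agent.H441.FPR

def r : Fin (0 + 3) → Fin (0 + 3) → ℕ := ![![0, 11, 12], ![60, 0, 36], ![59, 35, 0]]
def wp : List (Fin (0 + 3) × Fin (0 + 3)) := [(2, 0), (1, 2), (0, 1)]
def B : Fin (0 + 4) → Matrix (Fin (0 + 3)) (Fin (0 + 3)) (ZMod 2) := ![!![1, 1, 0; 0, 1, 1; 1, 1, 1], !![1,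
  0, 1; 1, 0, 0; 0, 1, 0], !![1, 1, 1; 1, 0, 1; 1, 0, 0], !![1, 1, 0; 0, 1, 1; 1, 1, 1]]
def P : List (ℕ × ℕ) := [(46, 1), (47, 2), (48, 3), (49, 4), (50, 5), (51, 6), (52, 7), (53, 8), (54, 9),
  (62, 17), (63, 18), (64, 19), (65, 20), (66, 21), (67, 22), (68, 23), (69, 24), (70, 25)]
def M : List (ℕ × List (ℕ × ℕ)) := [(11, [(63, 46), (65, 47), (66, 48), (68, 50), (69, 51), (70, 53)]), (36,
  [(48, 49), (51, 52), (53, 54), (62, 63), (64, 65), (67, 68)]), (59, [(46, 62), (47, 64), (49, 66), (50,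
  67), (52, 69), (54, 70)])]
def M' : List (ℕ × List (ℕ × ℕ)) := [(11, [(18, 1), (20, 2), (21, 3), (23, 5), (24, 6), (25, 8)]), (36, [(3,
  4), (6, 7), (8, 9), (17, 18), (19, 20), (22, 23)]), (59, [(1, 17), (2, 19), (4, 21), (5, 22), (7, 24), (9,
  25)])]
def w : List ℕ := [59, 36, 11]
def V : List (ℕ × List ℕ) := [(46, [46, 63]), (47, [47, 65]), (48, [48, 66]), (49, [48, 49]), (50, [50,
  68]), (51, [51, 69]), (52, [51, 52]), (53, [53, 70]), (54, [53, 54]), (62, [46]), (63, [62]), (64, [47]),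
  (65, [64]), (66, [49]), (67, [50]), (68, [67]), (69, [52]), (70, [54])]
def V' : List (ℕ × List ℕ) := [(1, [1, 18]), (2, [2, 20]), (3, [3, 21]), (4, [3, 4]), (5, [5, 23]), (6, [6,
  24]), (7, [6, 7]), (8, [8, 25]), (9, [8, 9]), (17, [1]), (18, [17]), (19, [2]), (20, [19]), (21, [4]),
  (22, [5]), (23, [22]), (24, [7]), (25, [9])]
def bs : Fin 7 → ℕ := ![46, 47, 48, 49, 50, 51, 52]
def cs : Fin 7 → ℕ := ![70, 69, 68, 67, 66, 65, 64]
def bs' : Fin 7 → ℕ := ![1, 2, 3, 4, 5, 6, 7]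
def cs' : Fin 7 → ℕ := ![25, 24, 23, 22, 21, 20, 19]
def steps : List (ℕ × ℕ) := [(1, 69), (2, 66), (2, 68), (2, 70), (3, 67), (3, 69), (4, 68), (5, 69), (6,
  54), (17, 65)]

theorem h : HOK chevE6 71 (P.map Prod.fst) M w V bs cs where
  zlt := by decide +kernel
  gam := by decide +kernel
  blk := by decide +kernel
  act := by decide +kernel
  pair := by decide +kernel
  wW := by decide +kernel
  V1 := by decide +kernel
  V2 := by decide +kernel
  bc := by decide +kernel
  bc' := by decide +kernel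

theorem h' : HOK chevE6 0 (P.map Prod.snd) M' w V' bs' cs' where
  zlt := by decide +kernel
  gam := by decide +kernel
  blk := by decide +kernel
  act := by decide +kernel
  pair := by decide +kernel
  wW := by decide +kernel
  V1 := by decide +kernel
  V2 := by decide +kernel
  bc := by decide +kernel
  bc' := by decide +kernel

theorem tab : TOK chevE6 r (1) wp B 71 0 P M M' w V V' bs cs bs' cs' steps where
  he := by decide
  ra := by decide +kernel
  rb := by decide +kernel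
  rc := by decide +kernel
  rn := by decide +kernel
  hw := by decide +kernel
  hne := by decide +kernel
  B0 := by decide +kernel
  hB := by decide +kernel
  hBk := by decide +kernel
  h := h
  h' := h'
  hP := by decide +kernel
  hg := by decide +kernel
  hN := by decide

end Cfsg.Agent.H452.HeisC.TE6_3
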