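import Cfsg.Agent.H452.FprHeisE

/-!
# Table: `E6`, `SL_5(2)`
-/

set_option autoImplicit false
set_option maxRecDepth 100000

namespace Cfsg.Agent.H452.HeisC.TE6_5

open Cfsg.Lie Cfsg.Agent.TitsThree.KExcRT Cfsg.Agent.H441.FPR

def r : Fin (2 + 3) → Fin (2 + 3) → ℕ := ![![0, 11, 12, 13, 14], ![60, 0, 36, 38, 41], ![59, 35, 0, 37, 40],
  ![58, 33, 34, 0, 39], ![57, 30, 31, 32, 0]]
def wp : List (Fin (2 + 3) × Fin (2 + 3)) := [(4, 2), (0, 3), (3, 1), (2, 0), (1, 4)]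
def B : Fin (2 + 4) → Matrix (Fin (2 + 3)) (Fin (2 + 3)) (ZMod 2) := ![!![1, 1, 0, 1, 1; 0, 1, 0, 0, 1; 1,
  0, 1, 0, 0; 0, 1, 0, 1, 1; 1, 0, 1, 0, 1], !![0, 1, 1, 0, 0; 1, 1, 1, 0, 0; 0, 1, 1, 1, 1; 1, 0, 1, 1, 1;
  1, 1, 0, 1, 0], !![1, 0, 0, 1, 1; 1, 1, 1, 1, 1; 1, 1, 1, 1, 0; 0, 1, 1, 1, 0; 0, 0, 1, 1, 1], !![1, 1, 0,
  1, 0; 1, 1, 0, 1, 1; 1, 1, 1, 0, 0; 0, 1, 1, 1, 1; 1, 0, 1, 1, 1], !![0, 1, 1, 1, 0; 1, 1, 0, 0, 1; 1, 1,
  1, 0, 1; 1, 1, 1, 1, 1; 1, 1, 1, 1, 0], !![1, 1, 0, 1, 1; 0, 1, 0, 0, 1; 1, 0, 1, 0, 0; 0, 1, 0, 1, 1; 1,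
  0, 1, 0, 1]]
def P : List (ℕ × ℕ) := [(46, 1), (47, 2), (48, 3), (49, 4), (50, 5), (51, 6), (52, 7), (53, 8), (54, 9),
  (55, 10), (61, 16), (62, 17), (63, 18), (64, 19), (65, 20), (66, 21), (67, 22), (68, 23), (69, 24), (70,
  25)]
def M : List (ℕ × List (ℕ × ℕ)) := [(13, [(61, 46), (64, 48), (65, 49), (67, 51), (68, 52), (70, 55)]), (31,
  [(48, 46), (53, 50), (55, 52), (64, 61), (66, 63), (70, 68)]), (33, [(49, 47), (52, 50), (55, 53), (63,
  61), (66, 64), (69, 67)]), (41, [(46, 49), (50, 54), (51, 55), (61, 65), (62, 66), (67, 70)]), (59, [(46,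
  62), (47, 64), (49, 66), (50, 67), (52, 69), (54, 70)])]
def M' : List (ℕ × List (ℕ × ℕ)) := [(13, [(16, 1), (19, 3), (20, 4), (22, 6), (23, 7), (25, 10)]), (31,
  [(3, 1), (8, 5), (10, 7), (19, 16), (21, 18), (25, 23)]), (33, [(4, 2), (7, 5), (10, 8), (18, 16), (21,
  19), (24, 22)]), (41, [(1, 4), (5, 9), (6, 10), (16, 20), (17, 21), (22, 25)]), (59, [(1, 17), (2, 19),
  (4, 21), (5, 22), (7, 24), (9, 25)])]
def w : List ℕ := [31, 13, 33, 59, 41]
def V : List (ℕ × List ℕ) := [(46, [48]), (47, [49, 62]), (48, [63, 64]), (49, [65]), (50, [53]), (51, [54,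
  67]), (52, [68]), (53, [53, 55, 68]), (54, [50, 54, 69]), (55, [51, 55]), (61, [48, 63]), (62, [46, 49,
  65]), (63, [47, 66]), (64, [47, 64]), (65, [48, 61, 65]), (66, [62, 66]), (67, [54, 67, 69]), (68, [51,
  55, 68, 70]), (69, [52, 53, 69]), (70, [54, 70])]
def V' : List (ℕ × List ℕ) := [(1, [3]), (2, [4, 17]), (3, [18, 19]), (4, [20]), (5, [8]), (6, [9, 22]), (7,
  [23]), (8, [8, 10, 23]), (9, [5, 9, 24]), (10, [6, 10]), (16, [3, 18]), (17, [1, 4, 20]), (18, [2, 21]),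
  (19, [2, 19]), (20, [3, 16, 20]), (21, [17, 21]), (22, [9, 22, 24]), (23, [6, 10, 23, 25]), (24, [7, 8,
  24]), (25, [9, 25])]
def bs : Fin 11 → ℕ := ![46, 47, 48, 49, 50, 51, 52, 53, 54, 55, 61]
def cs : Fin 11 → ℕ := ![70, 69, 68, 67, 66, 65, 64, 63, 62, 61, 55]
def bs' : Fin 11 → ℕ := ![1, 2, 3, 4, 5, 6, 7, 8, 9, 10, 16]
def cs' : Fin 11 → ℕ := ![25, 24, 23, 22, 21, 20, 19, 18, 17, 16, 10]
def steps : List (ℕ × ℕ) := [(1, 69), (2, 66), (2, 68), (2, 70), (3, 67), (3, 69), (4, 68), (5, 55), (5,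
  69), (16, 66)]

theorem h : HOK chevE6 71 (P.map Prod.fst) M w V bs cs where
  zlt := by decide +kernel
  gam := by decide +kernel
  blk := by decide +kernel
  act := by decide +kernel
  pair := by decide +kernel
  wW := by decide +kernel
  V1 := by decide +kernel
  V2 := by decide +kernel
  bc := by decide +kernel
  bc' := by decide +kernel

theorem h' : HOK chevE6 0 (P.map Prod.snd) M' w V' bs' cs' where
  zlt := by decide +kernel
  gam := by decide +kernel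
  blk := by decide +kernel
  act := by decide +kernel
  pair := by decide +kernel
  wW := by decide +kernel
  V1 := by decide +kernel
  V2 := by decide +kernel
  bc := by decide +kernel
  bc' := by decide +kernel

theorem tab : TOK chevE6 r (1) wp B 71 0 P M M' w V V' bs cs bs' cs' steps where
  he := by decide
  ra := by decide +kernel
  rb := by decide +kernel
  rc := by decide +kernel
  rn := by decide +kernel
  hw := by decide +kernel
  hne := by decide +kernel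
  B0 := by decide +kernel
  hB := by decide +kernel
  hBk := by decide +kernel
  h := h
  h' := h'
  hP := by decide +kernel
  hg := by decide +kernel
  hN := by decide

end Cfsg.Agent.H452.HeisC.TE6_5
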