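import Cfsg.Agent.H452.FprHeisE

/-!
# Table: `E7`, `SL_3(2)`
-/

set_option autoImplicit false
set_option maxRecDepth 100000

namespace Cfsg.Agent.H452.HeisC.TE7_3

open Cfsg.Lie Cfsg.Agent.TitsThree.KExcRT Cfsg.Agent.H441.FPR

def r : Fin (0 + 3) → Fin (0 + 3) → ℕ := ![![0, 33, 34], ![92, 0, 64], ![91, 61, 0]]
def wp : List (Fin (0 + 3) × Fin (0 + 3)) := [(2, 0), (1, 2), (0, 1)]
def B : Fin (0 + 4) → Matrix (Fin (0 + 3)) (Fin (0 + 3)) (ZMod 2) := ![!![1, 1, 0; 0, 1, 1; 1, 1, 1], !![1,
  0, 1; 1, 0, 0; 0, 1, 0], !![1, 1, 1; 1, 0, 1; 1, 0, 0], !![1, 1, 0; 0, 1, 1; 1, 1, 1]]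
def P : List (ℕ × ℕ) := [(93, 1), (94, 2), (95, 3), (96, 4), (97, 5), (99, 7), (100, 8), (101, 9), (103,
  11), (104, 12), (107, 15), (108, 16), (109, 17), (110, 18), (113, 21), (114, 22), (116, 24), (117, 25),
  (118, 26), (120, 28), (121, 29), (122, 30), (123, 31), (124, 32)]
def M : List (ℕ × List (ℕ × ℕ)) := [(33, [(108, 93), (114, 94), (117, 95), (118, 96), (121, 99), (122, 100),
  (123, 103), (124, 109)]), (64, [(96, 97), (100, 101), (103, 104), (107, 108), (109, 110), (113, 114),
  (116, 117), (120, 121)]), (91, [(93, 107), (94, 113), (95, 116), (97, 118), (99, 120), (101, 122), (104,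
  123), (110, 124)])]
def M' : List (ℕ × List (ℕ × ℕ)) := [(33, [(16, 1), (22, 2), (25, 3), (26, 4), (29, 7), (30, 8), (31, 11),
  (32, 17)]), (64, [(4, 5), (8, 9), (11, 12), (15, 16), (17, 18), (21, 22), (24, 25), (28, 29)]), (91, [(1,
  15), (2, 21), (3, 24), (5, 26), (7, 28), (9, 30), (12, 31), (18, 32)])]
def w : List ℕ := [91, 64, 33]
def V : List (ℕ × List ℕ) := [(93, [93, 108]), (94, [94, 114]), (95, [95, 117]), (96, [96, 118]), (97, [96,
  97]), (99, [99, 121]), (100, [100, 122]), (101, [100, 101]), (103, [103, 123]), (104, [103, 104]), (107,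
  [93]), (108, [107]), (109, [109, 124]), (110, [109, 110]), (113, [94]), (114, [113]), (116, [95]), (117,
  [116]), (118, [97]), (120, [99]), (121, [120]), (122, [101]), (123, [104]), (124, [110])]
def V' : List (ℕ × List ℕ) := [(1, [1, 16]), (2, [2, 22]), (3, [3, 25]), (4, [4, 26]), (5, [4, 5]), (7, [7,
  29]), (8, [8, 30]), (9, [8, 9]), (11, [11, 31]), (12, [11, 12]), (15, [1]), (16, [15]), (17, [17, 32]),
  (18, [17, 18]), (21, [2]), (22, [21]), (24, [3]), (25, [24]), (26, [5]), (28, [7]), (29, [28]), (30, [9]),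
  (31, [12]), (32, [18])]
def bs : Fin 7 → ℕ := ![93, 94, 95, 96, 97, 99, 100]
def cs : Fin 7 → ℕ := ![124, 123, 122, 121, 120, 118, 117]
def bs' : Fin 7 → ℕ := ![1, 2, 3, 4, 5, 7, 8]
def cs' : Fin 7 → ℕ := ![32, 31, 30, 29, 28, 26, 25]
def steps : List (ℕ × ℕ) := [(1, 113), (1, 123), (2, 122), (2, 124), (3, 118), (3, 121), (3, 123), (4, 101),
  (4, 120), (4, 122), (5, 121), (7, 122), (12, 124), (24, 121), (36, 88), (37, 89)]

theorem h : HOK chevE7 125 (P.map Prod.fst) M w V bs cs where
  zlt := by decide +kernel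
  gam := by decide +kernel
  blk := by decide +kernel
  act := by decide +kernel
  pair := by decide +kernel
  wW := by decide +kernel
  V1 := by decide +kernel
  V2 := by decide +kernel
  bc := by decide +kernel
  bc' := by decide +kernel

theorem h' : HOK chevE7 0 (P.map Prod.snd) M' w V' bs' cs' where
  zlt := by decide +kernel
  gam := by decide +kernel
  blk := by decide +kernel
  act := by decide +kernel
  pair := by decide +kernel
  wW := by decide +kernel
  V1 := by decide +kernel
  V2 := by decide +kernel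
  bc := by decide +kernel
  bc' := by decide +kernel

theorem tab : TOK chevE7 r (1) wp B 125 0 P M M' w V V' bs cs bs' cs' steps where
  he := by decide
  ra := by decide +kernel
  rb := by decide +kernel
  rc := by decide +kernel
  rn := by decide +kernel
  hw := by decide +kernel
  hne := by decide +kernel
  B0 := by decide +kernel
  hB := by decide +kernel
  hBk := by decide +kernel
  h := h
  h' := h'
  hP := by decide +kernel
  hg := by decide +kernel
  hN := by decide

end Cfsg.Agent.H452.HeisC.TE7_3
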