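import Cfsg.Agent.H452.FprHeisE

/-!
# Table: `E7`, `SL_5(2)`
-/

set_option autoImplicit false
set_option maxRecDepth 100000

namespace Cfsg.Agent.H452.HeisC.TE7_5

open Cfsg.Lie Cfsg.Agent.TitsThree.KExcRT Cfsg.Agent.H441.FPR

def r : Fin (2 + 3) → Fin (2 + 3) → ℕ := ![![0, 33, 34, 36, 39], ![92, 0, 64, 67, 71], ![91, 61, 0, 66, 70],
  ![89, 58, 59, 0, 69], ![86, 54, 55, 56, 0]]
def wp : List (Fin (2 + 3) × Fin (2 + 3)) := [(4, 2), (0, 3), (3, 1), (2, 0), (1, 4)]
def B : Fin (2 + 4) → Matrix (Fin (2 + 3)) (Fin (2 + 3)) (ZMod 2) := ![!![1, 1, 0, 1, 1; 0, 1, 0, 0, 1; 1,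
  0, 1, 0, 0; 0, 1, 0, 1, 1; 1, 0, 1, 0, 1], !![0, 1, 1, 0, 0; 1, 1, 1, 0, 0; 0, 1, 1, 1, 1; 1, 0, 1, 1, 1;
  1, 1, 0, 1, 0], !![1, 0, 0, 1, 1; 1, 1, 1, 1, 1; 1, 1, 1, 1, 0; 0, 1, 1, 1, 0; 0, 0, 1, 1, 1], !![1, 1, 0,
  1, 0; 1, 1, 0, 1, 1; 1, 1, 1, 0, 0; 0, 1, 1, 1, 1; 1, 0, 1, 1, 1], !![0, 1, 1, 1, 0; 1, 1, 0, 0, 1; 1, 1,
  1, 0, 1; 1, 1, 1, 1, 1; 1, 1, 1, 1, 0], !![1, 1, 0, 1, 1; 0, 1, 0, 0, 1; 1, 0, 1, 0, 0; 0, 1, 0, 1, 1; 1,
  0, 1, 0, 1]]
def P : List (ℕ × ℕ) := [(93, 1), (94, 2), (95, 3), (96, 4), (97, 5), (99, 7), (100, 8), (101, 9), (102,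
  10), (103, 11), (104, 12), (105, 13), (106, 14), (107, 15), (108, 16), (109, 17), (110, 18), (111, 19),
  (112, 20), (113, 21), (114, 22), (115, 23), (116, 24), (117, 25), (118, 26), (120, 28), (121, 29), (122,
  30), (123, 31), (124, 32)]
def M : List (ℕ × List (ℕ × ℕ)) := [(36, [(105, 93), (111, 94), (116, 96), (117, 97), (120, 100), (121,
  101), (123, 106), (124, 112)]), (55, [(96, 94), (103, 99), (106, 101), (107, 102), (115, 110), (116, 111),
  (118, 114), (123, 121)]), (58, [(97, 95), (101, 99), (106, 103), (108, 105), (112, 109), (114, 111), (118,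
  116), (122, 120)]), (71, [(94, 97), (99, 104), (100, 106), (102, 108), (109, 115), (111, 117), (113, 118),
  (120, 123)]), (91, [(93, 107), (94, 113), (95, 116), (97, 118), (99, 120), (101, 122), (104, 123), (110,
  124)])]
def M' : List (ℕ × List (ℕ × ℕ)) := [(36, [(13, 1), (19, 2), (24, 4), (25, 5), (28, 8), (29, 9), (31, 14),
  (32, 20)]), (55, [(4, 2), (11, 7), (14, 9), (15, 10), (23, 18), (24, 19), (26, 22), (31, 29)]), (58, [(5,
  3), (9, 7), (14, 11), (16, 13), (20, 17), (22, 19), (26, 24), (30, 28)]), (71, [(2, 5), (7, 12), (8, 14),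
  (10, 16), (17, 23), (19, 25), (21, 26), (28, 31)]), (91, [(1, 15), (2, 21), (3, 24), (5, 26), (7, 28), (9,
  30), (12, 31), (18, 32)])]
def w : List ℕ := [55, 36, 58, 91, 71]
def V : List (ℕ × List ℕ) := [(93, [105]), (94, [96]), (95, [97, 113]), (96, [114, 116]), (97, [117]), (99,
  [103]), (100, [104, 120]), (101, [121]), (102, [107]), (103, [103, 106, 121]), (104, [99, 104, 122]),
  (105, [105, 108]), (106, [100, 106]), (107, [93, 107]), (108, [102, 108]), (109, [112]), (110, [115]),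
  (111, [96, 114]), (112, [124]), (113, [94, 97, 117]), (114, [95, 118]), (115, [109, 115]), (116, [95,
  116]), (117, [96, 111, 117]), (118, [113, 118]), (120, [104, 120, 122]), (121, [100, 106, 121, 123]),
  (122, [101, 103, 122]), (123, [104, 123]), (124, [110, 124])]
def V' : List (ℕ × List ℕ) := [(1, [13]), (2, [4]), (3, [5, 21]), (4, [22, 24]), (5, [25]), (7, [11]), (8,
  [12, 28]), (9, [29]), (10, [15]), (11, [11, 14, 29]), (12, [7, 12, 30]), (13, [13, 16]), (14, [8, 14]),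
  (15, [1, 15]), (16, [10, 16]), (17, [20]), (18, [23]), (19, [4, 22]), (20, [32]), (21, [2, 5, 25]), (22,
  [3, 26]), (23, [17, 23]), (24, [3, 24]), (25, [4, 19, 25]), (26, [21, 26]), (28, [12, 28, 30]), (29, [8,
  14, 29, 31]), (30, [9, 11, 30]), (31, [12, 31]), (32, [18, 32])]
def bs : Fin 11 → ℕ := ![93, 94, 95, 96, 97, 99, 100, 101, 102, 103, 104]
def cs : Fin 11 → ℕ := ![124, 123, 122, 121, 120, 118, 117, 116, 115, 114, 113]
def bs' : Fin 11 → ℕ := ![1, 2, 3, 4, 5, 7, 8, 9, 10, 11, 12]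
def cs' : Fin 11 → ℕ := ![32, 31, 30, 29, 28, 26, 25, 24, 23, 22, 21]
def steps : List (ℕ × ℕ) := [(1, 123), (2, 122), (2, 124), (3, 118), (3, 121), (3, 123), (4, 120), (4, 122),
  (5, 121), (7, 122), (9, 115), (10, 116)]

theorem h : HOK chevE7 125 (P.map Prod.fst) M w V bs cs where
  zlt := by decide +kernel
  gam := by decide +kernel
  blk := by decide +kernel
  act := by decide +kernel
  pair := by decide +kernel
  wW := by decide +kernel
  V1 := by decide +kernel
  V2 := by decide +kernel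
  bc := by decide +kernel
  bc' := by decide +kernel

theorem h' : HOK chevE7 0 (P.map Prod.snd) M' w V' bs' cs' where
  zlt := by decide +kernel
  gam := by decide +kernel
  blk := by decide +kernel
  act := by decide +kernel
  pair := by decide +kernel
  wW := by decide +kernel
  V1 := by decide +kernel
  V2 := by decide +kernel
  bc := by decide +kernel
  bc' := by decide +kernel

theorem tab : TOK chevE7 r (1) wp B 125 0 P M M' w V V' bs cs bs' cs' steps where
  he := by decide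
  ra := by decide +kernel
  rb := by decide +kernel
  rc := by decide +kernel
  rn := by decide +kernel
  hw := by decide +kernel
  hne := by decide +kernel
  B0 := by decide +kernel
  hB := by decide +kernel
  hBk := by decide +kernel
  h := h
  h' := h'
  hP := by decide +kernel
  hg := by decide +kernel
  hN := by decide

end Cfsg.Agent.H452.HeisC.TE7_5
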