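import Cfsg.Agent.H452.FprHeisE

/-!
# Table: `E8`, `SL_3(2)`
-/

set_option autoImplicit false
set_option maxRecDepth 100000

namespace Cfsg.Agent.H452.HeisC.TE8_3

open Cfsg.Lie Cfsg.Agent.TitsThree.KExcRT Cfsg.Agent.H441.FPR

def r : Fin (0 + 3) → Fin (0 + 3) → ℕ := ![![0, 13, 20], ![226, 0, 162], ![219, 77, 0]]
def wp : List (Fin (0 + 3) × Fin (0 + 3)) := [(2, 0), (1, 2), (0, 1)]
def B : Fin (0 + 4) → Matrix (Fin (0 + 3)) (Fin (0 + 3)) (ZMod 2) := ![!![1, 1, 0; 0, 1, 1; 1, 1, 1], !![1,
  0, 1; 1, 0, 0; 0, 1, 0], !![1, 1, 1; 1, 0, 1; 1, 0, 0], !![1, 1, 0; 0, 1, 1; 1, 1, 1]]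
def P : List (ℕ × ℕ) := [(120, 1), (122, 2), (125, 3), (129, 4), (134, 5), (140, 6), (146, 7), (151, 8),
  (155, 9), (158, 10), (160, 11), (161, 12), (168, 14), (173, 15), (177, 16), (180, 17), (182, 18), (183,
  19), (220, 56), (221, 57), (222, 59), (223, 62), (224, 66), (225, 71), (227, 78), (228, 79), (229, 81),
  (230, 84), (231, 88), (232, 93), (233, 99), (234, 105), (235, 110), (236, 114), (237, 117), (238, 119)]
def M : List (ℕ × List (ℕ × ℕ)) := [(13, [(227, 120), (228, 122), (229, 125), (230, 129), (231, 134), (232,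
  140), (233, 146), (234, 151), (235, 155), (236, 158), (237, 160), (238, 161)]), (162, [(140, 168), (151,
  173), (155, 177), (158, 180), (160, 182), (161, 183), (220, 227), (221, 228), (222, 229), (223, 230),
  (224, 231), (225, 233)]), (219, [(120, 220), (122, 221), (125, 222), (129, 223), (134, 224), (146, 225),
  (168, 232), (173, 234), (177, 235), (180, 236), (182, 237), (183, 238)])]
def M' : List (ℕ × List (ℕ × ℕ)) := [(13, [(78, 1), (79, 2), (81, 3), (84, 4), (88, 5), (93, 6), (99, 7),
  (105, 8), (110, 9), (114, 10), (117, 11), (119, 12)]), (162, [(6, 14), (8, 15), (9, 16), (10, 17), (11,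
  18), (12, 19), (56, 78), (57, 79), (59, 81), (62, 84), (66, 88), (71, 99)]), (219, [(1, 56), (2, 57), (3,
  59), (4, 62), (5, 66), (7, 71), (14, 93), (15, 105), (16, 110), (17, 114), (18, 117), (19, 119)])]
def w : List ℕ := [219, 162, 13]
def V : List (ℕ × List ℕ) := [(120, [120, 227]), (122, [122, 228]), (125, [125, 229]), (129, [129, 230]),
  (134, [134, 231]), (140, [140, 232]), (146, [146, 233]), (151, [151, 234]), (155, [155, 235]), (158, [158,
  236]), (160, [160, 237]), (161, [161, 238]), (168, [140, 168]), (173, [151, 173]), (177, [155, 177]),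
  (180, [158, 180]), (182, [160, 182]), (183, [161, 183]), (220, [120]), (221, [122]), (222, [125]), (223,
  [129]), (224, [134]), (225, [146]), (227, [220]), (228, [221]), (229, [222]), (230, [223]), (231, [224]),
  (232, [168]), (233, [225]), (234, [173]), (235, [177]), (236, [180]), (237, [182]), (238, [183])]
def V' : List (ℕ × List ℕ) := [(1, [1, 78]), (2, [2, 79]), (3, [3, 81]), (4, [4, 84]), (5, [5, 88]), (6, [6,
  93]), (7, [7, 99]), (8, [8, 105]), (9, [9, 110]), (10, [10, 114]), (11, [11, 117]), (12, [12, 119]), (14,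
  [6, 14]), (15, [8, 15]), (16, [9, 16]), (17, [10, 17]), (18, [11, 18]), (19, [12, 19]), (56, [1]), (57,
  [2]), (59, [3]), (62, [4]), (66, [5]), (71, [7]), (78, [56]), (79, [57]), (81, [59]), (84, [62]), (88,
  [66]), (93, [14]), (99, [71]), (105, [15]), (110, [16]), (114, [17]), (117, [18]), (119, [19])]
def bs : Fin 7 → ℕ := ![120, 122, 125, 129, 134, 140, 146]
def cs : Fin 7 → ℕ := ![238, 237, 236, 235, 234, 233, 232]
def bs' : Fin 7 → ℕ := ![1, 2, 3, 4, 5, 6, 7]
def cs' : Fin 7 → ℕ := ![119, 117, 114, 110, 105, 99, 93]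
def steps : List (ℕ × ℕ) := [(1, 237), (2, 236), (2, 238), (3, 235), (3, 237), (4, 234), (4, 236), (5, 232),
  (5, 233), (5, 235), (6, 225), (6, 234), (7, 234), (14, 233)]

theorem h : HOK chevE8 239 (P.map Prod.fst) M w V bs cs where
  zlt := by decide +kernel
  gam := by decide +kernel
  blk := by decide +kernel
  act := by decide +kernel
  pair := by decide +kernel
  wW := by decide +kernel
  V1 := by decide +kernel
  V2 := by decide +kernel
  bc := by decide +kernel
  bc' := by decide +kernel

theorem h' : HOK chevE8 0 (P.map Prod.snd) M' w V' bs' cs' where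
  zlt := by decide +kernel
  gam := by decide +kernel
  blk := by decide +kernel
  act := by decide +kernel
  pair := by decide +kernel
  wW := by decide +kernel
  V1 := by decide +kernel
  V2 := by decide +kernel
  bc := by decide +kernel
  bc' := by decide +kernel

theorem tab : TOK chevE8 r (1) wp B 239 0 P M M' w V V' bs cs bs' cs' steps where
  he := by decide
  ra := by decide +kernel
  rb := by decide +kernel
  rc := by decide +kernel
  rn := by decide +kernel
  hw := by decide +kernel
  hne := by decide +kernel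
  B0 := by decide +kernel
  hB := by decide +kernel
  hBk := by decide +kernel
  h := h
  h' := h'
  hP := by decide +kernel
  hg := by decide +kernel
  hN := by decide

end Cfsg.Agent.H452.HeisC.TE8_3
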