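import Cfsg.Agent.H452.FprHeisE

/-!
# Table: `E8`, `SL_5(2)`
-/

set_option autoImplicit false
set_option maxRecDepth 100000

namespace Cfsg.Agent.H452.HeisC.TE8_5

open Cfsg.Lie Cfsg.Agent.TitsThree.KExcRT Cfsg.Agent.H441.FPR

def r : Fin (2 + 3) → Fin (2 + 3) → ℕ := ![![0, 13, 25, 32, 35], ![226, 0, 163, 165, 167], ![214, 76, 0,
  131, 133], ![207, 74, 108, 0, 124], ![204, 72, 106, 115, 0]]
def wp : List (Fin (2 + 3) × Fin (2 + 3)) := [(4, 2), (0, 3), (3, 1), (2, 0), (1, 4)]
def B : Fin (2 + 4) → Matrix (Fin (2 + 3)) (Fin (2 + 3)) (ZMod 2) := ![!![1, 1, 0, 1, 1; 0, 1, 0, 0, 1; 1,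
  0, 1, 0, 0; 0, 1, 0, 1, 1; 1, 0, 1, 0, 1], !![0, 1, 1, 0, 0; 1, 1, 1, 0, 0; 0, 1, 1, 1, 1; 1, 0, 1, 1, 1;
  1, 1, 0, 1, 0], !![1, 0, 0, 1, 1; 1, 1, 1, 1, 1; 1, 1, 1, 1, 0; 0, 1, 1, 1, 0; 0, 0, 1, 1, 1], !![1, 1, 0,
  1, 0; 1, 1, 0, 1, 1; 1, 1, 1, 0, 0; 0, 1, 1, 1, 1; 1, 0, 1, 1, 1], !![0, 1, 1, 1, 0; 1, 1, 0, 0, 1; 1, 1,
  1, 0, 1; 1, 1, 1, 1, 1; 1, 1, 1, 1, 0], !![1, 1, 0, 1, 1; 0, 1, 0, 0, 1; 1, 0, 1, 0, 0; 0, 1, 0, 1, 1; 1,
  0, 1, 0, 1]]
def P : List (ℕ × ℕ) := [(120, 1), (122, 2), (125, 3), (129, 4), (134, 5), (140, 6), (146, 7), (151, 8),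
  (155, 9), (158, 10), (160, 11), (161, 12), (168, 14), (173, 15), (180, 17), (183, 19), (187, 21), (190,
  22), (192, 23), (193, 24), (196, 26), (199, 28), (201, 30), (202, 31), (203, 33), (206, 36), (208, 37),
  (209, 38), (211, 40), (213, 43), (215, 46), (216, 47), (217, 49), (218, 52), (220, 56), (222, 59), (224,
  66), (225, 71), (227, 78), (228, 79), (229, 81), (230, 84), (231, 88), (232, 93), (233, 99), (234, 105),
  (235, 110), (236, 114), (237, 117), (238, 119)]
def M : List (ℕ × List (ℕ × ℕ)) := [(32, [(208, 120), (209, 122), (213, 129), (217, 134), (222, 140), (225,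
  158), (229, 168), (233, 180), (234, 190), (235, 196), (237, 201), (238, 202)]), (74, [(168, 125), (180,
  146), (190, 151), (196, 155), (201, 160), (202, 161), (227, 208), (228, 209), (230, 213), (231, 217),
  (232, 222), (236, 225)]), (106, [(134, 120), (161, 151), (183, 173), (199, 187), (202, 190), (203, 192),
  (216, 206), (217, 208), (218, 211), (224, 220), (231, 227), (238, 234)]), (167, [(120, 168), (146, 183),
  (151, 193), (155, 199), (158, 202), (160, 203), (206, 228), (208, 229), (211, 230), (215, 231), (220,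
  232), (225, 238)]), (214, [(120, 215), (122, 216), (125, 217), (129, 218), (140, 224), (151, 225), (168,
  231), (173, 233), (187, 235), (190, 236), (192, 237), (193, 238)])]
def M' : List (ℕ × List (ℕ × ℕ)) := [(32, [(37, 1), (38, 2), (43, 4), (49, 5), (59, 6), (71, 10), (81, 14),
  (99, 17), (105, 22), (110, 26), (117, 30), (119, 31)]), (74, [(14, 3), (17, 7), (22, 8), (26, 9), (30,
  11), (31, 12), (78, 37), (79, 38), (84, 43), (88, 49), (93, 59), (114, 71)]), (106, [(5, 1), (12, 8), (19,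
  15), (28, 21), (31, 22), (33, 23), (47, 36), (49, 37), (52, 40), (66, 56), (88, 78), (119, 105)]), (167,
  [(1, 14), (7, 19), (8, 24), (9, 28), (10, 31), (11, 33), (36, 79), (37, 81), (40, 84), (46, 88), (56, 93),
  (71, 119)]), (214, [(1, 46), (2, 47), (3, 49), (4, 52), (6, 66), (8, 71), (14, 88), (15, 99), (21, 110),
  (22, 114), (23, 117), (24, 119)])]
def w : List ℕ := [106, 32, 74, 214, 167]
def V : List (ℕ × List ℕ) := [(120, [134]), (122, [209]), (125, [168, 215]), (129, [213]), (134, [217,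
  227]), (140, [222]), (146, [180]), (151, [161]), (155, [196]), (158, [193, 225]), (160, [201]), (161,
  [161, 202, 234]), (168, [229]), (173, [183]), (180, [233]), (183, [146, 183]), (187, [199]), (190, [234]),
  (192, [203]), (193, [151, 193, 236]), (196, [235]), (199, [155, 199]), (201, [237]), (202, [158, 202]),
  (203, [160, 203]), (206, [216]), (208, [134, 227]), (209, [209, 228]), (211, [218]), (213, [213, 230]),
  (215, [120, 168, 229]), (216, [122, 216]), (217, [125, 217]), (218, [129, 218]), (220, [224]), (222, [222,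
  232]), (224, [140, 224]), (225, [193, 225, 236]), (227, [125, 231]), (228, [206, 228]), (229, [134, 208,
  229]), (230, [211, 230]), (231, [215, 231]), (232, [220, 232]), (233, [173, 233]), (234, [158, 202, 234,
  238]), (235, [187, 235]), (236, [161, 190, 236]), (237, [192, 237]), (238, [193, 238])]
def V' : List (ℕ × List ℕ) := [(1, [5]), (2, [38]), (3, [14, 46]), (4, [43]), (5, [49, 78]), (6, [59]), (7,
  [17]), (8, [12]), (9, [26]), (10, [24, 71]), (11, [30]), (12, [12, 31, 105]), (14, [81]), (15, [19]), (17,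
  [99]), (19, [7, 19]), (21, [28]), (22, [105]), (23, [33]), (24, [8, 24, 114]), (26, [110]), (28, [9, 28]),
  (30, [117]), (31, [10, 31]), (33, [11, 33]), (36, [47]), (37, [5, 78]), (38, [38, 79]), (40, [52]), (43,
  [43, 84]), (46, [1, 14, 81]), (47, [2, 47]), (49, [3, 49]), (52, [4, 52]), (56, [66]), (59, [59, 93]),
  (66, [6, 66]), (71, [24, 71, 114]), (78, [3, 88]), (79, [36, 79]), (81, [5, 37, 81]), (84, [40, 84]), (88,
  [46, 88]), (93, [56, 93]), (99, [15, 99]), (105, [10, 31, 105, 119]), (110, [21, 110]), (114, [12, 22,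
  114]), (117, [23, 117]), (119, [24, 119])]
def bs : Fin 11 → ℕ := ![120, 122, 125, 129, 134, 140, 146, 151, 155, 158, 160]
def cs : Fin 11 → ℕ := ![238, 237, 236, 235, 234, 233, 232, 231, 230, 229, 228]
def bs' : Fin 11 → ℕ := ![1, 2, 3, 4, 5, 6, 7, 8, 9, 10, 11]
def cs' : Fin 11 → ℕ := ![119, 117, 114, 110, 105, 99, 93, 88, 84, 81, 79]
def steps : List (ℕ × ℕ) := [(1, 237), (2, 236), (2, 238), (3, 235), (3, 237), (4, 234), (4, 236), (5, 232),
  (5, 233), (5, 235), (6, 225), (6, 234), (7, 234), (14, 233)]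

theorem h : HOK chevE8 239 (P.map Prod.fst) M w V bs cs where
  zlt := by decide +kernel
  gam := by decide +kernel
  blk := by decide +kernel
  act := by decide +kernel
  pair := by decide +kernel
  wW := by decide +kernel
  V1 := by decide +kernel
  V2 := by decide +kernel
  bc := by decide +kernel
  bc' := by decide +kernel

theorem h' : HOK chevE8 0 (P.map Prod.snd) M' w V' bs' cs' where
  zlt := by decide +kernel
  gam := by decide +kernel
  blk := by decide +kernel
  act := by decide +kernel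
  pair := by decide +kernel
  wW := by decide +kernel
  V1 := by decide +kernel
  V2 := by decide +kernel
  bc := by decide +kernel
  bc' := by decide +kernel

theorem tab : TOK chevE8 r (-1) wp B 239 0 P M M' w V V' bs cs bs' cs' steps where
  he := by decide
  ra := by decide +kernel
  rb := by decide +kernel
  rc := by decide +kernel
  rn := by decide +kernel
  hw := by decide +kernel
  hne := by decide +kernel
  B0 := by decide +kernel
  hB := by decide +kernel
  hBk := by decide +kernel
  h := h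
  h' := h'
  hP := by decide +kernel
  hg := by decide +kernel
  hN := by decide

end Cfsg.Agent.H452.HeisC.TE8_5
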