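import Cfsg.Agent.H452.FprHeisE

/-!
# Table: `E8`, `SL_7(2)`
-/

set_option autoImplicit false
set_option maxRecDepth 100000

namespace Cfsg.Agent.H452.HeisC.TE8_7

open Cfsg.Lie Cfsg.Agent.TitsThree.KExcRT Cfsg.Agent.H441.FPR

def r : Fin (4 + 3) → Fin (4 + 3) → ℕ := ![![0, 58, 60, 63, 67, 72, 77], ![181, 0, 123, 127, 132, 144, 159],
  ![179, 116, 0, 126, 131, 143, 157], ![176, 112, 113, 0, 130, 142, 154], ![172, 107, 108, 109, 0, 141,
  150], ![167, 95, 96, 97, 98, 0, 139], ![162, 80, 82, 85, 89, 100, 0]]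
def wp : List (Fin (4 + 3) × Fin (4 + 3)) := [(1, 5), (3, 1), (2, 3), (4, 6), (5, 2), (3, 4), (6, 0), (0,
  1)]
def B : Fin (4 + 4) → Matrix (Fin (4 + 3)) (Fin (4 + 3)) (ZMod 2) := ![!![1, 1, 0, 0, 0, 0, 0; 0, 1, 1, 0,
  0, 1, 0; 0, 0, 1, 1, 1, 0, 0; 0, 1, 0, 1, 1, 0, 0; 1, 1, 0, 0, 1, 0, 1; 0, 0, 1, 0, 0, 1, 0; 1, 1, 0, 0,
  0, 0, 1], !![1, 0, 1, 0, 0, 1, 0; 0, 1, 1, 1, 1, 0, 0; 1, 0, 1, 0, 1, 0, 1; 1, 1, 1, 1, 0, 1, 1; 1, 0, 1,
  0, 1, 1, 0; 0, 0, 0, 1, 1, 1, 0; 0, 1, 1, 0, 0, 1, 1], !![0, 0, 0, 1, 0, 0, 1; 1, 0, 0, 0, 1, 0, 0; 1, 1,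
  0, 0, 0, 1, 0; 1, 1, 1, 1, 1, 0, 1; 1, 0, 1, 1, 1, 1, 1; 0, 1, 0, 0, 0, 1, 1; 1, 0, 1, 0, 1, 0, 0], !![0,
  1, 0, 1, 0, 0, 1; 1, 0, 1, 0, 1, 1, 0; 1, 1, 0, 1, 1, 1, 0; 1, 0, 1, 1, 0, 0, 1; 0, 1, 1, 1, 1, 1, 0; 0,
  1, 1, 0, 0, 1, 1; 0, 1, 1, 0, 1, 0, 0], !![0, 1, 1, 1, 0, 1, 1; 1, 0, 0, 1, 0, 1, 0; 0, 1, 0, 1, 0, 1, 1;
  0, 1, 0, 1, 0, 1, 0; 1, 1, 0, 1, 1, 0, 0; 0, 1, 1, 1, 1, 1, 1; 0, 0, 0, 0, 1, 1, 0], !![1, 1, 1, 0, 0, 1,
  0; 0, 1, 0, 1, 1, 1, 0; 1, 0, 1, 1, 0, 0, 1; 1, 0, 1, 1, 1, 1, 1; 0, 1, 1, 0, 1, 1, 1; 0, 0, 1, 1, 1, 1,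
  0; 1, 0, 1, 0, 0, 1, 1], !![0, 0, 1, 1, 0, 1, 1; 1, 0, 1, 1, 0, 0, 0; 0, 1, 0, 0, 1, 1, 1; 0, 0, 0, 1, 1,
  1, 0; 0, 0, 0, 1, 1, 0, 1; 0, 1, 0, 1, 1, 1, 1; 1, 1, 0, 0, 1, 1, 0], !![1, 1, 0, 0, 0, 0, 0; 0, 1, 1, 0,
  0, 1, 0; 0, 0, 1, 1, 1, 0, 0; 0, 1, 0, 1, 1, 0, 0; 1, 1, 0, 0, 1, 0, 1; 0, 0, 1, 0, 0, 1, 0; 1, 1, 0, 0,
  0, 0, 1]]
def P : List (ℕ × ℕ) := [(120, 1), (122, 2), (125, 3), (129, 4), (134, 5), (140, 6), (146, 7), (151, 8),
  (155, 9), (158, 10), (160, 11), (161, 12), (168, 14), (173, 15), (177, 16), (180, 17), (182, 18), (183,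
  19), (187, 21), (190, 22), (192, 23), (193, 24), (196, 26), (198, 27), (199, 28), (201, 30), (202, 31),
  (203, 33), (206, 36), (208, 37), (209, 38), (211, 40), (212, 41), (213, 43), (215, 46), (216, 47), (217,
  49), (218, 52), (220, 56), (221, 57), (222, 59), (223, 62), (224, 66), (225, 71), (227, 78), (228, 79),
  (229, 81), (230, 84), (231, 88), (232, 93), (233, 99), (234, 105), (235, 110), (236, 114), (237, 117),
  (238, 119)]
def M : List (ℕ × List (ℕ × ℕ)) := [(58, [(182, 120), (183, 122), (203, 140), (213, 151), (217, 155), (218,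
  158), (229, 187), (230, 190), (231, 196), (233, 206), (237, 220), (238, 221)]), (96, [(146, 125), (158,
  140), (180, 168), (206, 187), (211, 192), (212, 193), (215, 198), (216, 199), (218, 203), (225, 222),
  (233, 229), (236, 232)]), (112, [(129, 122), (160, 155), (182, 177), (192, 187), (201, 196), (203, 199),
  (211, 206), (213, 209), (218, 216), (223, 221), (230, 228), (237, 235)]), (126, [(125, 129), (155, 158),
  (177, 180), (187, 190), (198, 201), (199, 202), (208, 211), (209, 212), (217, 218), (222, 223), (229,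
  230), (235, 236)]), (130, [(129, 134), (151, 155), (173, 177), (190, 196), (192, 198), (193, 199), (211,
  215), (212, 216), (213, 217), (223, 224), (230, 231), (234, 235)]), (144, [(122, 146), (140, 160), (168,
  182), (187, 208), (190, 211), (193, 213), (196, 215), (199, 217), (202, 218), (221, 225), (228, 233),
  (232, 237)]), (150, [(120, 151), (134, 161), (168, 193), (177, 209), (180, 212), (182, 213), (196, 221),
  (198, 222), (201, 223), (215, 225), (227, 234), (231, 238)]), (162, [(140, 168), (151, 173), (155, 177),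
  (158, 180), (160, 182), (161, 183), (220, 227), (221, 228), (222, 229), (223, 230), (224, 231), (225,
  233)])]
def M' : List (ℕ × List (ℕ × ℕ)) := [(58, [(18, 1), (19, 2), (33, 6), (43, 8), (49, 9), (52, 10), (81, 21),
  (84, 22), (88, 26), (99, 36), (117, 56), (119, 57)]), (96, [(7, 3), (10, 6), (17, 14), (36, 21), (40, 23),
  (41, 24), (46, 27), (47, 28), (52, 33), (71, 59), (99, 81), (114, 93)]), (112, [(4, 2), (11, 9), (18, 16),
  (23, 21), (30, 26), (33, 28), (40, 36), (43, 38), (52, 47), (62, 57), (84, 79), (117, 110)]), (126, [(3,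
  4), (9, 10), (16, 17), (21, 22), (27, 30), (28, 31), (37, 40), (38, 41), (49, 52), (59, 62), (81, 84),
  (110, 114)]), (130, [(4, 5), (8, 9), (15, 16), (22, 26), (23, 27), (24, 28), (40, 46), (41, 47), (43, 49),
  (62, 66), (84, 88), (105, 110)]), (144, [(2, 7), (6, 11), (14, 18), (21, 37), (22, 40), (24, 43), (26,
  46), (28, 49), (31, 52), (57, 71), (79, 99), (93, 117)]), (150, [(1, 8), (5, 12), (14, 24), (16, 38), (17,
  41), (18, 43), (26, 57), (27, 59), (30, 62), (46, 71), (78, 105), (88, 119)]), (162, [(6, 14), (8, 15),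
  (9, 16), (10, 17), (11, 18), (12, 19), (56, 78), (57, 79), (59, 81), (62, 84), (66, 88), (71, 99)])]
def w : List ℕ := [144, 112, 126, 150, 96, 130, 162, 58]
def V : List (ℕ × List ℕ) := [(120, [120, 155, 160, 168, 182, 202, 212, 216, 217]), (122, [122, 183]), (125,
  [125, 146]), (129, [125, 183]), (134, [129, 134, 183]), (140, [140, 155, 158, 160, 168, 173, 193, 202,
  212, 217]), (146, [122]), (151, [120]), (155, [120, 151, 155, 158, 177, 199, 203, 213, 216, 217]), (158,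
  [155, 173]), (160, [140, 180, 209]), (161, [134]), (168, [168, 180, 209]), (173, [120, 158, 177, 199, 203,
  213, 216, 217]), (177, [173, 177]), (180, [155, 160, 168, 173, 193, 202, 209, 212, 217]), (182, [120, 151,
  158, 168, 177, 199, 202, 203, 212, 213]), (183, [161]), (187, [187, 206]), (190, [201, 206, 208, 222, 224,
  230, 233, 238]), (192, [190, 196, 206, 208, 211, 215, 224, 230, 238]), (193, [120, 151, 158, 177, 193,
  199, 202, 203, 212, 213, 216]), (196, [192, 196, 206, 215, 221, 224, 230]), (198, [190, 198, 201, 206,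
  208, 215, 221, 222, 233, 238]), (199, [199, 216]), (201, [198, 201, 222, 225, 228]), (202, [155, 158, 160,
  168, 173, 193, 203, 212, 216, 217]), (203, [120, 151, 158, 160, 168, 177, 193, 199, 212, 213, 216, 217,
  218]), (206, [190, 192, 206, 208, 215, 221, 224, 230]), (208, [187, 190, 192, 201, 208, 215, 221, 222,
  233, 238]), (209, [155, 160, 168, 173, 177, 193, 202, 212, 217]), (211, [190, 192, 206, 215, 221, 224,
  230]), (212, [209]), (213, [193, 216]), (215, [190, 196, 201, 206, 208, 222, 233]), (216, [120, 151, 158,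
  177, 199, 202, 203, 213, 216]), (217, [155, 158, 160, 168, 173, 193, 199, 202, 203, 212, 216, 217]), (218,
  [202]), (220, [220, 234, 235, 237]), (221, [221, 238]), (222, [222, 225, 228]), (223, [192, 201, 206, 215,
  221, 224, 230]), (224, [190, 201, 208, 222, 223, 224, 229, 233]), (225, [190, 201, 206, 208, 221, 222,
  233, 238]), (227, [220, 227]), (228, [190, 201, 206, 208, 222, 228, 233, 238]), (229, [190, 192, 206, 208,
  215, 221, 224, 229, 230, 233]), (230, [190, 201, 208, 222, 229, 233, 238]), (231, [192, 206, 215, 221,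
  230, 231]), (232, [232, 236]), (233, [228]), (234, [227]), (235, [234, 235]), (236, [235]), (237, [232]),
  (238, [192, 206, 215, 221, 224, 230, 231])]
def V' : List (ℕ × List ℕ) := [(1, [1, 9, 11, 14, 18, 31, 41, 47, 49]), (2, [2, 19]), (3, [3, 7]), (4, [3,
  19]), (5, [4, 5, 19]), (6, [6, 9, 10, 11, 14, 15, 24, 31, 41, 49]), (7, [2]), (8, [1]), (9, [1, 8, 9, 10,
  16, 28, 33, 43, 47, 49]), (10, [9, 15]), (11, [6, 17, 38]), (12, [5]), (14, [14, 17, 38]), (15, [1, 10,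
  16, 28, 33, 43, 47, 49]), (16, [15, 16]), (17, [9, 11, 14, 15, 24, 31, 38, 41, 49]), (18, [1, 8, 10, 14,
  16, 28, 31, 33, 41, 43]), (19, [12]), (21, [21, 36]), (22, [30, 36, 37, 59, 66, 84, 99, 119]), (23, [22,
  26, 36, 37, 40, 46, 66, 84, 119]), (24, [1, 8, 10, 16, 24, 28, 31, 33, 41, 43, 47]), (26, [23, 26, 36, 46,
  57, 66, 84]), (27, [22, 27, 30, 36, 37, 46, 57, 59, 99, 119]), (28, [28, 47]), (30, [27, 30, 59, 71, 79]),
  (31, [9, 10, 11, 14, 15, 24, 33, 41, 47, 49]), (33, [1, 8, 10, 11, 14, 16, 24, 28, 41, 43, 47, 49, 52]),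
  (36, [22, 23, 36, 37, 46, 57, 66, 84]), (37, [21, 22, 23, 30, 37, 46, 57, 59, 99, 119]), (38, [9, 11, 14,
  15, 16, 24, 31, 41, 49]), (40, [22, 23, 36, 46, 57, 66, 84]), (41, [38]), (43, [24, 47]), (46, [22, 26,
  30, 36, 37, 59, 99]), (47, [1, 8, 10, 16, 28, 31, 33, 43, 47]), (49, [9, 10, 11, 14, 15, 24, 28, 31, 33,
  41, 47, 49]), (52, [31]), (56, [56, 105, 110, 117]), (57, [57, 119]), (59, [59, 71, 79]), (62, [23, 30,
  36, 46, 57, 66, 84]), (66, [22, 30, 37, 59, 62, 66, 81, 99]), (71, [22, 30, 36, 37, 57, 59, 99, 119]),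
  (78, [56, 78]), (79, [22, 30, 36, 37, 59, 79, 99, 119]), (81, [22, 23, 36, 37, 46, 57, 66, 81, 84, 99]),
  (84, [22, 30, 37, 59, 81, 99, 119]), (88, [23, 36, 46, 57, 84, 88]), (93, [93, 114]), (99, [79]), (105,
  [78]), (110, [105, 110]), (114, [110]), (117, [93]), (119, [23, 36, 46, 57, 66, 84, 88])]
def bs : Fin 15 → ℕ := ![120, 122, 125, 129, 134, 140, 146, 151, 155, 158, 160, 161, 168, 173, 177]
def cs : Fin 15 → ℕ := ![238, 237, 236, 235, 234, 233, 232, 231, 230, 229, 228, 227, 225, 224, 223]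
def bs' : Fin 15 → ℕ := ![1, 2, 3, 4, 5, 6, 7, 8, 9, 10, 11, 12, 14, 15, 16]
def cs' : Fin 15 → ℕ := ![119, 117, 114, 110, 105, 99, 93, 88, 84, 81, 79, 78, 71, 66, 62]
def steps : List (ℕ × ℕ) := [(1, 237), (2, 236), (2, 238), (3, 235), (3, 237), (4, 234), (4, 236), (5, 232),
  (5, 233), (5, 235), (6, 225), (6, 234), (7, 234), (14, 233)]
def Cs : List (Matrix (Fin (4 + 3)) (Fin (4 + 3)) (ZMod 2)) := [!![1, 1, 0, 0, 0, 0, 0; 0, 1, 1, 0, 0, 1, 0;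
  0, 0, 1, 1, 1, 0, 0; 0, 1, 0, 1, 1, 0, 0; 1, 1, 0, 0, 1, 0, 1; 0, 0, 1, 0, 0, 1, 0; 1, 1, 0, 0, 0, 0, 1],
  !![1, 1, 0, 0, 0, 0, 0; 0, 1, 0, 0, 0, 0, 0; 0, 0, 1, 1, 1, 0, 0; 0, 1, 0, 1, 1, 0, 0; 1, 1, 0, 0, 1, 0,
  1; 0, 0, 1, 0, 0, 1, 0; 1, 1, 0, 0, 0, 0, 1], !![1, 1, 0, 0, 0, 0, 0; 0, 1, 0, 0, 0, 0, 0; 0, 0, 1, 1, 1,
  0, 0; 0, 0, 0, 1, 1, 0, 0; 1, 1, 0, 0, 1, 0, 1; 0, 0, 1, 0, 0, 1, 0; 1, 1, 0, 0, 0, 0, 1], !![1, 1, 0, 0,
  0, 0, 0; 0, 1, 0, 0, 0, 0, 0; 0, 0, 1, 0, 0, 0, 0; 0, 0, 0, 1, 1, 0, 0; 1, 1, 0, 0, 1, 0, 1; 0, 0, 1, 0,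
  0, 1, 0; 1, 1, 0, 0, 0, 0, 1], !![1, 1, 0, 0, 0, 0, 0; 0, 1, 0, 0, 0, 0, 0; 0, 0, 1, 0, 0, 0, 0; 0, 0, 0,
  1, 1, 0, 0; 0, 0, 0, 0, 1, 0, 0; 0, 0, 1, 0, 0, 1, 0; 1, 1, 0, 0, 0, 0, 1], !![1, 1, 0, 0, 0, 0, 0; 0, 1,
  0, 0, 0, 0, 0; 0, 0, 1, 0, 0, 0, 0; 0, 0, 0, 1, 1, 0, 0; 0, 0, 0, 0, 1, 0, 0; 0, 0, 0, 0, 0, 1, 0; 1, 1,
  0, 0, 0, 0, 1], !![1, 1, 0, 0, 0, 0, 0; 0, 1, 0, 0, 0, 0, 0; 0, 0, 1, 0, 0, 0, 0; 0, 0, 0, 1, 0, 0, 0; 0,
  0, 0, 0, 1, 0, 0; 0, 0, 0, 0, 0, 1, 0; 1, 1, 0, 0, 0, 0, 1], !![1, 1, 0, 0, 0, 0, 0; 0, 1, 0, 0, 0, 0, 0;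
  0, 0, 1, 0, 0, 0, 0; 0, 0, 0, 1, 0, 0, 0; 0, 0, 0, 0, 1, 0, 0; 0, 0, 0, 0, 0, 1, 0; 0, 0, 0, 0, 0, 0, 1]]

theorem h : HOK chevE8 239 (P.map Prod.fst) M w V bs cs where
  zlt := by decide +kernel
  gam := by decide +kernel
  blk := by decide +kernel
  act := by decide +kernel
  pair := by decide +kernel
  wW := by decide +kernel
  V1 := by decide +kernel
  V2 := by decide +kernel
  bc := by decide +kernel
  bc' := by decide +kernel

theorem h' : HOK chevE8 0 (P.map Prod.snd) M' w V' bs' cs' where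
  zlt := by decide +kernel
  gam := by decide +kernel
  blk := by decide +kernel
  act := by decide +kernel
  pair := by decide +kernel
  wW := by decide +kernel
  V1 := by decide +kernel
  V2 := by decide +kernel
  bc := by decide +kernel
  bc' := by decide +kernel

theorem tab : TOK chevE8 r (1) wp B 239 0 P M M' w V V' bs cs bs' cs' steps where
  he := by decide
  ra := by decide +kernel
  rb := by decide +kernel
  rc := by decide +kernel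
  rn := by decide +kernel
  hw := by decide +kernel
  hne := by decide +kernel
  B0 := (pchain_spec (Cs := Cs) (by decide +kernel)).trans rfl
  hB := by decide +kernel
  hBk := by decide +kernel
  h := h
  h' := h'
  hP := by decide +kernel
  hg := by decide +kernel
  hN := by decide

end Cfsg.Agent.H452.HeisC.TE8_7
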