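import Cfsg.Agent.H452.FprHeisG

/-!
# Table: `F₄`, `SL_3(2)` (short roots)
-/

set_option autoImplicit false
set_option maxRecDepth 100000

namespace Cfsg.Agent.H452.HeisC.TF4_3

open Cfsg.Lie Cfsg.Agent.TitsThree.KExcRT Cfsg.Agent.H441.FPR

def r : Fin (0 + 3) → Fin (0 + 3) → ℕ := ![![0, 10, 12], ![37, 0, 27], ![35, 20, 0]]
def wp : List (Fin (0 + 3) × Fin (0 + 3)) := [(2, 0), (1, 2), (0, 1)]
def B : Fin (0 + 4) → Matrix (Fin (0 + 3)) (Fin (0 + 3)) (ZMod 2) := ![!![1, 1, 0; 0, 1, 1; 1, 1, 1], !![1,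
  0, 1; 1, 0, 0; 0, 1, 0], !![1, 1, 1; 1, 0, 1; 1, 0, 0], !![1, 1, 0; 0, 1, 1; 1, 1, 1]]
def P : List (ℕ × ℕ) := [(24, 1), (26, 2), (31, 4), (43, 16), (45, 21), (46, 23)]
def w : List ℕ := [35, 27, 10]
def Γ : List ℕ := [24, 26, 29, 31, 36, 38, 39, 40, 43, 44, 45, 46]
def Γs : List ℕ := [29, 36, 38, 39, 40, 44]
def M : List (ℕ × List (ℕ × List ℕ)) := [(10, [(40, [29]), (44, [36]), (45, [38, 24]), (46, [39, 26])]),
  (27, [(26, [29, 31]), (36, [38]), (39, [40]), (43, [44, 45])]), (35, [(24, [36, 43]), (29, [39]), (31,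
  [40, 46]), (38, [44])])]
def V : List (ℕ × List ℕ) := [(24, [24, 36, 45]), (26, [26, 29, 39, 46]), (29, [29, 40]), (31, [26, 31,
  40]), (36, [36, 44]), (38, [36, 38]), (39, [29]), (40, [39]), (43, [24, 36, 44]), (44, [38]), (45, [38,
  43]), (46, [31, 39])]
def bs : Fin 6 → ℕ := ![24, 26, 31, 43, 45, 46]
def cs : Fin 6 → ℕ := ![46, 45, 43, 31, 26, 24]
def Γ' : List ℕ := [1, 2, 3, 4, 7, 8, 9, 11, 16, 18, 21, 23]
def Γs' : List ℕ := [3, 7, 8, 9, 11, 18]
def M' : List (ℕ × List (ℕ × List ℕ)) := [(10, [(11, [3]), (18, [7]), (21, [8, 1]), (23, [9, 2])]), (27,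
  [(2, [3, 4]), (7, [8]), (9, [11]), (16, [18, 21])]), (35, [(1, [7, 16]), (3, [9]), (4, [11, 23]), (8,
  [18])])]
def V' : List (ℕ × List ℕ) := [(1, [1, 7, 21]), (2, [2, 3, 9, 23]), (3, [3, 11]), (4, [2, 4, 11]), (7, [7,
  18]), (8, [7, 8]), (9, [3]), (11, [9]), (16, [1, 7, 18]), (18, [8]), (21, [8, 16]), (23, [4, 9])]
def bs' : Fin 6 → ℕ := ![1, 2, 4, 16, 21, 23]
def cs' : Fin 6 → ℕ := ![23, 21, 16, 4, 2, 1]
def s1 : List (ℕ × ℕ) := [(1, 39), (1, 43), (1, 45), (2, 31), (2, 44), (2, 46), (4, 44), (4, 46), (16, 45),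
  (21, 39), (6, 37), (10, 41)]
def s2 : List (ℕ × ℕ) := [(1, 45), (2, 31), (2, 46), (3, 43), (3, 45), (4, 46), (8, 46), (16, 45), (1, 41),
  (6, 37), (8, 43)]
def s3 : List (ℕ × ℕ) := [(3, 40), (7, 39), (7, 44), (8, 40), (8, 47), (9, 44), (9, 47), (11, 43)]
def s4 : List (ℕ × ℕ) := [(0, 38), (0, 39), (3, 38), (3, 40), (4, 36), (7, 39), (7, 44), (8, 40)]

theorem h : HOW chevF4 47 Γ Γs M w V bs cs where
  zlt := by decide +kernel
  gam := by decide +kernel
  blk := by decide +kernel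
  act := by decide +kernel
  actS := by decide +kernel
  pair := by decide +kernel
  sh := by decide +kernel
  wW := by decide +kernel
  V1 := by decide +kernel
  V2 := by decide +kernel
  bc := by decide +kernel
  bc' := by decide +kernel

theorem h' : HOW chevF4 0 Γ' Γs' M' w V' bs' cs' where
  zlt := by decide +kernel
  gam := by decide +kernel
  blk := by decide +kernel
  act := by decide +kernel
  actS := by decide +kernel
  pair := by decide +kernel
  sh := by decide +kernel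
  wW := by decide +kernel
  V1 := by decide +kernel
  V2 := by decide +kernel
  bc := by decide +kernel
  bc' := by decide +kernel

theorem tab : TOW chevF4 r (1) wp B 47 0 P Γ Γ' Γs Γs' M M' w V V' bs cs bs' cs' s1 s2 s3 s4 where
  he := by decide
  ra := by decide +kernel
  rb := by decide +kernel
  rc := by decide +kernel
  rn := by decide +kernel
  hw := by decide +kernel
  hne := by decide +kernel
  B0 := by decide +kernel
  hB := by decide +kernel
  hBk := by decide +kernel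
  h := h
  h' := h'
  hP := by decide +kernel
  hg1 := by decide +kernel
  hg2 := by decide +kernel
  hg3 := by decide +kernel
  hg4 := by decide +kernel
  hN := by decide

end Cfsg.Agent.H452.HeisC.TF4_3
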