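import Cfsg.Agent.H452.FprCyc
import Cfsg.Agent.H394.SqTI

/-!
# Fixed point ratios: mixed radicals and split tori in groups of rank one
-/

set_option autoImplicit false
open Subgroup MulAction
open scoped Pointwise

namespace Cfsg.Agent.H452.FprTorus

open Cfsg.Agent.H409 Cfsg.Agent.H394.SqTI

variable {S : Type*} [Group S] [Finite S] {p : ℕ}

/-- The orbits of a radical containing fixed points. -/
theorem sum_orbit_le {Ω : Type*} [MulAction S Ω] [Finite Ω] {R : Subgroup S} {x : S}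
    (hn : ∀ y ∈ R, x * y * x⁻¹ ∈ R) (hC : ∀ y ∈ R, x * y = y * x → y = 1) :
    ∀ F : Finset Ω, (∀ ω ∈ F, x • ω = ω) → ∑ ω ∈ F, Nat.card (orbit R ω) ≤ Nat.card Ω := by
  classical
  intro F hF
  have : Fintype Ω := Fintype.ofFinite Ω
  have hdisj : (F : Set Ω).PairwiseDisjoint (fun ω => (orbit R ω).toFinset) := by
    intro ω hω ω' hω' hne
    change Disjoint (orbit R ω).toFinset (orbit R ω').toFinset
    rw [Set.disjoint_toFinset, Set.disjoint_left]
    intro z hz hz'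
    apply hne
    have h1 : orbit R ω = orbit R ω' := by
      rw [← orbit_eq_iff.2 hz, ← orbit_eq_iff.2 hz']
    have h2 : ω' ∈ orbit R ω := by
      rw [h1]
      exact mem_orbit_self _
    obtain ⟨⟨y, hy⟩, hyω⟩ := h2
    have hyω' : y • ω = ω' := hyω
    have h3 := fpf_unique hn hC (hF ω hω) hy (by rw [hyω']; exact hF ω' hω')
    rw [← hyω', h3]
  calc ∑ ω ∈ F, Nat.card (orbit R ω) = ∑ ω ∈ F, ((orbit R ω).toFinset).card := by
        apply Finset.sum_congr rfl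
        intro ω _
        rw [Nat.card_eq_fintype_card, ← Set.toFinset_card]
    _ = (F.biUnion (fun ω => (orbit R ω).toFinset)).card := (Finset.card_biUnion hdisj).symm
    _ ≤ Nat.card Ω := by
        rw [Nat.card_eq_fintype_card]
        exact Finset.card_le_univ _

/-- **Two radicals**, mixed form, for an arbitrary action. -/
theorem two_rad_mixed_aux [Fact p.Prime] {x : S} {R₁ R₂ : Subgroup S}
    (hx : ∃ k : ℕ, orderOf x = p ^ k)
    (hn₁ : ∀ y ∈ R₁, x * y * x⁻¹ ∈ R₁) (hn₂ : ∀ y ∈ R₂, x * y * x⁻¹ ∈ R₂)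
    (hC₁ : ∀ y ∈ R₁, x * y = y * x → y = 1) (hC₂ : ∀ y ∈ R₂, x * y = y * x → y = 1)
    (hgen : R₁ ⊔ R₂ ⊔ zpowers x = ⊤)
    (h12 : ∀ K : Subgroup S, K ≠ ⊤ → x ∈ K → R₁ ≤ K → (R₂ ⊓ K).relIndex R₂ ≠ p + 1)
    (h21 : ∀ K : Subgroup S, K ≠ ⊤ → x ∈ K → R₂ ≤ K → (R₁ ⊓ K).relIndex R₁ ≠ p + 1)
    {Ω : Type*} [MulAction S Ω] [Finite Ω] (hst : ∀ ω : Ω, stabilizer S ω ≠ ⊤) :
    (p + 1) * Nat.card (fixedBy Ω x) ≤ Nat.card Ω := by
  classical
  have hp : p.Prime := Fact.out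
  have : Fintype Ω := Fintype.ofFinite _
  set F : Finset Ω := Finset.univ.filter fun ω => x • ω = ω with hF
  have hFc : Nat.card (fixedBy Ω x) = F.card := by
    have h1 : (fixedBy Ω x) = (F : Set Ω) := by
      ext ω
      simp [hF]
    rw [Nat.card_coe_set_eq, h1, Set.ncard_coe_finset]
  have hFm : ∀ ω ∈ F, x • ω = ω := by
    intro ω hω
    rw [hF, Finset.mem_filter] at hω
    exact hω.2
  have h1 := sum_orbit_le hn₁ hC₁ F hFm
  have h2 := sum_orbit_le hn₂ hC₂ F hFm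
  -- every fixed point
  have hmod : ∀ (R : Subgroup S), (∀ y ∈ R, x * y * x⁻¹ ∈ R) →
      (∀ y ∈ R, x * y = y * x → y = 1) → ∀ ω : Ω, x • ω = ω →
      p ∣ Nat.card (orbit R ω) - 1 := by
    intro R hn hC ω hω
    have h3 := orbit_mod (p := p) hx 0 hn (by
      intro y hy h
      rw [pow_zero, pow_one] at h
      exact hC y hy h) hω
    rwa [zero_add, pow_one] at h3
  have hcases : ∀ (R : Subgroup S), (∀ y ∈ R, x * y * x⁻¹ ∈ R) →
      (∀ y ∈ R, x * y = y * x → y = 1) → ∀ ω : Ω, x • ω = ω →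
      Nat.card (orbit R ω) = 1 ∨ Nat.card (orbit R ω) = p + 1 ∨ 2 * p + 1 ≤ Nat.card (orbit R ω) := by
    intro R hn hC ω hω
    obtain ⟨c, hc⟩ := hmod R hn hC ω hω
    have h0 : 0 < Nat.card (orbit R ω) := by
      have : Nonempty (orbit R ω) := ⟨⟨ω, mem_orbit_self _⟩⟩
      exact Nat.card_pos
    rcases Nat.lt_or_ge c 1 with h | h
    · left
      have : c = 0 := by omega
      subst this
      omega
    rcases Nat.lt_or_ge c 2 with h' | h'
    · right; left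
      have : c = 1 := by omega
      subst this
      omega
    · right; right
      have : p * 2 ≤ p * c := Nat.mul_le_mul_left _ h'
      omega
  have hone : ∀ (R : Subgroup S) (ω : Ω), Nat.card (orbit R ω) = 1 → R ≤ stabilizer S ω := by
    intro R ω h y hy
    rw [mem_stabilizer_iff]
    have h3 := (Nat.card_eq_one_iff_unique.1 h).1
    have h4 : (⟨y • ω, ⟨⟨y, hy⟩, rfl⟩⟩ : orbit R ω) = ⟨ω, mem_orbit_self _⟩ := Subsingleton.elim _ _
    exact congrArg Subtype.val h4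
  have hsum : ∀ ω ∈ F, 2 * (p + 1) ≤ Nat.card (orbit R₁ ω) + Nat.card (orbit R₂ ω) := by
    intro ω hω
    have hω' := hFm ω hω
    have c1 := hcases R₁ hn₁ hC₁ ω hω'
    have c2 := hcases R₂ hn₂ hC₂ ω hω'
    have hp1 := hp.one_lt
    have h11 : ¬ (Nat.card (orbit R₁ ω) = 1 ∧ Nat.card (orbit R₂ ω) = 1) := by
      rintro ⟨h3, h4⟩
      apply hst ω
      rw [eq_top_iff, ← hgen]
      refine sup_le (sup_le (hone _ _ h3) (hone _ _ h4)) ?_
      rw [zpowers_le]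
      exact hω'
    have h1p : ¬ (Nat.card (orbit R₁ ω) = 1 ∧ Nat.card (orbit R₂ ω) = p + 1) := by
      rintro ⟨h3, h4⟩
      rw [card_orbit_eq_relIndex] at h4
      exact h12 _ (hst ω) hω' (hone _ _ h3) h4
    have hp1' : ¬ (Nat.card (orbit R₁ ω) = p + 1 ∧ Nat.card (orbit R₂ ω) = 1) := by
      rintro ⟨h3, h4⟩
      rw [card_orbit_eq_relIndex] at h3
      exact h21 _ (hst ω) hω' (hone _ _ h4) h3
    rcases c1 with c1 | c1 | c1 <;> rcases c2 with c2 | c2 | c2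
    · exact absurd ⟨c1, c2⟩ h11
    · exact absurd ⟨c1, c2⟩ h1p
    · omega
    · exact absurd ⟨c1, c2⟩ hp1'
    · omega
    · omega
    · omega
    · omega
    · omega
  have h3 : F.card * (2 * (p + 1)) ≤ 2 * Nat.card Ω := by
    calc F.card * (2 * (p + 1)) = ∑ _ω ∈ F, 2 * (p + 1) := by
          rw [Finset.sum_const, smul_eq_mul]
      _ ≤ ∑ ω ∈ F, (Nat.card (orbit R₁ ω) + Nat.card (orbit R₂ ω)) := Finset.sum_le_sum hsum
      _ = ∑ ω ∈ F, Nat.card (orbit R₁ ω) + ∑ ω ∈ F, Nat.card (orbit R₂ ω) :=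
          Finset.sum_add_distrib
      _ ≤ 2 * Nat.card Ω := by linarith
  rw [hFc]
  nlinarith

theorem stabilizer_ne_top {H : Subgroup S} (hH : H ≠ ⊤) (ω : S ⧸ H) : stabilizer S ω ≠ ⊤ := by
  intro h
  have h3 := index_stabilizer_of_transitive S ω
  rw [h, Subgroup.index_top] at h3
  have h4 := Subgroup.one_lt_index_of_ne_top hH
  change 1 < Nat.card (S ⧸ H) at h4
  omega

/-- **Two radicals**, mixed form. -/
theorem row_two_rad_mixed [Fact p.Prime] {x : S} {R₁ R₂ : Subgroup S}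
    (hx : ∃ k : ℕ, orderOf x = p ^ k)
    (hn₁ : ∀ y ∈ R₁, x * y * x⁻¹ ∈ R₁) (hn₂ : ∀ y ∈ R₂, x * y * x⁻¹ ∈ R₂)
    (hC₁ : ∀ y ∈ R₁, x * y = y * x → y = 1) (hC₂ : ∀ y ∈ R₂, x * y = y * x → y = 1)
    (hgen : R₁ ⊔ R₂ ⊔ zpowers x = ⊤)
    (h12 : ∀ K : Subgroup S, K ≠ ⊤ → x ∈ K → R₁ ≤ K → (R₂ ⊓ K).relIndex R₂ ≠ p + 1)
    (h21 : ∀ K : Subgroup S, K ≠ ⊤ → x ∈ K → R₂ ≤ K → (R₁ ⊓ K).relIndex R₁ ≠ p + 1) :
    FprRow (p + 1) 1 p S := by
  intro H hH
  refine ⟨x, hx, ?_⟩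
  rw [one_mul]
  exact two_rad_mixed_aux hx hn₁ hn₂ hC₁ hC₂ hgen h12 h21 (stabilizer_ne_top hH)

/-- The group generated by the Sylow subgroups. -/
theorem eq_top_of_sylow [IsSimpleGroup S] {r : ℕ} [Fact r.Prime] {K : Subgroup S}
    {P : Sylow r S} (hP : (P : Subgroup S) ≠ ⊥) (h : ∀ Q : Sylow r S, (Q : Subgroup S) ≤ K) :
    K = ⊤ := by
  have hn : (⨆ Q : Sylow r S, (Q : Subgroup S)).Normal := by
    constructor
    intro n hn g
    have h1 : (⨆ Q : Sylow r S, (Q : Subgroup S)) ≤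
        (⨆ Q : Sylow r S, (Q : Subgroup S)).comap (MulAut.conj g).toMonoidHom := by
      apply iSup_le
      intro Q s hs
      have h2 : ((g • Q : Sylow r S) : Subgroup S) ≤ ⨆ Q : Sylow r S, (Q : Subgroup S) :=
        le_iSup (fun Q : Sylow r S => (Q : Subgroup S)) (g • Q)
      apply h2
      rw [Sylow.smul_def]
      exact ⟨s, hs, rfl⟩
    exact h1 hn
  rcases hn.eq_bot_or_eq_top with h1 | h1
  · exfalso
    apply hP
    rw [eq_bot_iff, ← h1]
    exact le_iSup (fun Q : Sylow r S => (Q : Subgroup S)) P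
  · rw [eq_top_iff, ← h1]
    exact iSup_le h

/-- In a rank one situation a Sylow subgroup and an element of another one generate `S`. -/
theorem eq_top_of_ti [IsSimpleGroup S] {r : ℕ} [Fact r.Prime]
    (hTI : ∀ P Q : Sylow r S, P ≠ Q → (P : Subgroup S) ⊓ Q = ⊥) {Q : ℕ}
    (hQ : ∀ P : Sylow r S, Nat.card P = Q) (hQ1 : 1 < Q) (hcount : Nat.card (Sylow r S) = 1 + Q)
    {P₁ P₂ : Sylow r S} (hne : P₁ ≠ P₂) {K : Subgroup S} (h1 : (P₁ : Subgroup S) ≤ K)
    (h2 : (P₂ : Subgroup S) ⊓ K ≠ ⊥) : K = ⊤ := by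
  classical
  have hbot : (P₁ : Subgroup S) ≠ ⊥ := by
    intro h
    have h3 := hQ P₁
    change Nat.card (P₁ : Subgroup S) = Q at h3
    rw [h, Subgroup.card_bot] at h3
    omega
  have hd := card_orbit_sub hTI P₁ K
  have hKP : K ⊓ (P₁ : Subgroup S) = P₁ := inf_eq_right.2 h1
  rw [hKP] at hd
  have hQ1' : Nat.card (P₁ : Subgroup S) = Q := hQ P₁
  rw [hQ1'] at hd
  -- the orbit is not trivial
  obtain ⟨u, hu, hu1⟩ : ∃ u ∈ (P₂ : Subgroup S) ⊓ K, u ≠ 1 := by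
    by_contra hcon
    push Not at hcon
    apply h2
    rw [eq_bot_iff]
    intro u hu
    exact mem_bot.2 (hcon u hu)
  have hmove : (⟨u, hu.2⟩ : K) • P₁ ≠ P₁ := by
    intro h
    have h3 : u • P₁ = P₁ := h
    rw [Sylow.smul_eq_iff_mem_normalizer] at h3
    have h4 := mem_of_mem_normalizer P₁ (S := (P₂ : Subgroup S)) P₂.isPGroup' hu.1 h3
    have h5 : u ∈ (P₁ : Subgroup S) ⊓ P₂ := ⟨h4, hu.1⟩
    rw [hTI P₁ P₂ hne, mem_bot] at h5
    exact hu1 h5
  have hcard : 1 < Nat.card (orbit K P₁) := by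
    rw [Finite.one_lt_card_iff_nontrivial]
    exact ⟨⟨⟨(⟨u, hu.2⟩ : K) • P₁, ⟨_, rfl⟩⟩, ⟨P₁, mem_orbit_self _⟩, fun h =>
      hmove (congrArg Subtype.val h)⟩⟩
  have hle : Nat.card (orbit K P₁) ≤ 1 + Q := by
    rw [← hcount]
    exact Nat.card_le_card_of_injective _ Subtype.val_injective
  have heq : Nat.card (orbit K P₁) = 1 + Q := by
    have h3 := Nat.le_of_dvd (by omega) hd
    omega
  have huniv : orbit K P₁ = Set.univ := by
    apply Set.eq_of_subset_of_ncard_le (Set.subset_univ _)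
    · rw [Set.ncard_univ, hcount, ← heq, Nat.card_coe_set_eq]
  apply eq_top_of_sylow hbot
  intro R
  have h3 : R ∈ orbit K P₁ := by rw [huniv]; trivial
  obtain ⟨⟨k, hk⟩, hkR⟩ := h3
  have h4 : k • P₁ = R := hkR
  rw [← h4, Sylow.smul_def]
  rintro _ ⟨s, hs, rfl⟩
  exact K.mul_mem (K.mul_mem hk (h1 hs)) (K.inv_mem hk)

/-- **Split tori** in groups of rank one. -/
theorem row_ti_torus [IsSimpleGroup S] [Fact p.Prime] {r : ℕ} [Fact r.Prime]
    (hTI : ∀ P Q : Sylow r S, P ≠ Q → (P : Subgroup S) ⊓ Q = ⊥) {Q : ℕ}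
    (hQ : ∀ P : Sylow r S, Nat.card P = Q) (hQ1 : 1 < Q) (hcount : Nat.card (Sylow r S) = 1 + Q)
    (hQp : Q ≠ p + 1) {x : S} (hx : ∃ k : ℕ, orderOf x = p ^ k)
    {P₁ P₂ : Sylow r S} (hne : P₁ ≠ P₂)
    (h1 : x ∈ normalizer ((P₁ : Subgroup S) : Set S))
    (h2 : x ∈ normalizer ((P₂ : Subgroup S) : Set S))
    (hC₁ : ∀ y ∈ (P₁ : Subgroup S), x * y = y * x → y = 1)
    (hC₂ : ∀ y ∈ (P₂ : Subgroup S), x * y = y * x → y = 1) : FprRow (p + 1) 1 p S := by
  have hbot : ∀ P : Sylow r S, (P : Subgroup S) ≠ ⊥ := by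
    intro P h
    have h3 := hQ P
    change Nat.card (P : Subgroup S) = Q at h3
    rw [h, Subgroup.card_bot] at h3
    omega
  have key : ∀ {P P' : Sylow r S}, P ≠ P' → ∀ K : Subgroup S, K ≠ ⊤ → x ∈ K →
      (P : Subgroup S) ≤ K → ((P' : Subgroup S) ⊓ K).relIndex P' ≠ p + 1 := by
    intro P P' hPP K hK _ hPK
    have h3 : (P' : Subgroup S) ⊓ K = ⊥ := by
      by_contra h4
      exact hK (eq_top_of_ti hTI hQ hQ1 hcount hPP hPK h4)
    rw [h3, Subgroup.relIndex_bot_left]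
    change Nat.card P' ≠ p + 1
    rw [hQ P']
    exact hQp
  refine row_two_rad_mixed (R₁ := P₁) (R₂ := P₂) hx ?_ ?_ hC₁ hC₂ ?_ (key hne) (key hne.symm)
  · intro y hy
    exact (mem_normalizer_iff.1 h1 y).1 hy
  · intro y hy
    exact (mem_normalizer_iff.1 h2 y).1 hy
  · apply eq_top_of_ti hTI hQ hQ1 hcount hne
    · exact le_sup_left.trans le_sup_left
    · have h3 : (P₂ : Subgroup S) ⊓ (((P₁ : Subgroup S) ⊔ P₂) ⊔ zpowers x) = P₂ :=
        inf_eq_left.2 (le_sup_right.trans le_sup_left)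
      rw [h3]
      exact hbot P₂

/-- **Split tori** in groups of rank one: it suffices that `p`-elements normalising a Sylow
`r`-subgroup act on it without fixed points. -/
theorem row_ti_torus' [IsSimpleGroup S] [Fact p.Prime] {r : ℕ} [Fact r.Prime] (hrp : p ≠ r)
    (hTI : ∀ P Q : Sylow r S, P ≠ Q → (P : Subgroup S) ⊓ Q = ⊥) {Q k : ℕ} (hQk : Q = r ^ k)
    (hQ : ∀ P : Sylow r S, Nat.card P = Q) (hQ1 : 1 < Q) (hcount : Nat.card (Sylow r S) = 1 + Q)
    (hQp : Q ≠ p + 1) {x : S} (hx : ∃ k : ℕ, orderOf x = p ^ k)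
    {P₁ : Sylow r S}
    (h1 : x ∈ normalizer ((P₁ : Subgroup S) : Set S))
    (hC : ∀ P : Sylow r S, x ∈ normalizer ((P : Subgroup S) : Set S) →
      ∀ y ∈ (P : Subgroup S), x * y = y * x → y = 1) : FprRow (p + 1) 1 p S := by
  classical
  have hp : p.Prime := Fact.out
  have hr : r.Prime := Fact.out
  obtain ⟨j, hj⟩ := hx
  have hP : IsPGroup p (zpowers x) := IsPGroup.of_card (n := j) (by rw [Nat.card_zpowers, hj])
  have hmod := hP.card_modEq_card_fixedPoints (α := Sylow r S)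
  have hfix : ∀ P : Sylow r S, P ∈ fixedPoints (zpowers x) (Sylow r S) →
      x ∈ normalizer ((P : Subgroup S) : Set S) := by
    intro P hPf
    exact Sylow.smul_eq_iff_mem_normalizer.1 (hPf ⟨x, mem_zpowers x⟩)
  obtain ⟨P₂, hP₂, hne⟩ : ∃ P₂ ∈ fixedPoints (zpowers x) (Sylow r S), P₂ ≠ P₁ := by
    by_contra hcon
    push Not at hcon
    have h2 : fixedPoints (zpowers x) (Sylow r S) ⊆ {P₁} := fun P hPf => hcon P hPf
    have h3 : P₁ ∈ fixedPoints (zpowers x) (Sylow r S) := by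
      rintro ⟨_, i, rfl⟩
      have h4 : x ^ i ∈ normalizer ((P₁ : Subgroup S) : Set S) := Subgroup.zpow_mem _ h1 i
      exact Sylow.smul_eq_iff_mem_normalizer.2 h4
    have h4 : fixedPoints (zpowers x) (Sylow r S) = {P₁} :=
      Set.Subset.antisymm h2 (Set.singleton_subset_iff.2 h3)
    rw [h4, hcount, Nat.card_coe_set_eq, Set.ncard_singleton] at hmod
    have h5 : p ∣ Q := by
      have h6 := (Nat.modEq_iff_dvd' (show 1 ≤ 1 + Q by omega)).1 hmod.symm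
      rwa [Nat.add_sub_cancel_left] at h6
    rw [hQk] at h5
    exact hrp ((Nat.prime_dvd_prime_iff_eq hp hr).1 (hp.dvd_of_dvd_pow h5))
  exact row_ti_torus hTI hQ hQ1 hcount hQp ⟨j, hj⟩ hne.symm h1 (hfix P₂ hP₂) (hC P₁ h1)
    (hC P₂ (hfix P₂ hP₂))

end Cfsg.Agent.H452.FprTorus
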