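import Mathlib

/-!
# Reduction to irreducible modules

`of_irr` : let `A` be a subgroup of `Γ` whose order is invertible in `F`, `g ^ n = 1` with `n` invertible in `F`.
If `ρ g = 1` for all irreducible `ρ` without nonzero vectors fixed by `A`, then `ρ g = 1` for all `ρ` without nonzero
vectors fixed by `A`.
-/

set_option autoImplicit false

namespace Cfsg.Agent.H452.Red

open Module

universe u

/-- irreducibility, elementary form -/
def Irr {F : Type*} [Field F] {Γ : Type*} [Group Γ] {V : Type*} [AddCommGroup V] [Module F V]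
    (ρ : Representation F Γ V) : Prop :=
  ∀ W : Submodule F V, (∀ g, ∀ w ∈ W, ρ g w ∈ W) → W = ⊥ ∨ W = ⊤

theorem eq_one_of_sq {F : Type*} [Field F] {V : Type*} [AddCommGroup V] [Module F V] (f : End F V)
    {n : ℕ} (hn : (n : F) ≠ 0) (hf : f ^ n = 1) (h : ∀ v, f (f v - v) = f v - v) : f = 1 := by
  have h1 : ∀ (k : ℕ) (v : V), (f ^ k) v = v + (k : F) • (f v - v) := by
    intro k
    induction k with
    | zero => intro v; simp
    | succ k ih =>
      intro v
      rw [pow_succ', End.mul_apply, ih, map_add, map_smul, h, Nat.cast_succ, add_smul, one_smul]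
      abel
  ext v
  have h2 := h1 n v
  rw [hf, End.one_apply] at h2
  have h3 : (n : F) • (f v - v) = 0 := by
    have h4 : v + (n : F) • (f v - v) = v + 0 := by rw [← h2, add_zero]
    exact add_left_cancel h4
  rcases smul_eq_zero.1 h3 with h4 | h4
  · exact absurd h4 hn
  · rw [End.one_apply]; exact sub_eq_zero.1 h4

theorem fixed_quot {F : Type*} [Field F] {Γ : Type*} [Group Γ] (A : Subgroup Γ) [Finite A]
    (hA : (Nat.card A : F) ≠ 0) {V : Type*} [AddCommGroup V] [Module F V]
    (ρ : Representation F Γ V) (hfix : ∀ v, (∀ a ∈ A, ρ a v = v) → v = 0) (W : Submodule F V)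
    {v : V} (hv : ∀ a ∈ A, ρ a v - v ∈ W) : v ∈ W := by
  classical
  have := Fintype.ofFinite A
  have h0 : ∑ a : A, ρ (a : Γ) v = 0 := by
    apply hfix
    intro b hb
    rw [map_sum]
    apply Fintype.sum_equiv (Equiv.mulLeft (⟨b, hb⟩ : A))
    intro a
    rw [← End.mul_apply, ← map_mul]
    rfl
  have h1 : ∑ a : A, (ρ (a : Γ) v - v) ∈ W := Submodule.sum_mem _ (fun a _ => hv a a.2)
  rw [Finset.sum_sub_distrib, h0, zero_sub, Finset.sum_const, Finset.card_univ,
    ← Nat.card_eq_fintype_card, ← Nat.cast_smul_eq_nsmul F] at h1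
  have h2 := Submodule.neg_mem _ h1
  rw [neg_neg] at h2
  have h3 := Submodule.smul_mem W (Nat.card A : F)⁻¹ h2
  rwa [smul_smul, inv_mul_cancel₀ hA, one_smul] at h3

theorem of_irr {F : Type*} [Field F] {Γ : Type*} [Group Γ] (A : Subgroup Γ) [Finite A]
    (hA : (Nat.card A : F) ≠ 0) (g : Γ) {n : ℕ} (hn : (n : F) ≠ 0) (hg : g ^ n = 1)
    (h : ∀ (V : Type u) [AddCommGroup V] [Module F V] [FiniteDimensional F V]
      (ρ : Representation F Γ V), Nontrivial V → Irr ρ →
      (∀ v, (∀ a ∈ A, ρ a v = v) → v = 0) → ρ g = 1) :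
    ∀ (k : ℕ) (V : Type u) [AddCommGroup V] [Module F V] [FiniteDimensional F V]
      (ρ : Representation F Γ V), finrank F V = k →
      (∀ v, (∀ a ∈ A, ρ a v = v) → v = 0) → ρ g = 1 := by
  intro k
  induction k using Nat.strong_induction_on with
  | _ k ih =>
  intro V _ _ _ ρ hk hfix
  by_cases hV : Subsingleton V
  · exact LinearMap.ext fun v => Subsingleton.elim _ _
  rw [not_subsingleton_iff_nontrivial] at hV
  by_cases hirr : Irr ρ
  · exact h V ρ hV hirr hfix
  unfold Irr at hirr
  push Not at hirr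
  obtain ⟨W, hW, hW1, hW2⟩ := hirr
  have hc : ∀ g, W ≤ W.comap (ρ g) := fun g w hw => hW g w hw
  have h1 : finrank F W < finrank F V := Submodule.finrank_lt hW2
  have h2 : finrank F (V ⧸ W) < finrank F V := by
    have h3 := Submodule.finrank_quotient_add_finrank W
    have h4 : 0 < finrank F W := by
      have : Nontrivial W := Submodule.nontrivial_iff_ne_bot.2 hW1
      exact Module.finrank_pos
    omega
  have e1 := ih _ (hk ▸ h1) W (ρ.subrepresentation W hc) rfl (by
    intro w hw
    apply Subtype.ext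
    apply hfix
    intro a ha
    exact congrArg Subtype.val (hw a ha))
  have e2 := ih _ (hk ▸ h2) (V ⧸ W) (ρ.quotient W hc) rfl (by
    intro w hw
    obtain ⟨v, rfl⟩ := Submodule.Quotient.mk_surjective W w
    rw [Submodule.Quotient.mk_eq_zero]
    apply fixed_quot A hA ρ hfix W
    intro a ha
    rw [← Submodule.Quotient.eq]
    exact hw a ha)
  apply eq_one_of_sq (ρ g) hn (by rw [← map_pow, hg, map_one])
  intro v
  have h3 : ρ g v - v ∈ W := by
    rw [← Submodule.Quotient.eq]
    exact LinearMap.congr_fun e2 (Submodule.Quotient.mk v)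
  have h4 := LinearMap.congr_fun e1 ⟨_, h3⟩
  exact congrArg Subtype.val h4

end Cfsg.Agent.H452.Red
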