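import Mathlib
import Cfsg.Agent.H452.TopH2
import Cfsg.Agent.H452.Orbit
import Cfsg.Agent.H452.Red
import Cfsg.Agent.H452.T2
import Cfsg.Agent.Lib.NilpotentCoprime
import Cfsg.Agent.OddOrderLocal.FpfSolvable

/-!
# The three-step property for elementary abelian groups of order `p ^ 2`
-/

set_option autoImplicit false

namespace Cfsg.Agent.H452.Ward

open Module
open scoped commutatorElement
open Cfsg.Agent.OddOrderLocal.Thm34Weights
open Cfsg.Agent.Lib.CoprimeCommutator
open Cfsg.Agent.H452.Base Cfsg.Agent.H452.TopN Cfsg.Agent.H452.MinAct Cfsg.Agent.H452.Orbit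
open Cfsg.Agent.H452.TopH2 Cfsg.Agent.H452.Red

attribute [local instance] wtAction

universe u

/-- `D = A` is elementary abelian of order `p ^ 2`. -/
def WP (p : ℕ) : Pr.{u} := fun _ _ A D =>
  D = A ∧ Cfsg.IsElementaryAbelian p A ∧ Nat.card A = p ^ 2

theorem closed_wp (p : ℕ) [hp : Fact p.Prime] : Closed p (WP.{u} p) where
  le := by
    rintro Γ _ A D ⟨rfl, _, _⟩
    exact le_rfl
  norm := by
    rintro Γ _ A D ⟨rfl, _, _⟩
    exact Subgroup.le_normalizer
  quot := by
    rintro Γ _ _ A D N _ hN ⟨rfl, ⟨hc, he⟩, hcard⟩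
    refine ⟨rfl, ⟨?_, ?_⟩, ?_⟩
    · refine ⟨⟨?_⟩⟩
      rintro ⟨_, a, ha, rfl⟩ ⟨_, b, hb, rfl⟩
      apply Subtype.ext
      show QuotientGroup.mk' N a * QuotientGroup.mk' N b = QuotientGroup.mk' N b * QuotientGroup.mk' N a
      rw [← map_mul, ← map_mul]
      congr 1
      exact congrArg Subtype.val (hc.1.comm (⟨a, ha⟩ : D) ⟨b, hb⟩)
    · rintro _ ⟨a, ha, rfl⟩
      rw [← map_pow, he a ha, map_one]
    · rw [← hcard]
      have hinj : Function.Injective ((QuotientGroup.mk' N).subgroupMap D) := by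
        rw [injective_iff_map_eq_one]
        rintro ⟨a, ha⟩ h1
        have h2 : a ∈ N := (QuotientGroup.eq_one_iff a).1 (congrArg Subtype.val h1)
        apply Subtype.ext
        show a = 1
        have h3 : orderOf a ∣ p := orderOf_dvd_of_pow_eq_one (he a ha)
        rcases (Nat.dvd_prime hp.out).1 h3 with h4 | h4
        · exact orderOf_eq_one_iff.1 h4
        · exfalso
          apply hN
          rw [← h4]
          have := orderOf_dvd_natCard (⟨a, h2⟩ : N)
          rwa [Subgroup.orderOf_mk] at this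
      exact (Nat.card_congr (Equiv.ofBijective _ ⟨hinj,
        (QuotientGroup.mk' N).subgroupMap_surjective D⟩)).symm

theorem isSolvable_of_isPGroup {Γ : Type*} [Group Γ] [Finite Γ] {r : ℕ} [Fact r.Prime] {P : Subgroup Γ}
    (hP : IsPGroup r P) : Group.IsSolvable P := by
  have := hP.isNilpotent
  infer_instance

/-- the product of an `r`-group and a normal `s`-group is solvable -/
theorem isSolvable_sup {Γ : Type*} [Group Γ] [Finite Γ] {r s : ℕ} [Fact r.Prime] [Fact s.Prime]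
    {P Q : Subgroup Γ} (hP : IsPGroup r P) (hQ : IsPGroup s Q) (hQn : Q.Normal) :
    Group.IsSolvable (P ⊔ Q : Subgroup Γ) := by
  have h1 : Group.IsSolvable Q := isSolvable_of_isPGroup hQ
  have h2 : Group.IsSolvable (P.map (QuotientGroup.mk' Q)) := isSolvable_of_isPGroup (hP.map _)
  let f : Q →* (P ⊔ Q : Subgroup Γ) := Subgroup.inclusion le_sup_right
  let g : (P ⊔ Q : Subgroup Γ) →* (P.map (QuotientGroup.mk' Q)) :=
    ((QuotientGroup.mk' Q).comp (P ⊔ Q : Subgroup Γ).subtype).codRestrict _ (by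
      rintro ⟨x, hx⟩
      obtain ⟨y, hy, z, hz, rfl⟩ := Subgroup.mem_sup_of_normal_right.1 hx
      refine ⟨y, hy, ?_⟩
      show _ = QuotientGroup.mk' Q (y * z)
      rw [map_mul]
      have : QuotientGroup.mk' Q z = 1 := (QuotientGroup.eq_one_iff z).2 hz
      rw [this, mul_one])
  apply Group.isSolvable_of_ker_le_range f g
  rintro ⟨x, hx⟩ hx1
  have h3 : QuotientGroup.mk' Q x = 1 := congrArg Subtype.val hx1
  have h4 : x ∈ Q := (QuotientGroup.eq_one_iff x).1 h3
  exact ⟨⟨x, h4⟩, rfl⟩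

theorem card_eq_of {p : ℕ} (hp : p.Prime) {n : ℕ} (h : n ∣ p ^ 2) (h1 : n ≠ 1) (h2 : n ≠ p ^ 2) :
    n = p := by
  obtain ⟨k, hk, rfl⟩ := (Nat.dvd_prime_pow hp).1 h
  have h3 : k ≠ 0 := by rintro rfl; exact h1 (pow_zero p)
  have h4 : k ≠ 2 := by rintro rfl; exact h2 rfl
  have h5 : k = 1 := by omega
  rw [h5, pow_one]

section core

variable {p : ℕ} [hp : Fact p.Prime] {F : Type*} [Field F] [IsAlgClosed F] {Γ : Type*} [Group Γ]
  [Finite Γ] {V : Type*} [AddCommGroup V] [Module F V] [FiniteDimensional F V]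

/-- stabilisers in `A` are constant on `P`-orbits of weights -/
theorem stab_smul {ρ : Representation F Γ V} {Z A P : Subgroup Γ} [Z.Normal]
    (hA : IsPGroup p A) (hpP : ¬ p ∣ Nat.card P) (hAP : A ≤ Subgroup.normalizer (P : Set Γ))
    (hst : ∀ χ : Z → F, wt ρ Z χ ≠ ⊥ → Nat.card (stab Z A χ) = p) {χ : Z → F}
    (hχ : wt ρ Z χ ≠ ⊥) {x : Γ} (hx : x ∈ P) : stab Z A (x • χ) = stab Z A χ := by
  -- the stabiliser of the `P`-orbit
  let H : (Z → F) → Subgroup Γ := fun χ =>
    { carrier := {a | a ∈ A ∧ ∃ y ∈ P, a • χ = y • χ}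
      mul_mem' := by
        rintro a b ⟨ha, y, hy, hay⟩ ⟨hb, y', hy', hby⟩
        refine ⟨A.mul_mem ha hb, (a * y' * a⁻¹) * y,
          P.mul_mem (conj_of_le_normalizer hAP ha hy') hy, ?_⟩
        rw [mul_smul, hby, ← mul_smul, mul_smul _ y, ← hay, ← mul_smul]
        congr 1; group
      one_mem' := ⟨A.one_mem, 1, P.one_mem, rfl⟩
      inv_mem' := by
        rintro a ⟨ha, y, hy, hay⟩
        refine ⟨A.inv_mem ha, a⁻¹ * y⁻¹ * a⁻¹⁻¹,
          conj_of_le_normalizer hAP (A.inv_mem ha) (P.inv_mem hy), ?_⟩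
        have h1 : χ = a⁻¹ • (y • χ) := by rw [← hay, inv_smul_smul]
        have h2 : a⁻¹ • χ = (a⁻¹ * y⁻¹ * a⁻¹⁻¹) • (a⁻¹ • (y • χ)) := by
          rw [← mul_smul, ← mul_smul]
          congr 1; group
        rw [← h1] at h2
        exact h2 }
  have hH : ∀ (χ : Z → F) (a : Γ), a ∈ H χ ↔ a ∈ A ∧ ∃ y ∈ P, a • χ = y • χ := fun _ _ => Iff.rfl
  have key : ∀ χ : Z → F, wt ρ Z χ ≠ ⊥ → stab Z A χ = H χ := by
    intro χ hχ
    have hle : stab Z A χ ≤ H χ := fun a ha => ⟨ha.1, 1, P.one_mem, by rw [ha.2, one_smul]⟩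
    let O : Set (Z → F) := MulAction.orbit P χ
    have hfinO : Finite O := (Set.finite_range (fun y : P => y • χ)).to_subtype
    let act : MulAction (H χ) O :=
      { smul := fun a ψ => ⟨(a : Γ) • ψ.1, by
          obtain ⟨ψ, ⟨y, rfl⟩⟩ := ψ
          obtain ⟨a, ha, y', hy', hay⟩ := a
          refine ⟨⟨(a * y * a⁻¹) * y', P.mul_mem (conj_of_le_normalizer hAP ha y.2) hy'⟩, ?_⟩
          show ((a * y * a⁻¹) * y') • χ = a • (y • χ)
          rw [mul_smul, ← hay, ← mul_smul]
          show _ = a • ((y : Γ) • χ)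
          rw [← mul_smul]
          congr 1; group⟩
        one_smul := fun ψ => Subtype.ext (one_smul Γ ψ.1)
        mul_smul := fun a b ψ => Subtype.ext (mul_smul (a : Γ) (b : Γ) ψ.1) }
    have hcard : ¬ p ∣ Nat.card O := by
      intro hd
      apply hpP
      have h1 : Nat.card O ∣ Nat.card P := by
        have h2 := Nat.card_congr (MulAction.orbitEquivQuotientStabilizer P χ)
        show Nat.card (MulAction.orbit P χ) ∣ _
        rw [h2]
        exact Subgroup.card_quotient_dvd_card _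
      exact hd.trans h1
    have hHp : IsPGroup p (H χ) := hA.to_le (fun a ha => ha.1)
    obtain ⟨⟨ν, hν⟩, hfix⟩ := hHp.nonempty_fixed_point_of_prime_not_dvd_card O hcard
    obtain ⟨y, hy⟩ := hν
    have hν' : (y : Γ) • χ = ν := hy
    have h2 : H χ ≤ stab Z A ν := by
      intro a ha
      refine ⟨ha.1, ?_⟩
      exact congrArg Subtype.val (hfix ⟨a, ha⟩)
    have h3 : Nat.card (stab Z A ν) = p := by
      apply hst
      rw [← hν']
      exact wt_smul_ne_bot hχ _
    apply Subgroup.eq_of_le_of_card_ge hle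
    rw [hst χ hχ, ← h3]
    exact Subgroup.card_le_of_le h2
  rw [key _ (wt_smul_ne_bot hχ x), key _ hχ]
  have hle : ∀ (χ : Z → F) (x : Γ), x ∈ P → H χ ≤ H (x • χ) := by
    intro χ x hx a ha
    obtain ⟨ha, y, hy, hay⟩ := ha
    refine ⟨ha, (a * x * a⁻¹) * y * x⁻¹,
      P.mul_mem (P.mul_mem (conj_of_le_normalizer hAP ha hx) hy) (P.inv_mem hx), ?_⟩
    rw [← mul_smul, ← mul_smul, inv_mul_cancel_right, mul_smul _ y, ← hay, ← mul_smul]
    congr 1; group
  apply le_antisymm
  · have h1 := hle (x • χ) x⁻¹ (P.inv_mem hx)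
    rwa [inv_smul_smul] at h1
  · exact hle χ x hx

theorem ward_core (ρ : Representation F Γ V) {A P Q : Subgroup Γ} {r s : ℕ} (hr : r.Prime)
    (hs : s.Prime) (hrp : r ≠ p) (hsp : s ≠ p) (hrs : r ≠ s) (hPr : IsPGroup r P)
    (hQs : IsPGroup s Q) (hgen : P ⊔ Q ⊔ A = ⊤) (hA : Cfsg.IsElementaryAbelian p A)
    (hA2 : Nat.card A = p ^ 2) (hAP : A ≤ Subgroup.normalizer (P : Set Γ)) (hQn : Q.Normal)
    (hfP : ∀ x ∈ P, (∀ a ∈ A, a * x = x * a) → x = 1)
    (hfQ : ∀ x ∈ Q, (∀ a ∈ A, a * x = x * a) → x = 1) (hpF : (p : F) ≠ 0) (hsF : (s : F) ≠ 0)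
    (hV : ∀ v, (∀ a ∈ A, ρ a v = v) → v = 0) (hnt : Nontrivial V) (hirr : Irr ρ)
    (hfaith : ∀ y ∈ Q, ρ y = 1 → y = 1) : ∀ u ∈ P, ∀ y ∈ Q, u * y = y * u := by
  classical
  have hrf : Fact r.Prime := ⟨hr⟩
  have hsf : Fact s.Prime := ⟨hs⟩
  by_cases hQ1 : Q = ⊥
  · intro u _ y hy
    rw [hQ1, Subgroup.mem_bot] at hy
    rw [hy, mul_one, one_mul]
  obtain ⟨hAc, hAe⟩ := hA
  have hAcomm : ∀ a ∈ A, ∀ b ∈ A, a * b = b * a := fun a ha b hb =>
    congrArg Subtype.val (hAc.1.comm (⟨a, ha⟩ : A) ⟨b, hb⟩)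
  have hAp : IsPGroup p A := IsPGroup.of_card hA2
  have hAF : (Nat.card A : F) ≠ 0 := T2.cast_card_ne_zero hpF hAp
  have hAtop : ∀ H : Subgroup Γ, H.Normal → A ≤ Subgroup.normalizer (H : Set Γ) := by
    intro H hH
    rw [Subgroup.normalizer_eq_top_iff.2 hH]; exact le_top
  have hpnd : ∀ {H : Subgroup Γ} {t : ℕ}, t.Prime → t ≠ p → IsPGroup t H → ¬ p ∣ Nat.card H := by
    intro H t ht htp hH hd
    have : Fact t.Prime := ⟨ht⟩
    obtain ⟨k, hk⟩ := IsPGroup.iff_card.1 hH
    rw [hk] at hd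
    exact htp ((Nat.prime_dvd_prime_iff_eq hp.out ht).1 (hp.out.dvd_of_dvd_pow hd)).symm
  -- the centre of a nontrivial `s`-subgroup
  have hcenter : ∀ Y : Subgroup Γ, IsPGroup s Y → Y ⊓ Subgroup.centralizer (Y : Set Γ) = ⊥ → Y = ⊥ := by
    intro Y hY hY1
    by_contra hne
    have : Nontrivial Y := (Subgroup.nontrivial_iff_ne_bot Y).2 hne
    have h1 := hY.bot_lt_center
    apply h1.ne'
    rw [eq_bot_iff]
    intro z hz
    rw [Subgroup.mem_bot]
    apply Subtype.ext
    have h2 : (z : Γ) ∈ Y ⊓ Subgroup.centralizer (Y : Set Γ) := by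
      rw [mem_inf_centralizer]
      refine ⟨z.2, fun y hy => ?_⟩
      exact (congrArg Subtype.val (Subgroup.mem_center_iff.1 hz ⟨y, hy⟩)).symm
    rw [hY1, Subgroup.mem_bot] at h2
    exact h2
  set Z : Subgroup Γ := Q ⊓ Subgroup.centralizer (Q : Set Γ) with hZ
  have hZn : Z.Normal := inferInstance
  have hZQ : Z ≤ Q := inf_le_left
  have hZ1 : Z ≠ ⊥ := fun h => hQ1 (hcenter Q hQs h)
  have hZs : IsPGroup s Z := hQs.to_le hZQ
  have hZc : ∀ z ∈ Z, ∀ x ∈ Q, z * x = x * z := fun z hz => (mem_inf_centralizer.1 hz).2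
  have hZab : ∀ a ∈ Z, ∀ b ∈ Z, a * b = b * a := fun a ha b hb => hZc a ha b (hZQ hb)
  have hZF : (Nat.card Z : F) ≠ 0 := T2.cast_card_ne_zero hsF hZs
  -- all stabilisers have order `p`
  have hst : ∀ χ : Z → F, wt ρ Z χ ≠ ⊥ → Nat.card (stab Z A χ) = p := by
    intro χ hχ
    apply card_eq_of hp.out
    · rw [← hA2]
      exact Subgroup.card_dvd_of_le stab_le
    · intro h1
      exact stab_ne_bot ρ Z hZF hZab A hAF hV hχ (Subgroup.card_eq_one.1 h1)
    · intro h1
      have h2 : stab Z A χ = A := Subgroup.eq_of_le_of_card_ge stab_le (by rw [h1, hA2])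
      have h3 : ∀ z : Z, χ z = 1 := by
        let T : Subgroup Γ :=
          { carrier := {x | ∃ hx : x ∈ Z, χ ⟨x, hx⟩ = 1}
            mul_mem' := by
              rintro a b ⟨ha, ha'⟩ ⟨hb, hb'⟩
              refine ⟨Z.mul_mem ha hb, ?_⟩
              have := wt_mul hχ (⟨a, ha⟩ : Z) ⟨b, hb⟩
              rw [ha', hb', mul_one] at this
              exact this
            one_mem' := ⟨Z.one_mem, wt_one hχ⟩
            inv_mem' := by
              rintro a ⟨ha, ha'⟩
              refine ⟨Z.inv_mem ha, ?_⟩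
              have := wt_mul hχ (⟨a, ha⟩ : Z) ⟨a⁻¹, Z.inv_mem ha⟩
              rw [ha', one_mul] at this
              rw [← this]
              have h5 : (⟨a, ha⟩ : Z) * ⟨a⁻¹, Z.inv_mem ha⟩ = 1 := Subtype.ext (mul_inv_cancel a)
              rw [h5, wt_one hχ] }
        have hT : ⁅Z, A⁆ ≤ T := by
          rw [Subgroup.commutator_le]
          intro z hz a ha
          have h4 : a * z⁻¹ * a⁻¹ ∈ Z := hZn.conj_mem _ (Z.inv_mem hz) a
          have h5 : ⁅z, a⁆ = z * (a * z⁻¹ * a⁻¹) := by rw [commutatorElement_def]; group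
          rw [h5]
          refine ⟨Z.mul_mem hz h4, ?_⟩
          have h6 := wt_mul hχ (⟨z, hz⟩ : Z) ⟨a * z⁻¹ * a⁻¹, h4⟩
          have h7 : χ ⟨a * z⁻¹ * a⁻¹, h4⟩ = χ ⟨z⁻¹, Z.inv_mem hz⟩ := by
            have h8 : a ∈ stab Z A χ := by rw [h2]; exact ha
            have h9 := congrFun h8.2 ⟨a * z⁻¹ * a⁻¹, h4⟩
            rw [wt_smul_def] at h9
            rw [← h9]
            congr 1
            apply Subtype.ext
            rw [MulAut.conjNormal_apply]
            group
          have h10 := wt_mul hχ (⟨z, hz⟩ : Z) ⟨z⁻¹, Z.inv_mem hz⟩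
          have h11 : (⟨z, hz⟩ : Z) * ⟨z⁻¹, Z.inv_mem hz⟩ = 1 := Subtype.ext (mul_inv_cancel z)
          rw [h11, wt_one hχ] at h10
          rw [h7, ← h10] at h6
          exact h6
        intro z
        obtain ⟨m, hm, c, hc, hzc⟩ := exists_commutator_mul_fixed_of_isPGroup p A Z hAp
          (hAtop Z hZn) (hpnd hs hsp hZs) z z.2
        have h4 : c = 1 := by
          apply hfQ c (hZQ hc.1)
          intro a ha
          exact (Subgroup.mem_centralizer_iff.1 hc.2) a ha
        rw [h4, mul_one] at hzc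
        obtain ⟨hm', hm''⟩ := hT hm
        rw [← hm'']
        congr 1
        exact Subtype.ext hzc
      -- the fixed space of `Z`
      let E : Submodule F V :=
        { carrier := {v | ∀ z ∈ Z, ρ z v = v}
          add_mem' := fun {a b} ha hb z hz => by rw [map_add, ha z hz, hb z hz]
          zero_mem' := fun z _ => map_zero _
          smul_mem' := fun c a ha z hz => by rw [map_smul, ha z hz] }
      have hE : ∀ g, ∀ w ∈ E, ρ g w ∈ E := by
        intro g w hw z hz
        have h4 : z * g = g * (g⁻¹ * z * g⁻¹⁻¹) := by group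
        rw [← End.mul_apply, ← map_mul, h4, map_mul, End.mul_apply, hw _ (hZn.conj_mem z hz g⁻¹)]
      rcases hirr E hE with h4 | h4
      · apply hχ
        rw [eq_bot_iff, ← h4]
        intro v hv z hz
        rw [mem_wt] at hv
        have h5 := hv ⟨z, hz⟩
        rw [h3, one_smul] at h5
        exact h5
      · apply hZ1
        rw [eq_bot_iff]
        intro z hz
        rw [Subgroup.mem_bot]
        apply hfaith z (hZQ hz)
        ext v
        have h5 : v ∈ E := by rw [h4]; trivial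
        exact h5 z hz
  -- a weight
  obtain ⟨χ₀, hχ₀⟩ : ∃ χ : Z → F, wt ρ Z χ ≠ ⊥ := by
    by_contra hcon
    push Not at hcon
    have h1 := iSup_wt ρ Z hZF hZab
    have h2 : ⨆ χ : Z → F, wt ρ Z χ = ⊥ := by
      rw [iSup_eq_bot]; exact hcon
    rw [h2] at h1
    exact bot_ne_top h1
  -- all stabilisers of conjugates are equal
  have hall : ∀ g : Γ, ∀ χ : Z → F, wt ρ Z χ ≠ ⊥ → stab Z A (g • χ) = stab Z A χ := by
    let T : Subgroup Γ :=
      { carrier := {g | ∀ χ : Z → F, wt ρ Z χ ≠ ⊥ → stab Z A (g • χ) = stab Z A χ}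
        mul_mem' := by
          intro a b ha hb χ hχ
          rw [mul_smul, ha _ (wt_smul_ne_bot hχ b), hb χ hχ]
        one_mem' := fun χ _ => by rw [one_smul]
        inv_mem' := by
          intro a ha χ hχ
          have h1 := ha (a⁻¹ • χ) (wt_smul_ne_bot hχ _)
          rw [smul_inv_smul] at h1
          exact h1.symm }
    have hT : T = ⊤ := by
      rw [eq_top_iff, ← hgen]
      refine sup_le (sup_le ?_ ?_) ?_
      · intro x hx χ hχ
        exact stab_smul hAp (hpnd hr hrp hPr) hAP hst hχ hx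
      · intro x hx χ hχ
        have h1 : x • χ = χ := by
          funext z
          rw [wt_smul_def]
          congr 1
          apply Subtype.ext
          rw [MulAut.conjNormal_apply, ← hZc z z.2 x⁻¹ (Q.inv_mem hx), mul_inv_cancel_right]
        rw [h1]
      · intro x hx χ _
        have h1 : ∀ (x : Γ) (χ : Z → F), x ∈ A → stab Z A χ ≤ stab Z A (x • χ) := by
          intro x χ hx a ha
          refine ⟨ha.1, ?_⟩
          rw [← mul_smul, hAcomm a ha.1 x hx, mul_smul, ha.2]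
        apply le_antisymm
        · have h2 := h1 x⁻¹ (x • χ) (A.inv_mem hx)
          rwa [inv_smul_smul] at h2
        · exact h1 x χ hx
    intro g
    have : g ∈ T := by rw [hT]; trivial
    exact this
  set B : Subgroup Γ := stab Z A χ₀ with hB
  have hBA : B ≤ A := stab_le
  have hBcard : Nat.card B = p := hst χ₀ hχ₀
  have hBF : (Nat.card B : F) ≠ 0 := by rw [hBcard]; exact hpF
  -- `B` has no fixed vectors
  have hfixB : ∀ v, (∀ b ∈ B, ρ b v = v) → v = 0 := by
    have := Fintype.ofFinite B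
    let e : End F V := ∑ b : B, ρ (b : Γ)
    have he : ∀ v, ∀ b ∈ B, ρ b (e v) = e v := by
      intro v b hb
      show ρ b ((∑ b : B, ρ (b : Γ)) v) = (∑ b : B, ρ (b : Γ)) v
      rw [LinearMap.sum_apply, map_sum]
      apply Fintype.sum_equiv (Equiv.mulLeft (⟨b, hb⟩ : B))
      intro a
      rw [← End.mul_apply, ← map_mul]
      rfl
    have hU : ⨆ g : Γ, wt ρ Z (g • χ₀) = ⊤ := by
      have h1 : ∀ g, ∀ w ∈ ⨆ g : Γ, wt ρ Z (g • χ₀), ρ g w ∈ ⨆ g : Γ, wt ρ Z (g • χ₀) := by
        intro g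
        have h2 : ⨆ g : Γ, wt ρ Z (g • χ₀) ≤ (⨆ g : Γ, wt ρ Z (g • χ₀)).comap (ρ g) := by
          apply iSup_le
          intro h w hw
          rw [Submodule.mem_comap]
          have h3 := smul_mem_wt hw g
          rw [← mul_smul] at h3
          exact (le_iSup (fun g : Γ => wt ρ Z (g • χ₀)) (g * h)) h3
        exact h2
      rcases hirr _ h1 with h2 | h2
      · exfalso
        apply hχ₀
        rw [eq_bot_iff, ← h2]
        have h3 := le_iSup (fun g : Γ => wt ρ Z (g • χ₀)) 1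
        rwa [one_smul] at h3
      · exact h2
    have he0 : e = 0 := by
      have h1 : (⊤ : Submodule F V) ≤ LinearMap.ker e := by
        rw [← hU]
        apply iSup_le
        intro g v hv
        rw [LinearMap.mem_ker]
        apply eq_zero_of_stab_fixed ρ Z hZF hZab A hAF hV (χ := g • χ₀)
        · show (∑ b : B, ρ (b : Γ)) v ∈ _
          rw [LinearMap.sum_apply]
          apply Submodule.sum_mem
          intro b _
          have h2 := smul_mem_wt hv (b : Γ)
          have h3 : (b : Γ) ∈ stab Z A (g • χ₀) := by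
            rw [hall g χ₀ hχ₀]; exact b.2
          rwa [h3.2] at h2
        · intro a ha ha'
          apply he
          have h3 : a ∈ stab Z A (g • χ₀) := ⟨ha, ha'⟩
          rw [hall g χ₀ hχ₀] at h3
          exact h3
      ext v
      exact h1 (Submodule.mem_top (x := v))
    intro v hv
    have h1 : e v = (Nat.card B : F) • v := by
      show (∑ b : B, ρ (b : Γ)) v = _
      rw [LinearMap.sum_apply]
      have h2 : ∀ b ∈ (Finset.univ : Finset B), ρ (b : Γ) v = v := fun b _ => hv b b.2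
      rw [Finset.sum_congr rfl h2, Finset.sum_const, Finset.card_univ, ← Nat.card_eq_fintype_card,
        Nat.cast_smul_eq_nsmul]
    rw [he0, LinearMap.zero_apply] at h1
    rcases smul_eq_zero.1 h1.symm with h2 | h2
    · exact absurd h2 hBF
    · exact h2
  -- subgroups of order `p` different from `B` have no fixed points in `Q`
  have hB' : ∀ B' : Subgroup Γ, B' ≤ A → Nat.card B' = p → B' ≠ B →
      Q ⊓ Subgroup.centralizer (B' : Set Γ) = ⊥ := by
    intro B' hB'A hB'c hne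
    have hsup : B ⊔ B' = A := by
      have h1 : B ⊔ B' ≤ A := sup_le hBA hB'A
      apply Subgroup.eq_of_le_of_card_ge h1
      have h2 : Nat.card (B ⊔ B' : Subgroup Γ) ∣ p ^ 2 := by
        rw [← hA2]; exact Subgroup.card_dvd_of_le h1
      by_contra h3
      have h4 : Nat.card (B ⊔ B' : Subgroup Γ) = p := by
        apply card_eq_of hp.out h2
        · intro h5
          have h6 := Subgroup.card_eq_one.1 h5
          have h7 : B = ⊥ := by rw [eq_bot_iff, ← h6]; exact le_sup_left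
          rw [h7, Subgroup.card_bot] at hBcard
          exact hp.out.one_lt.ne hBcard
        · intro h5
          apply h3
          rw [h5, hA2]
      have h5 : B = B ⊔ B' := Subgroup.eq_of_le_of_card_ge le_sup_left (by rw [h4, hBcard])
      have h6 : B' = B ⊔ B' := Subgroup.eq_of_le_of_card_ge le_sup_right (by rw [h4, hB'c])
      exact hne (h6.trans h5.symm)
    apply hcenter _ (hQs.to_le inf_le_left)
    set Y : Subgroup Γ := Q ⊓ Subgroup.centralizer (B' : Set Γ) with hY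
    have hAB' : A ≤ Subgroup.normalizer (B' : Set Γ) := by
      apply le_normalizer_of_conj
      intro a ha x hx
      rw [hAcomm a ha x (hB'A hx), mul_inv_cancel_right]
      exact hx
    have hAY : A ≤ Subgroup.normalizer (Y : Set Γ) :=
      le_normalizer_inf (hAtop Q hQn) (le_normalizer_centralizer hAB')
    set N : Subgroup Γ := Y ⊓ Subgroup.centralizer (Y : Set Γ) with hN
    have hAN : A ≤ Subgroup.normalizer (N : Set Γ) :=
      le_normalizer_inf hAY (le_normalizer_centralizer hAY)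
    have hNQ : N ≤ Q := inf_le_left.trans inf_le_left
    have hNF : (Nat.card N : F) ≠ 0 := T2.cast_card_ne_zero hsF (hQs.to_le hNQ)
    have hNab : ∀ a ∈ N, ∀ b ∈ N, a * b = b * a := fun a ha b hb =>
      (mem_inf_centralizer.1 ha).2 b (inf_le_left (a := Y) hb)
    rw [eq_bot_iff]
    intro x hx
    rw [Subgroup.mem_bot]
    apply hfQ x (hNQ hx)
    intro a ha
    -- `x` is centralised by `B` and `B'`
    have h1 : B ⊔ B' ≤ Subgroup.centralizer ({x} : Set Γ) := by
      apply sup_le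
      · intro b hb
        rw [Subgroup.mem_centralizer_iff]
        intro x' hx'
        rw [Set.mem_singleton_iff.1 hx']
        have h2 := comm_of_min ρ N hNF hNab B hBF (hBA.trans hAN) hfixB hb (by
          intro H hHB hH1
          have h3 : Nat.card H ∣ p := by rw [← hBcard]; exact Subgroup.card_dvd_of_le hHB
          rcases (Nat.dvd_prime hp.out).1 h3 with h4 | h4
          · exact absurd (Subgroup.card_eq_one.1 h4) hH1
          · have h5 : H = B := Subgroup.eq_of_le_of_card_ge hHB (by rw [h4, hBcard])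
            rw [h5]; exact hb) x hx
        have h3 : b * x * b⁻¹ * x⁻¹ = 1 := by
          apply hfaith
          · exact Q.mul_mem (hQn.conj_mem x (hNQ hx) b) (Q.inv_mem (hNQ hx))
          · have h4 : b * x * b⁻¹ * x⁻¹ = (b * x) * (x * b)⁻¹ := by group
            rw [h4, map_mul, h2, ← map_mul, mul_inv_cancel, map_one]
        have h4 : b * x = (b * x * b⁻¹ * x⁻¹) * (x * b) := by group
        rw [h4, h3, one_mul]
      · intro b hb
        rw [Subgroup.mem_centralizer_iff]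
        intro x' hx'
        rw [Set.mem_singleton_iff.1 hx']
        exact (mem_inf_centralizer.1 (inf_le_left (a := Y) hx)).2 b hb
    rw [hsup] at h1
    exact ((Subgroup.mem_centralizer_iff.1 (h1 ha)) x rfl).symm
  -- `B` centralises `Q`
  have hA1 : A ≠ ⊥ := by
    rintro rfl
    rw [Subgroup.card_bot] at hA2
    have := hp.out.one_lt
    nlinarith
  have hBQ : ∀ x ∈ Q, ∀ b ∈ B, x * b = b * x := by
    have hcopQ : (Nat.card Q).Coprime p :=
      ((Nat.Prime.coprime_iff_not_dvd hp.out).2 (hpnd hs hsp hQs)).symm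
    have h1 := Cfsg.Agent.Lib.CoprimeHyperplane.le_iSup_hyperplane A Q ⟨hAc, hAe⟩ hA1 hcopQ
      (hAtop Q hQn)
    have h2 : Q ≤ Q ⊓ Subgroup.centralizer (B : Set Γ) := by
      conv_lhs => rw [h1]
      apply iSup_le
      rintro ⟨B', hB'A, hB'i⟩
      have h3 : Nat.card B' = p := by
        have h4 := (B'.subgroupOf A).card_mul_index
        have h5 : (B'.subgroupOf A).index = p := hB'i
        have h6 : Nat.card (B'.subgroupOf A) = Nat.card B' :=
          Nat.card_congr (Subgroup.subgroupOfEquivOfLe hB'A).toEquiv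
        rw [h5, h6, hA2, sq] at h4
        exact Nat.eq_of_mul_eq_mul_right hp.out.pos h4
      show Q ⊓ Subgroup.centralizer (B' : Set Γ) ≤ _
      by_cases h4 : B' = B
      · rw [h4]
      · 
        rw [hB' B' hB'A h3 h4]; exact bot_le
    intro x hx
    exact (mem_inf_centralizer.1 (h2 hx)).2
  -- `⁅P, B⁆` centralises `Q`
  have hPBQ : ⁅⁅P, B⁆, Q⁆ = ⊥ := by
    apply Subgroup.commutator_commutator_eq_bot_of_rotate
    · have h1 : ⁅B, Q⁆ = ⊥ := by
        rw [MinAct.commutator_eq_bot_iff]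
        intro b hb x hx
        exact (hBQ x hx b hb).symm
      rw [h1, Subgroup.commutator_bot_left]
    · rw [eq_bot_iff]
      have h1 : ⁅Q, P⁆ ≤ Q := Subgroup.commutator_le_left Q P
      refine (Subgroup.commutator_mono h1 le_rfl).trans ?_
      rw [← eq_bot_iff, MinAct.commutator_eq_bot_iff]
      exact hBQ
  -- `C_P(B)` centralises `Q`
  set P₁ : Subgroup Γ := P ⊓ Subgroup.centralizer (B : Set Γ) with hP₁
  have hP₁r : IsPGroup r P₁ := hPr.to_le inf_le_left
  have hAB : A ≤ Subgroup.normalizer (B : Set Γ) := by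
    apply le_normalizer_of_conj
    intro a ha x hx
    rw [hAcomm a ha x (hBA hx), mul_inv_cancel_right]
    exact hx
  have hAP₁ : A ≤ Subgroup.normalizer (P₁ : Set Γ) :=
    le_normalizer_inf hAP (le_normalizer_centralizer hAB)
  have hcopPQ : (Nat.card P₁).Coprime (Nat.card Q) := by
    obtain ⟨i, hi⟩ := IsPGroup.iff_card.1 hP₁r
    obtain ⟨j, hj⟩ := IsPGroup.iff_card.1 hQs
    rw [hi, hj]
    exact Nat.Coprime.pow _ _ ((Nat.coprime_primes hr hs).2 hrs)
  have hP₁Q : P₁ ⊓ Q = ⊥ := Subgroup.inf_eq_bot_of_coprime hcopPQ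
  obtain ⟨a, haA, haB⟩ : ∃ a ∈ A, a ∉ B := by
    by_contra hcon
    push Not at hcon
    have h1 := Subgroup.card_le_of_le (show A ≤ B from hcon)
    rw [hA2, hBcard] at h1
    have := hp.out.one_lt
    nlinarith
  have hBa : B ⊔ Subgroup.zpowers a = A := by
    have h1 : B ⊔ Subgroup.zpowers a ≤ A := sup_le hBA (by rwa [Subgroup.zpowers_le])
    apply Subgroup.eq_of_le_of_card_ge h1
    have h2 : Nat.card (B ⊔ Subgroup.zpowers a : Subgroup Γ) ∣ p ^ 2 := by
      rw [← hA2]; exact Subgroup.card_dvd_of_le h1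
    by_contra h3
    have h4 : Nat.card (B ⊔ Subgroup.zpowers a : Subgroup Γ) = p := by
      apply card_eq_of hp.out h2
      · intro h5
        have h6 := Subgroup.card_eq_one.1 h5
        have h7 : B = ⊥ := by rw [eq_bot_iff, ← h6]; exact le_sup_left
        rw [h7, Subgroup.card_bot] at hBcard
        exact hp.out.one_lt.ne hBcard
      · intro h5
        apply h3
        rw [h5, hA2]
    have h5 : B = B ⊔ Subgroup.zpowers a :=
      Subgroup.eq_of_le_of_card_ge le_sup_left (by rw [h4, hBcard])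
    apply haB
    rw [h5]
    exact (le_sup_right : Subgroup.zpowers a ≤ _) (Subgroup.mem_zpowers a)
  have hKnil : Group.IsNilpotent (P₁ ⊔ Q : Subgroup Γ) := by
    apply Cfsg.Agent.OddOrderLocal.FpfSolvable.isNilpotent_of_fpf_elem (P₁ ⊔ Q)
      (isSolvable_sup hP₁r hQs hQn) a
      ((le_normalizer_sup hAP₁ (hAtop Q hQn)) haA) hp.out (hAe a haA)
    intro x hx hax
    obtain ⟨c, hc, y, hy, rfl⟩ := Subgroup.mem_sup_of_normal_right.1 hx
    -- `c * y` is centralised by `A`
    have h1 : A ≤ Subgroup.centralizer ({c * y} : Set Γ) := by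
      rw [← hBa]
      apply sup_le
      · intro b hb
        rw [Subgroup.mem_centralizer_iff]
        intro x' hx'
        rw [Set.mem_singleton_iff.1 hx', mul_assoc, hBQ y hy b hb, ← mul_assoc, ← mul_assoc,
          (mem_inf_centralizer.1 hc).2 b hb]
      · rw [Subgroup.zpowers_le, Subgroup.mem_centralizer_iff]
        intro x' hx'
        rw [Set.mem_singleton_iff.1 hx', hax]
    have h2 : ∀ a' ∈ A, a' * c = c * a' := by
      intro a' ha'
      have h3 := (Subgroup.mem_centralizer_iff.1 (h1 ha')) (c * y) rfl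
      have h4 : c⁻¹ * (a' * c * a'⁻¹) ∈ P₁ ⊓ Q := by
        refine ⟨P₁.mul_mem (P₁.inv_mem hc) (conj_of_le_normalizer hAP₁ ha' hc), ?_⟩
        have h5 : c⁻¹ * (a' * c * a'⁻¹) = y * (a' * y⁻¹ * a'⁻¹) := by
          have h6 : a' * c * a'⁻¹ = (a' * (c * y)) * y⁻¹ * a'⁻¹ := by group
          rw [h6, ← h3]; group
        rw [h5]
        exact Q.mul_mem hy (hQn.conj_mem _ (Q.inv_mem hy) a')
      rw [hP₁Q, Subgroup.mem_bot] at h4
      have h5 : a' * c * a'⁻¹ = c := (inv_mul_eq_one.1 h4).symm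
      exact mul_inv_eq_iff_eq_mul.1 h5
    have hc1 : c = 1 := hfP c hc.1 h2
    have hy1 : y = 1 := by
      apply hfQ y hy
      intro a' ha'
      have h3 := (Subgroup.mem_centralizer_iff.1 (h1 ha')) (c * y) rfl
      rw [hc1, one_mul] at h3
      exact h3.symm
    rw [hc1, hy1, mul_one]
  have hP₁C : P₁ ≤ Subgroup.centralizer (Q : Set Γ) :=
    Cfsg.Agent.Lib.NilpotentCoprime.le_centralizer_of_coprime hKnil le_sup_left le_sup_right hcopPQ
  intro u hu y hy
  have hBp : IsPGroup p B := hAp.to_le hBA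
  obtain ⟨m, hm, c, hc, rfl⟩ := exists_commutator_mul_fixed_of_isPGroup p B P hBp (hBA.trans hAP)
    (hpnd hr hrp hPr) u hu
  have h1 : m * y = y * m := (MinAct.commutator_eq_bot_iff.1 hPBQ) m hm y hy
  have h2 : c * y = y * c := ((Subgroup.mem_centralizer_iff.1 (hP₁C hc)) y hy).symm
  rw [mul_assoc, h2, ← mul_assoc, h1, mul_assoc]

theorem coprime_card {Γ : Type*} [Group Γ] [Finite Γ] {r s : ℕ} (hr : r.Prime) (hs : s.Prime)
    (hrs : r ≠ s) {P Q : Subgroup Γ} (hP : IsPGroup r P) (hQ : IsPGroup s Q) :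
    (Nat.card P).Coprime (Nat.card Q) := by
  have : Fact r.Prime := ⟨hr⟩
  have : Fact s.Prime := ⟨hs⟩
  obtain ⟨i, hi⟩ := IsPGroup.iff_card.1 hP
  obtain ⟨j, hj⟩ := IsPGroup.iff_card.1 hQ
  rw [hi, hj]
  exact Nat.Coprime.pow _ _ ((Nat.coprime_primes hr hs).2 hrs)

theorem ward_irr (ρ : Representation F Γ V) {A P Q : Subgroup Γ} {r s : ℕ} (hr : r.Prime)
    (hs : s.Prime) (hrp : r ≠ p) (hsp : s ≠ p) (hrs : r ≠ s) (hPr : IsPGroup r P)
    (hQs : IsPGroup s Q) (hgen : P ⊔ Q ⊔ A = ⊤) (hA : Cfsg.IsElementaryAbelian p A)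
    (hA2 : Nat.card A = p ^ 2) (hAP : A ≤ Subgroup.normalizer (P : Set Γ)) (hQn : Q.Normal)
    (hfP : ∀ x ∈ P, (∀ a ∈ A, a * x = x * a) → x = 1)
    (hfQ : ∀ x ∈ Q, (∀ a ∈ A, a * x = x * a) → x = 1) (hpF : (p : F) ≠ 0) (hsF : (s : F) ≠ 0)
    (hV : ∀ v, (∀ a ∈ A, ρ a v = v) → v = 0) (hnt : Nontrivial V) (hirr : Irr ρ) :
    ∀ u ∈ P, ∀ y ∈ Q, ρ (u * y) = ρ (y * u) := by
  have hrf : Fact r.Prime := ⟨hr⟩
  have hsf : Fact s.Prime := ⟨hs⟩
  have hkn : (MonoidHom.ker ρ).Normal := MonoidHom.normal_ker ρ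
  let K : Subgroup Γ := Q ⊓ MonoidHom.ker ρ
  have hKn : K.Normal := inferInstance
  have hKQ : K ≤ Q := inf_le_left
  have hPQ : P ⊓ Q = ⊥ := Subgroup.inf_eq_bot_of_coprime (coprime_card hr hs hrs hPr hQs)
  have hAp : IsPGroup p A := IsPGroup.of_card hA2
  have hpK : ¬ p ∣ Nat.card K := by
    obtain ⟨j, hj⟩ := IsPGroup.iff_card.1 (hQs.to_le hKQ)
    rw [hj]
    intro hd
    exact hsp ((Nat.prime_dvd_prime_iff_eq hp.out hs).1 (hp.out.dvd_of_dvd_pow hd)).symm
  let ρ' : Representation F (Γ ⧸ K) V := QuotientGroup.lift K ρ inf_le_right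
  have hρ' : ∀ g, ρ' (QuotientGroup.mk' K g) = ρ g := fun g => rfl
  obtain ⟨_, hA', hA2'⟩ := (closed_wp p).quot Γ A A K hpK ⟨rfl, hA, hA2⟩
  have hs' := QuotientGroup.mk'_surjective K
  have key := ward_core ρ' (A := A.map (QuotientGroup.mk' K)) (P := P.map (QuotientGroup.mk' K))
    (Q := Q.map (QuotientGroup.mk' K)) hr hs hrp hsp hrs (hPr.map _) (hQs.map _)
    (by rw [← Subgroup.map_sup, ← Subgroup.map_sup, hgen, Subgroup.map_top_of_surjective _ hs'])
    hA' hA2' (by
      apply le_normalizer_of_conj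
      rintro _ ⟨a, ha, rfl⟩ _ ⟨x, hx, rfl⟩
      exact ⟨a * x * a⁻¹, conj_of_le_normalizer hAP ha hx, by rw [map_mul, map_mul, map_inv]⟩)
    (hQn.map _ hs') (by
      rintro _ ⟨x, hx, rfl⟩ hfix
      have h1 : x = 1 := by
        apply hfP x hx
        intro a ha
        have h2 := hfix (QuotientGroup.mk' K a) ⟨a, ha, rfl⟩
        have h3 : x⁻¹ * (a * x * a⁻¹) ∈ P ⊓ Q := by
          refine ⟨P.mul_mem (P.inv_mem hx) (conj_of_le_normalizer hAP ha hx), hKQ ?_⟩
          rw [← QuotientGroup.eq]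
          show QuotientGroup.mk' K x = QuotientGroup.mk' K (a * x * a⁻¹)
          rw [map_mul, map_mul, h2, map_inv, mul_inv_cancel_right]
        rw [hPQ, Subgroup.mem_bot] at h3
        exact mul_inv_eq_iff_eq_mul.1 (inv_mul_eq_one.1 h3).symm
      rw [h1, map_one]) (by
      rintro _ ⟨x, hx, rfl⟩ hfix
      refine (QuotientGroup.eq_one_iff x).2 ?_
      refine mem_of_fixed_mod hAp hfQ hKQ hpK
        (by rw [Subgroup.normalizer_eq_top_iff.2 hKn]; exact le_top) hx ?_
      intro a ha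
      have h1 := hfix (QuotientGroup.mk' K a) ⟨a, ha, rfl⟩
      rw [← QuotientGroup.eq]
      show QuotientGroup.mk' K x = QuotientGroup.mk' K (a * x * a⁻¹)
      rw [map_mul, map_mul, h1, map_inv, mul_inv_cancel_right]) hpF hsF (by
      intro v hv
      exact hV v (fun a ha => hv _ ⟨a, ha, rfl⟩)) hnt (by
      intro W hW
      exact hirr W (fun g w hw => hW (QuotientGroup.mk' K g) w hw)) (by
      rintro _ ⟨y, hy, rfl⟩ hy1
      exact (QuotientGroup.eq_one_iff y).2 ⟨hy, MonoidHom.mem_ker.2 hy1⟩)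
  intro u hu y hy
  have h1 := key (QuotientGroup.mk' K u) ⟨u, hu, rfl⟩ (QuotientGroup.mk' K y) ⟨y, hy, rfl⟩
  rw [← map_mul, ← map_mul] at h1
  rw [← hρ', ← hρ', h1]

end core

theorem t3_ward {p : ℕ} [hp : Fact p.Prime] : T3 p (WP.{u} p) := by
  rintro Γ _ _ A D P Q r s F _ _ V _ _ _ ρ ⟨rfl, hA, hA2⟩ hAp hr hs hrp hsp hrs hPr hQs hAP hAQ hPQ
    hfP hfQ hpF hsF hV u hu y hy
  have hrf : Fact r.Prime := ⟨hr⟩
  have hsf : Fact s.Prime := ⟨hs⟩
  have huP : u ∈ P := commutator_le_left hAP hu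
  let M : Subgroup Γ := P ⊔ Q ⊔ D
  have hPM : P ≤ M := le_sup_left.trans le_sup_left
  have hQM : Q ≤ M := le_sup_right.trans le_sup_left
  have hAM : D ≤ M := le_sup_right
  have hMQ : M ≤ Subgroup.normalizer (Q : Set Γ) := sup_le (sup_le hPQ Subgroup.le_normalizer) hAQ
  have hcA : Nat.card (D.subgroupOf M) = Nat.card D :=
    Nat.card_congr (Subgroup.subgroupOfEquivOfLe hAM).toEquiv
  have hAF : (Nat.card (D.subgroupOf M) : F) ≠ 0 := by
    rw [hcA]
    exact T2.cast_card_ne_zero hpF hAp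
  have hQF : (Nat.card Q : F) ≠ 0 := T2.cast_card_ne_zero hsF hQs
  have hgQ : u * y * u⁻¹ * y⁻¹ ∈ Q :=
    Q.mul_mem (conj_of_le_normalizer hPQ huP hy) (Q.inv_mem hy)
  have hgM : u * y * u⁻¹ * y⁻¹ ∈ M := hQM hgQ
  have hpow : (⟨u * y * u⁻¹ * y⁻¹, hgM⟩ : M) ^ Nat.card Q = 1 := by
    have h1 := congrArg Subtype.val (pow_card_eq_one' (x := (⟨_, hgQ⟩ : Q)))
    exact Subtype.ext h1
  have hAM' : Cfsg.IsElementaryAbelian p (D.subgroupOf M) := by
    obtain ⟨hc, he⟩ := hA
    refine ⟨⟨⟨?_⟩⟩, ?_⟩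
    · rintro ⟨⟨a, ha'⟩, ha⟩ ⟨⟨b, hb'⟩, hb⟩
      apply Subtype.ext
      apply Subtype.ext
      show a * b = b * a
      exact congrArg Subtype.val (hc.1.comm (⟨a, ha⟩ : D) ⟨b, hb⟩)
    · rintro ⟨a, ha'⟩ ha
      exact Subtype.ext (he a ha)
  have hQe : (Q.subgroupOf M).map M.subtype = Q := by
    rw [Subgroup.subgroupOf_map_subtype, inf_eq_left.2 hQM]
  have hPe : (P.subgroupOf M).map M.subtype = P := by
    rw [Subgroup.subgroupOf_map_subtype, inf_eq_left.2 hPM]
  have hDe : (D.subgroupOf M).map M.subtype = D := by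
    rw [Subgroup.subgroupOf_map_subtype, inf_eq_left.2 hAM]
  have key := of_irr (D.subgroupOf M) hAF (⟨u * y * u⁻¹ * y⁻¹, hgM⟩ : M) hQF hpow (by
    intro V' _ _ _ ρ' hnt hirr hV'
    have h1 := ward_irr (p := p) ρ' (A := D.subgroupOf M) (P := P.subgroupOf M)
      (Q := Q.subgroupOf M) hr hs hrp hsp hrs
      (hPr.of_equiv (Subgroup.subgroupOfEquivOfLe hPM).symm)
      (hQs.of_equiv (Subgroup.subgroupOfEquivOfLe hQM).symm)
      (by
        apply Subgroup.map_injective M.subtype_injective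
        rw [Subgroup.map_sup, Subgroup.map_sup, hQe, hPe, hDe, ← MonoidHom.range_eq_map,
          Subgroup.range_subtype])
      hAM' (by rw [hcA]; exact hA2) (by
        apply le_normalizer_of_conj
        intro a ha x hx
        exact conj_of_le_normalizer (a := (a : Γ)) (x := (x : Γ)) hAP ha hx)
      (Subgroup.normal_subgroupOf_of_le_normalizer hMQ)
      (fun x hx hfix => Subtype.ext (hfP x hx (fun a ha => congrArg Subtype.val
        (hfix ⟨a, hAM ha⟩ ha))))
      (fun x hx hfix => Subtype.ext (hfQ x hx (fun a ha => congrArg Subtype.val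
        (hfix ⟨a, hAM ha⟩ ha)))) hpF hsF hV' hnt hirr ⟨u, hPM huP⟩ huP ⟨y, hQM hy⟩ hy
    have h2 : (⟨u * y * u⁻¹ * y⁻¹, hgM⟩ : M) =
        (⟨u, hPM huP⟩ * ⟨y, hQM hy⟩) * (⟨y, hQM hy⟩ * ⟨u, hPM huP⟩)⁻¹ := by
      apply Subtype.ext
      show u * y * u⁻¹ * y⁻¹ = (u * y) * (y * u)⁻¹
      group
    rw [h2, map_mul, h1, ← map_mul, mul_inv_cancel, map_one]) _ V (ρ.comp M.subtype) rfl (by
    intro v hv
    exact hV v (fun a ha => hv ⟨a, hAM ha⟩ ha))
  have h3 : ρ (u * y * u⁻¹ * y⁻¹) = 1 := key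
  have h4 : u * y = (u * y * u⁻¹ * y⁻¹) * (y * u) := by group
  rw [h4, map_mul, h3, one_mul]

end Cfsg.Agent.H452.Ward
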